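import Mathlib.GroupTheory.Sylow
import Mathlib.Algebra.Group.Pointwise.Set.Card
import Mathlib.GroupTheory.Nilpotent
import Mathlib.GroupTheory.Subgroup.Centralizer
import Mathlib.Algebra.BigOperators.Group.Finset.Basic
import Cfsg.Agent.H84.Invariant
import Cfsg.Agent.H84.PQLemma

/-!
A noncyclic elementary abelian `p`-group acting on a nontrivial `p'`-group of prime power order has
nontrivial fixed points for some subgroup of index at most `p`.
-/

set_option autoImplicit false

namespace H84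

open scoped IsMulCommutative Pointwise

/-- If all the `p + 1` "lines" of two commuting automorphisms of order `p` act fixed-point-freely
on an abelian group, the group has exponent dividing `p`. -/
theorem pow_eq_one_of_lines {V : Type*} [CommGroup V] {p : ℕ} [Fact p.Prime] (σ τ : MulAut V)
    (hc : Commute σ τ) (hσ : σ ^ p = 1) (hτ : τ ^ p = 1)
    (hτf : ∀ v, τ v = v → v = 1) (hf : ∀ i : ℕ, ∀ v, (σ * τ ^ i) v = v → v = 1) (v : V) :
    v ^ p = 1 := by
  classical
  have norm : ∀ a : MulAut V, a ^ p = 1 → (∀ w, a w = w → w = 1) → ∀ w,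
      (∏ j ∈ Finset.range p, (a ^ j) w) = 1 := by
    intro a ha hfa w
    apply hfa
    rw [map_prod]
    have h1 : ∀ j, a ((a ^ j) w) = (a ^ (j + 1)) w := fun j => by rw [pow_succ', MulAut.mul_apply]
    simp only [h1]
    have h2 := Finset.prod_range_succ' (fun j => (a ^ j) w) p
    rw [Finset.prod_range_succ] at h2
    simp only [ha, pow_zero] at h2
    exact (mul_right_cancel h2).symm
  have hrow : ∀ i : ℕ, (∏ j ∈ Finset.range p, (σ ^ j * τ ^ (i * j)) v) = 1 := by
    intro i
    have hpow : (σ * τ ^ i) ^ p = 1 := by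
      rw [(hc.pow_right i).mul_pow, hσ, ← pow_mul, mul_comm, pow_mul, hτ, one_pow, one_mul]
    refine Eq.trans (Finset.prod_congr rfl fun j _ => ?_) (norm _ hpow (hf i) v)
    rw [(hc.pow_right i).mul_pow, pow_mul]
  have hall : (∏ i ∈ Finset.range p, ∏ j ∈ Finset.range p, (σ ^ j * τ ^ (i * j)) v) = 1 :=
    Finset.prod_eq_one fun i _ => hrow i
  rw [Finset.prod_comm] at hall
  have hp0 : 0 < p := (Fact.out : p.Prime).pos
  have hcol : ∀ j ∈ Finset.range p, j ≠ 0 →
      (∏ i ∈ Finset.range p, (σ ^ j * τ ^ (i * j)) v) = 1 := by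
    intro j hj hj0
    simp only [MulAut.mul_apply, ← map_prod]
    rw [map_eq_one_iff _ (σ ^ j).injective]
    refine Eq.trans ?_ (norm τ hτ hτf v)
    have hjp : Nat.Coprime p j := (Nat.Prime.coprime_iff_not_dvd Fact.out).mpr fun h =>
      hj0 (Nat.eq_zero_of_dvd_of_lt h (Finset.mem_range.mp hj))
    refine Finset.prod_bij (fun i _ => i * j % p) (fun i _ => Finset.mem_range.mpr (Nat.mod_lt _ hp0))
      ?_ ?_ ?_
    · intro a ha b hb h
      have h1 : a % p = b % p := Nat.ModEq.cancel_right_of_coprime hjp h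
      rwa [Nat.mod_eq_of_lt (Finset.mem_range.mp ha), Nat.mod_eq_of_lt (Finset.mem_range.mp hb)] at h1
    · intro b hb
      have hinj : Function.Injective (fun i : Fin p => (⟨i.1 * j % p, Nat.mod_lt _ hp0⟩ : Fin p)) := by
        intro a c h
        have h1 : a.1 % p = c.1 % p := Nat.ModEq.cancel_right_of_coprime hjp (congrArg Fin.val h)
        rw [Nat.mod_eq_of_lt a.2, Nat.mod_eq_of_lt c.2] at h1
        exact Fin.ext h1
      obtain ⟨a, ha⟩ := (Finite.injective_iff_surjective.mp hinj) ⟨b, Finset.mem_range.mp hb⟩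
      exact ⟨a.1, Finset.mem_range.mpr a.2, congrArg Fin.val ha⟩
    · intro i _
      have : τ ^ (i * j) = τ ^ (i * j % p) := by
        conv_lhs => rw [← Nat.div_add_mod (i * j) p, pow_add, pow_mul, hτ, one_pow, one_mul]
      rw [this]
  rw [Finset.prod_eq_single_of_mem 0 (Finset.mem_range.mpr hp0) hcol] at hall
  simpa using hall

variable {G : Type*} [Group G]

theorem exists_fixed_of_lines [Finite G] {p : ℕ} [Fact p.Prime] (V : Subgroup G) [IsMulCommutative V]
    (hV : V ≠ ⊥) (hp : ¬ p ∣ Nat.card V) {σ τ : G} (hσN : σ ∈ Subgroup.normalizer (V : Set G))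
    (hτN : τ ∈ Subgroup.normalizer (V : Set G)) (hc : σ * τ = τ * σ) (hσ : σ ^ p = 1)
    (hτ : τ ^ p = 1) :
    ∃ a, (a = τ ∨ ∃ i, a = σ * τ ^ i) ∧ V ⊓ Subgroup.centralizer ({a} : Set G) ≠ ⊥ := by
  by_contra hcon
  push Not at hcon
  apply hV
  rw [Subgroup.eq_bot_iff_forall]
  intro v hv
  let φ := V.normalizerMonoidHom
  let s : Subgroup.normalizer (V : Set G) := ⟨σ, hσN⟩
  let t : Subgroup.normalizer (V : Set G) := ⟨τ, hτN⟩
  have hfree : ∀ a : Subgroup.normalizer (V : Set G), ((a : G) = τ ∨ ∃ i, (a : G) = σ * τ ^ i) →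
      ∀ w : V, φ a w = w → w = 1 := by
    intro a ha w hw
    have hb := hcon (a : G) ha
    have h1 : (w : G) ∈ V ⊓ Subgroup.centralizer ({(a : G)} : Set G) :=
      ⟨w.2, Subgroup.mem_centralizer_singleton_iff.mpr
        (mul_inv_eq_iff_eq_mul.mp (congrArg Subtype.val hw : (a : G) * w * (a : G)⁻¹ = w)).symm⟩
    rw [hb] at h1
    exact Subtype.ext (Subgroup.mem_bot.mp h1)
  have h := pow_eq_one_of_lines (p := p) (φ s) (φ t)
    (Commute.map (show Commute s t from Subtype.ext hc) φ)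
    (by rw [← map_pow, show s ^ p = 1 from Subtype.ext hσ, map_one])
    (by rw [← map_pow, show t ^ p = 1 from Subtype.ext hτ, map_one])
    (fun w hw => hfree t (Or.inl rfl) w hw)
    (fun i w hw => hfree (s * t ^ i) (Or.inr ⟨i, rfl⟩) w (by rw [map_mul, map_pow]; exact hw))
    ⟨v, hv⟩
  exact eq_one_of_pow_coprime ((Nat.Prime.coprime_iff_not_dvd Fact.out).mpr hp)
    (congrArg Subtype.val h) (pow_card_eq_one_of_mem hv)

theorem card_sup_le_mul [Finite G] {H K : Subgroup G} (h : H ≤ Subgroup.normalizer (K : Set G)) :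
    Nat.card ↥(H ⊔ K) ≤ Nat.card H * Nat.card K := by
  have h1 : Nat.card ↥(H ⊔ K) = Nat.card ↑((H : Set G) * (K : Set G)) :=
    Nat.card_congr (Equiv.setCongr (Subgroup.coe_mul_of_left_le_normalizer_right H K h))
  rw [h1]
  exact Set.natCard_mul_le

/-- Some subgroup of index at most `p` of an elementary abelian group has nontrivial fixed points. -/
theorem exists_large_fixed [Finite G] {H : Type*} [Group H] [Finite H] (f : G →* H)
    {p q : ℕ} [Fact p.Prime] [Fact q.Prime] (hqp : q ≠ p)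
    {A : Subgroup G} (hA : ∀ a ∈ A, a ^ p = 1) (hAc : ∀ a ∈ A, ∀ b ∈ A, a * b = b * a)
    {R : Subgroup H} (hR : IsPGroup q R) (hR1 : R ≠ ⊥)
    (hAR : A.map f ≤ Subgroup.normalizer (R : Set H)) :
    ∃ B ≤ A, Nat.card A ≤ p * Nat.card B ∧
      R ⊓ Subgroup.centralizer ((B.map f : Subgroup H) : Set H) ≠ ⊥ := by
  obtain ⟨B, -, hB⟩ := Set.Finite.exists_le_maximal
    (s := {B : Subgroup G | B ≤ A ∧ R ⊓ Subgroup.centralizer ((B.map f : Subgroup H) : Set H) ≠ ⊥})
    (Set.toFinite _) (a := (⊥ : Subgroup G)) ⟨bot_le, by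
      rw [Subgroup.map_bot]
      intro h
      apply hR1
      rw [← h, left_eq_inf]
      intro x _
      exact Subgroup.mem_centralizer_iff.mpr (by rintro y (rfl : y = 1); simp)⟩
  obtain ⟨hBA, hBfix⟩ := hB.prop
  refine ⟨B, hBA, ?_, hBfix⟩
  by_contra hlt
  push Not at hlt
  have hp := (Fact.out : p.Prime)
  obtain ⟨σ, hσA, hσB⟩ : ∃ σ ∈ A, σ ∉ B := by
    by_contra h
    push Not at h
    exact absurd (Subgroup.card_le_of_le (h : A ≤ B))
      (not_le.mpr (lt_of_le_of_lt (Nat.le_mul_of_pos_left _ hp.pos) hlt))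
  obtain ⟨τ, hτA, hτB⟩ : ∃ τ ∈ A, τ ∉ Subgroup.zpowers σ ⊔ B := by
    by_contra h
    push Not at h
    have h1 : Subgroup.zpowers σ ≤ Subgroup.normalizer (B : Set G) := by
      refine le_normalizer_of_conj fun a ha b hb => ?_
      rw [hAc a (Subgroup.zpowers_le.mpr hσA ha) b (hBA hb), mul_inv_cancel_right]
      exact hb
    have h2 : Nat.card (Subgroup.zpowers σ) ≤ p := by
      rw [Nat.card_zpowers]
      exact Nat.le_of_dvd hp.pos (orderOf_dvd_of_pow_eq_one (hA σ hσA))
    exact absurd ((Subgroup.card_le_of_le (h : A ≤ _)).trans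
      ((card_sup_le_mul h1).trans (Nat.mul_le_mul_right _ h2))) (not_le.mpr hlt)
  -- the `q`-group of fixed points and its centre
  set W := R ⊓ Subgroup.centralizer ((B.map f : Subgroup H) : Set H) with hW
  have hWq : IsPGroup q W := hR.to_inf_left
  have : Nontrivial W := (Subgroup.nontrivial_iff_ne_bot W).mpr hBfix
  set V : Subgroup H := (Subgroup.center W).map W.subtype with hVdef
  have hVc : IsMulCommutative V := inferInstance
  have hV1 : V ≠ ⊥ := by
    rw [hVdef, ne_eq, Subgroup.map_eq_bot_iff_of_injective _ W.subtype_injective]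
    exact (hWq.bot_lt_center).ne'
  have hVp : ¬ p ∣ Nat.card V := by
    obtain ⟨n, hn⟩ := IsPGroup.iff_card.mp ((hWq.to_subgroup (Subgroup.center W)).map W.subtype)
    intro h
    have : p ∣ q := hp.dvd_of_dvd_pow (hn ▸ h)
    exact hqp ((Nat.prime_dvd_prime_iff_eq hp Fact.out).mp this).symm
  have hnorm : ∀ a ∈ A, f a ∈ Subgroup.normalizer (V : Set H) := by
    have key : A.map f ≤ Subgroup.normalizer (V : Set H) := by
      refine le_normalizer_of_conj ?_
      rintro _ ⟨a, ha, rfl⟩ _ ⟨w, hw, rfl⟩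
      have hmemW : ∀ g ∈ A, ∀ w : W, f g * (w : H) * (f g)⁻¹ ∈ W := by
        intro g hg w
        refine ⟨conj_mem_of_le_normalizer hAR (Subgroup.mem_map_of_mem f hg) w.2.1,
          mem_centralizer_of_conj ?_⟩
        rintro _ ⟨b, hb, rfl⟩
        calc f b * (f g * (w : H) * (f g)⁻¹) * (f b)⁻¹
            = f (b * g) * (w : H) * (f (b * g))⁻¹ := by simp [map_mul, mul_inv_rev, mul_assoc]
          _ = f g * (f b * (w : H) * (f b)⁻¹) * (f g)⁻¹ := by
              rw [← hAc g hg b (hBA hb)]; simp [map_mul, mul_inv_rev, mul_assoc]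
          _ = f g * (w : H) * (f g)⁻¹ := by
              rw [conj_eq_of_mem_centralizer w.2.2 (Subgroup.mem_map_of_mem f hb)]
      refine ⟨⟨_, hmemW a ha w⟩, Subgroup.mem_center_iff.mpr fun z => Subtype.ext ?_, rfl⟩
      have hz := hmemW a⁻¹ (A.inv_mem ha) z
      have h1 : (w : H) * _ = _ * (w : H) :=
        congrArg Subtype.val ((Subgroup.mem_center_iff.mp hw ⟨_, hz⟩).symm)
      simp only [map_inv, inv_inv] at h1
      calc (z : H) * (f a * (w : H) * (f a)⁻¹)
          = f a * (((f a)⁻¹ * z * f a) * w) * (f a)⁻¹ := by group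
        _ = f a * (w * ((f a)⁻¹ * z * f a)) * (f a)⁻¹ := by rw [h1]
        _ = f a * w * (f a)⁻¹ * z := by group
    exact fun a ha => key (Subgroup.mem_map_of_mem f ha)
  obtain ⟨_, hcase, hfix⟩ := exists_fixed_of_lines (p := p) V hV1 hVp (hnorm σ hσA) (hnorm τ hτA)
    (by rw [← map_mul, hAc σ hσA τ hτA, map_mul]) (by rw [← map_pow, hA σ hσA, map_one])
    (by rw [← map_pow, hA τ hτA, map_one])
  obtain ⟨a, haA, haB, hfix⟩ : ∃ a ∈ A, a ∉ B ∧
      V ⊓ Subgroup.centralizer ({f a} : Set H) ≠ ⊥ := by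
    rcases hcase with rfl | ⟨i, rfl⟩
    · exact ⟨τ, hτA, fun h => hτB (Subgroup.mem_sup_right h), hfix⟩
    · refine ⟨σ * τ ^ i, A.mul_mem hσA (A.pow_mem hτA i), fun h => ?_, by
        rw [map_mul, map_pow]; exact hfix⟩
      by_cases hi : p ∣ i
      · obtain ⟨k, rfl⟩ := hi
        rw [pow_mul, hA τ hτA, one_pow, mul_one] at h
        exact hσB h
      · have h1 : τ ^ i ∈ Subgroup.zpowers σ ⊔ B := by
          have := Subgroup.mul_mem _ ((Subgroup.zpowers σ ⊔ B).inv_mem
            (Subgroup.mem_sup_left (Subgroup.mem_zpowers σ))) (Subgroup.mem_sup_right h)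
          simpa using this
        obtain ⟨m, hm⟩ := exists_pow_eq_self_of_coprime (n := i) (x := τ)
          (Nat.Coprime.coprime_dvd_right (orderOf_dvd_of_pow_eq_one (hA τ hτA))
            ((Nat.Prime.coprime_iff_not_dvd hp).mpr hi).symm)
        exact hτB (hm ▸ Subgroup.pow_mem _ h1 m)
  have hbig : R ⊓ Subgroup.centralizer (((B ⊔ Subgroup.zpowers a).map f : Subgroup H) : Set H) ≠ ⊥ := by
    intro hbot
    apply hfix
    rw [← le_bot_iff, ← hbot]
    rintro x ⟨hxV, hxa⟩
    have hxW : x ∈ W := Subgroup.map_subtype_le _ hxV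
    refine ⟨hxW.1, ?_⟩
    have h1 : (B ⊔ Subgroup.zpowers a).map f ≤ Subgroup.centralizer ({x} : Set H) := by
      rw [Subgroup.map_sup, sup_le_iff, MonoidHom.map_zpowers, Subgroup.zpowers_le]
      refine ⟨fun b hb => Subgroup.mem_centralizer_singleton_iff.mpr
        (Subgroup.mem_centralizer_iff.mp hxW.2 b hb), Subgroup.mem_centralizer_singleton_iff.mpr
        (Subgroup.mem_centralizer_singleton_iff.mp hxa).symm⟩
    exact Subgroup.mem_centralizer_iff.mpr fun y hy =>
      Subgroup.mem_centralizer_singleton_iff.mp (h1 hy)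
  have hmax := hB.2 ⟨sup_le hBA (Subgroup.zpowers_le.mpr haA), hbig⟩ le_sup_left
  exact haB (hmax (Subgroup.mem_sup_right (Subgroup.mem_zpowers a)))

end H84
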