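import Mathlib
import Cfsg.Agent.H84.NoncyclicFixed
import Cfsg.Agent.H1.Hall
import Cfsg.Agent.H2.FPFSubgroup

/-!
Solvable groups all whose elements have prime power order.
-/

set_option autoImplicit false

namespace H84

variable {G : Type*} [Group G] [Finite G]

theorem eppo_not_commute (h : ∀ g : G, IsPrimePow (orderOf g) ∨ g = 1) {x y : G} {p q : ℕ}
    (hp : p.Prime) (hpx : p ∣ orderOf x) (hq : q.Prime) (hqy : q ∣ orderOf y) (hpq : p ≠ q) :
    x * y ≠ y * x := by
  intro hc
  set x' := x ^ (orderOf x / p)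
  set y' := y ^ (orderOf y / q)
  have hx' : orderOf x' = p := by
    rw [orderOf_pow_orderOf_div (orderOf_pos x).ne' hpx]
  have hy' : orderOf y' = q := by
    rw [orderOf_pow_orderOf_div (orderOf_pos y).ne' hqy]
  have hcop : (orderOf x').Coprime (orderOf y') := by
    rw [hx', hy']; exact (Nat.coprime_primes hp hq).mpr hpq
  have hcm : Commute x' y' := (Commute.pow_pow hc _ _)
  have hord := hcm.orderOf_mul_eq_mul_orderOf_of_coprime hcop
  rw [hx', hy'] at hord
  rcases h (x' * y') with hh | hh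
  · rw [hord, isPrimePow_iff_unique_prime_dvd] at hh
    obtain ⟨r, -, hu⟩ := hh
    exact hpq ((hu p ⟨hp, dvd_mul_right p q⟩).trans (hu q ⟨hq, dvd_mul_left q p⟩).symm)
  · rw [hh, orderOf_one] at hord
    exact hp.ne_one (Nat.eq_one_of_mul_eq_one_right hord.symm)

theorem eppo_primeFactors_le_two [Group.IsSolvable G] (h : ∀ g : G, IsPrimePow (orderOf g) ∨ g = 1) :
    (Nat.card G).primeFactors.card ≤ 2 := by
  classical
  by_contra hgt
  push Not at hgt
  have : Nontrivial G := by
    by_contra hn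
    rw [not_nontrivial_iff_subsingleton] at hn
    rw [Nat.card_unique] at hgt
    simp at hgt
  obtain ⟨p, N, hp, hNn, hN0, hNp⟩ := H1.exists_normal_pgroup_ne_bot G
  have := Fact.mk hp
  -- a Hall `p'`-subgroup
  obtain ⟨a, m, hm, hG⟩ := Nat.exists_eq_pow_mul_and_not_dvd (n := Nat.card G) Nat.card_pos.ne' p hp.ne_one
  have hm0 : m ≠ 0 := by rintro rfl; simp at hm
  have hcop : m.Coprime (p ^ a) := (Nat.Coprime.pow_left a (hp.coprime_iff_not_dvd.mpr hm)).symm
  obtain ⟨H, hH⟩ := H1.hall_exists m (p ^ a) (by rw [hG, mul_comm]) hcop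
  -- at least two primes divide `m`
  have hsub : (Nat.card G).primeFactors.erase p ⊆ m.primeFactors := by
    intro r hr
    obtain ⟨hrp, hr⟩ := Finset.mem_erase.mp hr
    obtain ⟨hr1, hr2, -⟩ := Nat.mem_primeFactors.mp hr
    rw [hG] at hr2
    rcases (Nat.Prime.dvd_mul hr1).mp hr2 with h2 | h2
    · exact absurd ((Nat.prime_dvd_prime_iff_eq hr1 hp).mp (hr1.dvd_of_dvd_pow h2)) hrp
    · exact Nat.mem_primeFactors.mpr ⟨hr1, h2, hm0⟩
  have hm2 : 2 ≤ m.primeFactors.card := by
    refine le_trans ?_ (Finset.card_le_card hsub)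
    have := Finset.pred_card_le_card_erase (s := (Nat.card G).primeFactors) (a := p)
    omega
  -- `H` acts without fixed points on `V = Z(N)`
  set V := (Subgroup.center N).map N.subtype
  have : Nontrivial N := (Subgroup.nontrivial_iff_ne_bot N).mpr hN0
  have hcen := hNp.center_nontrivial
  have hV0 : V ≠ ⊥ := by
    rw [ne_eq, Subgroup.map_eq_bot_iff_of_injective _ N.subtype_injective]
    exact (Subgroup.nontrivial_iff_ne_bot _).mp hcen
  have hVN : V ≤ N := Subgroup.map_subtype_le _
  have hVn : V.Normal := ConjAct.normal_of_characteristic_of_normal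
  have hfpf : ∀ x ∈ H, x ≠ 1 → V ⊓ Subgroup.centralizer {x} = ⊥ := by
    intro x hx hx1
    rw [Subgroup.eq_bot_iff_forall]
    intro v hv
    by_contra hv1
    obtain ⟨r, hr, hrx⟩ := Nat.exists_prime_and_dvd (mt orderOf_eq_one_iff.mp hx1)
    have hrp : r ≠ p := by
      rintro rfl
      apply hm
      have := orderOf_dvd_natCard (⟨x, hx⟩ : H)
      rw [← Subgroup.orderOf_coe, hH] at this
      exact hrx.trans this
    have hpv : p ∣ orderOf v := by
      obtain ⟨k, hk⟩ := IsPGroup.iff_orderOf.mp hNp ⟨v, hVN hv.1⟩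
      rw [← Subgroup.orderOf_coe] at hk
      change orderOf v = p ^ k at hk
      rcases k with _ | k
      · exact absurd (orderOf_eq_one_iff.mp (by simpa using hk)) hv1
      · exact hk ▸ dvd_pow_self p (Nat.succ_ne_zero k)
    exact eppo_not_commute h hp hpv hr hrx hrp.symm (Subgroup.mem_centralizer_singleton_iff.mp hv.2)
  have hHV : H ≤ Subgroup.normalizer (V : Set G) := by
    rw [Subgroup.normalizer_eq_top]; exact le_top
  have : IsMulCommutative V := inferInstance
  -- a minimal normal subgroup of `H`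
  have : Nontrivial H := by
    rw [← Finite.one_lt_card_iff_nontrivial, hH]
    rcases Nat.lt_or_ge 1 m with h1 | h1
    · exact h1
    · interval_cases m <;> simp_all
  obtain ⟨r, M, hr, hMn, hM0, hMr⟩ := H1.exists_normal_pgroup_ne_bot H
  have := Fact.mk hr
  have : Nontrivial M := (Subgroup.nontrivial_iff_ne_bot M).mpr hM0
  have hcenM := hMr.center_nontrivial
  set W := (Subgroup.center M).map M.subtype
  have hWn : W.Normal := ConjAct.normal_of_characteristic_of_normal
  have hW0 : W ≠ ⊥ := by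
    rw [ne_eq, Subgroup.map_eq_bot_iff_of_injective _ M.subtype_injective]
    exact (Subgroup.nontrivial_iff_ne_bot _).mp hcenM
  set A := W.map H.subtype
  have hAH : A ≤ H := Subgroup.map_subtype_le _
  have hA0 : A ≠ ⊥ := by rwa [ne_eq, Subgroup.map_eq_bot_iff_of_injective _ H.subtype_injective]
  have : IsMulCommutative A := inferInstance
  have hAc : IsCyclic A :=
    H2.isCyclic_of_fpf_subgroup A V (hAH.trans hHV) hV0 (fun a ha => hfpf a (hAH ha)) (Or.inl this)
  have hAr : IsPGroup r A := ((hMr.to_le (Subgroup.map_subtype_le _) : IsPGroup r W).map _)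
  have : Nontrivial A := (Subgroup.nontrivial_iff_ne_bot A).mpr hA0
  obtain ⟨z, hz⟩ := exists_prime_orderOf_dvd_card' (G := A) r
    ((hAr.card_eq_or_dvd).resolve_left Finite.one_lt_card.ne')
  set R := Subgroup.zpowers (z : G)
  have hRcard : Nat.card R = r := by rw [Nat.card_zpowers, Subgroup.orderOf_coe, hz]
  have hRA : R ≤ A := Subgroup.zpowers_le.mpr z.2
  -- a prime `q ≠ r`
  obtain ⟨q, hq, hqr⟩ := Finset.exists_mem_ne (by omega : 1 < m.primeFactors.card) r
  obtain ⟨hq, hqm, -⟩ := Nat.mem_primeFactors.mp hq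
  have := Fact.mk hq
  obtain ⟨y, hy⟩ := exists_prime_orderOf_dvd_card' (G := H) q (hH.symm ▸ hqm)
  have hyR : Subgroup.zpowers (y : G) ≤ Subgroup.normalizer (R : Set G) := by
    refine Subgroup.zpowers_le.mpr ?_
    have hconj : (y : G) * z * (y : G)⁻¹ ∈ R := by
      obtain ⟨w, hw, hwz⟩ := z.2
      have hmem : (y : G) * z * (y : G)⁻¹ ∈ A := ⟨y * w * y⁻¹, hWn.conj_mem w hw y, by simp [← hwz]⟩
      have he : Subgroup.zpowers (⟨_, hmem⟩ : A) = Subgroup.zpowers z := by
        let := hAc.commGroup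
        have hker : Nat.card (powMonoidHom r : A →* A).ker = r := by
          rw [IsCyclic.card_powMonoidHom_ker, Nat.gcd_eq_right]
          exact hz ▸ orderOf_dvd_natCard z
        have hall : ∀ w : A, orderOf w = r → Subgroup.zpowers w = (powMonoidHom r : A →* A).ker := fun w hw => by
          refine Subgroup.eq_of_le_of_card_ge (Subgroup.zpowers_le.mpr ?_) ?_
          · rw [MonoidHom.mem_ker, powMonoidHom_apply, ← hw, pow_orderOf_eq_one]
          · rw [hker, Nat.card_zpowers, hw]
        rw [hall z hz, hall _ ?_]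
        rw [← hz, ← Subgroup.orderOf_coe, ← Subgroup.orderOf_coe z]
        exact orderOf_injective (MulAut.conj (y : G)).toMonoidHom (MulAut.conj (y : G)).injective (z : G)
      obtain ⟨k, hk⟩ := Subgroup.mem_zpowers_iff.mp (he ▸ Subgroup.mem_zpowers (⟨_, hmem⟩ : A))
      exact Subgroup.mem_zpowers_iff.mpr ⟨k, by simpa using congrArg Subtype.val hk⟩
    rw [Subgroup.mem_normalizer_iff_map_conj_eq]
    refine Subgroup.eq_of_le_of_card_ge (show R.map (MulAut.conj (y : G)).toMonoidHom ≤ R from ?_) ?_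
    · rw [MonoidHom.map_zpowers]
      exact Subgroup.zpowers_le.mpr hconj
    · exact (Nat.card_congr (Subgroup.equivMapOfInjective _ _ (MulAut.conj (y : G)).injective).toEquiv).le
  set F := R ⊔ Subgroup.zpowers (y : G)
  have hFH : F ≤ H := sup_le (hRA.trans hAH) (Subgroup.zpowers_le.mpr y.2)
  have hYcard : Nat.card (Subgroup.zpowers (y : G)) = q := by rw [Nat.card_zpowers, Subgroup.orderOf_coe, hy]
  have hF : Nat.card F = r * q := by
    refine le_antisymm ?_ (Nat.le_of_dvd Nat.card_pos ((Nat.coprime_primes hr hq).mpr hqr.symm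
      |>.mul_dvd_of_dvd_of_dvd (hRcard ▸ Subgroup.card_dvd_of_le le_sup_left)
        (hYcard ▸ Subgroup.card_dvd_of_le le_sup_right)))
    have h1 := card_sup_le_mul hyR
    rwa [hRcard, hYcard, sup_comm, mul_comm] at h1
  have hFc : IsCyclic F :=
    H2.isCyclic_of_fpf_subgroup F V (hFH.trans hHV) hV0 (fun a ha => hfpf a (hFH ha))
      (Or.inr ⟨r, q, hr, hq, hF⟩)
  refine eppo_not_commute h hr (x := (z : G)) ?_ hq (y := (y : G)) ?_ hqr.symm ?_
  · rw [Subgroup.orderOf_coe, hz]
  · rw [Subgroup.orderOf_coe, hy]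
  · let := hFc.commGroup
    exact congrArg Subtype.val (mul_comm (⟨(z : G), Subgroup.mem_sup_left (Subgroup.mem_zpowers _)⟩ : F)
      ⟨(y : G), Subgroup.mem_sup_right (Subgroup.mem_zpowers _)⟩)

end H84
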