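import Mathlib
import Cfsg.Agent.H80.GL2Odd

/-!
Finite groups of odd order in `SL₂` of a field of odd characteristic `p`: any two elements of order
`p` commute.  No solvability is assumed; the proof is an elementary count of elements.
-/

set_option autoImplicit false

namespace H84

section Counting

variable {G : Type*} [Group G] [Finite G]

/-- The elements of `M` conjugate into `X` form `|M : T|` disjoint copies of `X`. -/
theorem card_conjugates_of_ti {M T : Subgroup G} {X : Set G}
    (hinv : ∀ t ∈ T, ∀ b ∈ X, t * b * t⁻¹ ∈ X)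
    (hti : ∀ k ∈ M, ∀ b ∈ X, k * b * k⁻¹ ∈ X → k ∈ T) :
    Nat.card {g : G | ∃ k ∈ M, ∃ b ∈ X, g = k * b * k⁻¹} = T.relIndex M * Nat.card X := by
  rw [Subgroup.relIndex, Subgroup.index_eq_card, ← Nat.card_prod]
  refine (Nat.card_congr (Equiv.ofBijective
    (fun z : (M ⧸ T.subgroupOf M) × X =>
      (⟨(z.1.out : G) * z.2 * (z.1.out : G)⁻¹, ⟨z.1.out, z.1.out.2, z.2, z.2.2, rfl⟩⟩ :
        {g : G | ∃ k ∈ M, ∃ b ∈ X, g = k * b * k⁻¹})) ⟨?_, ?_⟩)).symm
  · rintro ⟨c, b⟩ ⟨c', b'⟩ h
    have h1 : (c.out : G) * b * (c.out : G)⁻¹ = (c'.out : G) * b' * (c'.out : G)⁻¹ :=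
      congrArg Subtype.val h
    set k := (c.out)⁻¹ * c'.out with hk
    have h2 : (k : G) * b' * (k : G)⁻¹ = b := by
      calc (k : G) * b' * (k : G)⁻¹
          = (c.out : G)⁻¹ * ((c'.out : G) * b' * (c'.out : G)⁻¹) * c.out := by
            simp only [hk, Subgroup.coe_mul, Subgroup.coe_inv]; group
        _ = b := by rw [← h1]; group
    have hkT : (k : G) ∈ T := hti k k.2 b' b'.2 (h2.symm ▸ b.2)
    have hc : c = c' := by
      rw [← QuotientGroup.out_eq' c, ← QuotientGroup.out_eq' c', QuotientGroup.eq]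
      exact Subgroup.mem_subgroupOf.mpr hkT
    subst hc
    exact Prod.ext rfl (Subtype.ext (mul_left_cancel (mul_right_cancel h1)))
  · rintro ⟨g, k, hk, b, hb, rfl⟩
    set c : M ⧸ T.subgroupOf M := QuotientGroup.mk ⟨k, hk⟩
    have ht : (c.out : G)⁻¹ * k ∈ T := by
      have := QuotientGroup.out_eq' c
      rw [QuotientGroup.eq] at this
      exact Subgroup.mem_subgroupOf.mp this
    refine ⟨⟨c, ⟨_, hinv _ ht b hb⟩⟩, Subtype.ext ?_⟩
    simp only [mul_inv_rev, inv_inv]
    group

/-- The abstract count: with a transitive commuting relation and self-normalising centralisers of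
elements of order prime to `p`, all elements of order `p` commute. -/
theorem commute_order_p_of_transitive {p : ℕ} [Fact p.Prime] (hodd : Odd (Nat.card G))
    (H1 : ∀ a x y : G, a ≠ 1 → x * a = a * x → y * a = a * y → x * y = y * x)
    (H2 : ∀ a g : G, a ^ p ≠ 1 → g * a * g⁻¹ * a = a * (g * a * g⁻¹) → g * a = a * g)
    (H3 : ∀ a u : G, u ≠ 1 → u ^ p = 1 → a * u = u * a → a ^ p = 1)
    (H4 : ∀ u g h : G, u ≠ 1 → u ^ p = 1 → g ^ p ≠ 1 →
      g * u * g⁻¹ * u = u * (g * u * g⁻¹) → h * g = g * h → h * u * h⁻¹ * u = u * (h * u * h⁻¹))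
    (x y : G) (hx : x ^ p = 1) (hy : y ^ p = 1) : x * y = y * x := by
  classical
  by_cases hx1 : x = 1
  · simp [hx1]
  let P : Subgroup G := Subgroup.centralizer ({x} : Set G)
  have memP : ∀ z, z ∈ P ↔ z * x = x * z := fun z => Subgroup.mem_centralizer_singleton_iff
  have hPp : ∀ z ∈ P, z ^ p = 1 := fun z hz => H3 z x hx1 hx ((memP z).mp hz)
  have hPc : ∀ z ∈ P, ∀ w ∈ P, z * w = w * z := fun z hz w hw =>
    H1 x z w hx1 ((memP z).mp hz) ((memP w).mp hw)
  have hPcent : ∀ b ∈ P, b ≠ 1 → ∀ z, z * b = b * z → z ∈ P := fun b hb hb1 z hz =>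
    (memP z).mpr (H1 b z x hb1 hz ((memP b).mp hb).symm)
  have hPG : IsPGroup p P := fun z => ⟨1, Subtype.ext (by simpa using hPp z z.2)⟩
  -- `P` is a Sylow subgroup
  have hPsyl : ∃ Q : Sylow p G, (Q : Subgroup G) = P := by
    obtain ⟨Q, hQ⟩ := hPG.exists_le_sylow
    refine ⟨Q, le_antisymm (fun z hz => ?_) hQ⟩
    have hxQ : x ∈ (Q : Subgroup G) := hQ ((memP x).mpr rfl)
    have hne : Nontrivial (Q : Subgroup G) :=
      ⟨⟨⟨x, hxQ⟩, 1, fun h => hx1 (congrArg Subtype.val h)⟩⟩
    obtain ⟨w, hw1⟩ := @exists_ne _ (Q.2.center_nontrivial) 1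
    have hwP : ((w : (Q : Subgroup G)) : G) ∈ P := (memP _).mpr
      (congrArg Subtype.val (Subgroup.mem_center_iff.mp w.2 ⟨x, hxQ⟩)).symm
    exact hPcent _ hwP (fun h => hw1 (Subtype.ext (Subtype.ext h))) z
      (congrArg Subtype.val (Subgroup.mem_center_iff.mp w.2 ⟨z, hz⟩))
  obtain ⟨Q, hQ⟩ := hPsyl
  set N := Subgroup.normalizer (P : Set G) with hN
  suffices hnorm : ∀ g : G, g ∈ N by
    -- then `y` lies in the unique Sylow subgroup
    have : P.Normal := Subgroup.normalizer_eq_top_iff.mp ((Subgroup.eq_top_iff' _).mpr hnorm)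
    have hyP : y ∈ P := by
      have hzy : IsPGroup p (Subgroup.zpowers y) := IsPGroup.of_card_dvd_pow (n := 1) (by
        rw [Nat.card_zpowers, pow_one]; exact orderOf_dvd_of_pow_eq_one hy)
      have := hzy.to_sup_of_normal_right' hPG
        (le_top.trans_eq (Subgroup.normalizer_eq_top_iff.mpr ‹_›).symm)
      rw [← hQ] at this ⊢
      exact (Q.3 this le_sup_right).le (Subgroup.mem_sup_left (Subgroup.mem_zpowers y))
    exact hPc x ((memP x).mpr rfl) y hyP
  have hp3 : ∀ H : Subgroup G, H ≠ ⊥ → 3 ≤ Nat.card H := by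
    intro H hH
    have h1 := (Subgroup.one_lt_card_iff_ne_bot H).mpr hH
    have h2 : Odd (Nat.card H) := hodd.of_dvd_nat H.card_subgroup_dvd_card
    obtain ⟨k, hk⟩ := h2
    omega
  have hcard1 : ∀ H : Subgroup G, Nat.card ({b : G | b ∈ H ∧ b ≠ 1}) + 1 = Nat.card H := by
    intro H
    have h1 : {b : G | b ∈ H ∧ b ≠ 1} = (H : Set G) \ {1} := rfl
    have h2 := Set.ncard_diff_singleton_add_one (show (1 : G) ∈ (H : Set G) from H.one_mem)
      (Set.toFinite _)
    rw [h1, Nat.card_coe_set_eq]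
    exact h2.trans (Nat.card_coe_set_eq _).symm
  -- conjugates of a torus
  let U : Subgroup G → G → Set G := fun M a =>
    {g : G | ∃ k ∈ M, ∃ b ∈ {b : G | b ∈ Subgroup.centralizer ({a} : Set G) ∧ b ≠ 1}, g = k * b * k⁻¹}
  have hA : ∀ a : G, a ^ p ≠ 1 → ∀ b ∈ Subgroup.centralizer ({a} : Set G), b ≠ 1 →
      b ^ p ≠ 1 ∧ ∀ z, z * b = b * z ↔ z ∈ Subgroup.centralizer ({a} : Set G) := by
    intro a ha b hb hb1
    have hab := Subgroup.mem_centralizer_singleton_iff.mp hb
    have ha1 : a ≠ 1 := fun h => ha (by simp [h])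
    exact ⟨fun h => ha (H3 a b hb1 h hab.symm), fun z =>
      ⟨fun hz => Subgroup.mem_centralizer_singleton_iff.mpr (H1 b z a hb1 hz hab.symm),
        fun hz => H1 a z b ha1 (Subgroup.mem_centralizer_singleton_iff.mp hz) hab⟩⟩
  have hUcard : ∀ (M : Subgroup G) (a : G), a ^ p ≠ 1 →
      Subgroup.centralizer ({a} : Set G) ≤ M →
      Nat.card (U M a) + (Subgroup.centralizer ({a} : Set G)).relIndex M = Nat.card M ∧
        2 * Nat.card M ≤ 3 * Nat.card (U M a) := by
    intro M a ha hle
    set A := Subgroup.centralizer ({a} : Set G) with hAdef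
    have h0 : Nat.card (U M a) = A.relIndex M * Nat.card {b : G | b ∈ A ∧ b ≠ 1} := by
      refine card_conjugates_of_ti ?_ ?_
      · rintro t ht b ⟨hbA, hb1⟩
        have : t * b * t⁻¹ = b := by
          rw [((hA a ha b hbA hb1).2 t).mpr ht, mul_inv_cancel_right]
        exact this.symm ▸ ⟨hbA, hb1⟩
      · rintro k _ b ⟨hbA, hb1⟩ ⟨hkA, -⟩
        exact ((hA a ha b hbA hb1).2 k).mp (H2 b k (hA a ha b hbA hb1).1
          (((hA a ha b hbA hb1).2 _).mpr hkA))
    have h1 : Nat.card A * A.relIndex M = Nat.card M := by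
      rw [← Subgroup.relIndex_bot_left, ← Subgroup.relIndex_bot_left,
        Subgroup.relIndex_mul_relIndex _ _ _ bot_le hle]
    have h3 : 3 ≤ Nat.card A := hp3 A fun h => ha (by
      have : a ∈ A := Subgroup.mem_centralizer_singleton_iff.mpr rfl
      rw [h, Subgroup.mem_bot] at this
      simp [this])
    have h2 := hcard1 A
    constructor
    · calc Nat.card (U M a) + A.relIndex M
          = A.relIndex M * (Nat.card {b : G | b ∈ A ∧ b ≠ 1} + 1) := by rw [h0, mul_add, mul_one]
        _ = Nat.card M := by rw [h2, mul_comm, h1]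
    · rw [h0, ← h1, ← h2]
      have : 2 ≤ Nat.card {b : G | b ∈ A ∧ b ≠ 1} := by omega
      nlinarith
  have hUsub : ∀ (M : Subgroup G) (a : G), a ^ p ≠ 1 →
      Subgroup.centralizer ({a} : Set G) ≤ M → ∀ g ∈ U M a, g ∈ M ∧ g ^ p ≠ 1 := by
    rintro M a ha hle g ⟨k, hk, b, ⟨hbA, hb1⟩, rfl⟩
    refine ⟨M.mul_mem (M.mul_mem hk (hle hbA)) (M.inv_mem hk), fun h => (hA a ha b hbA hb1).1 ?_⟩
    simpa using h
  -- in a subgroup with tori, all semisimple elements are conjugate into one torus
  have hone : ∀ (M : Subgroup G) (a b : G), a ^ p ≠ 1 → b ^ p ≠ 1 →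
      Subgroup.centralizer ({a} : Set G) ≤ M → Subgroup.centralizer ({b} : Set G) ≤ M →
      b ∈ U M a := by
    intro M a b ha hb hla hlb
    by_contra hba
    have hdisj : Disjoint (U M a) (U M b) := by
      rw [Set.disjoint_left]
      rintro g ⟨k, hk, c, ⟨hcA, hc1⟩, rfl⟩ ⟨l, hl, d, ⟨hdB, hd1⟩, hcd⟩
      apply hba
      set m := l⁻¹ * k with hm
      have hd : d = m * c * m⁻¹ := by
        calc d = l⁻¹ * (l * d * l⁻¹) * l := by group
          _ = m * c * m⁻¹ := by rw [← hcd, hm]; group
      have hbd : b * d = d * b := (Subgroup.mem_centralizer_singleton_iff.mp hdB).symm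
      refine ⟨m, M.mul_mem (M.inv_mem hl) hk, m⁻¹ * b * m, ⟨?_, ?_⟩, by group⟩
      · rw [← (hA a ha c hcA hc1).2]
        calc m⁻¹ * b * m * c = m⁻¹ * (b * d) * m := by rw [hd]; group
          _ = c * (m⁻¹ * b * m) := by rw [hbd, hd]; group
      · intro h
        refine hb ?_
        have hb1 : b = 1 := by simpa [mul_assoc, inv_mul_eq_one] using h
        simp [hb1]
    have hsub : U M a ∪ U M b ⊆ (M : Set G) :=
      Set.union_subset (fun g hg => (hUsub M a ha hla g hg).1) (fun g hg => (hUsub M b hb hlb g hg).1)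
    have h1 := Set.ncard_le_ncard hsub
    rw [Set.ncard_union_eq hdisj, ← Nat.card_coe_set_eq, ← Nat.card_coe_set_eq,
      ← Nat.card_coe_set_eq] at h1
    have h2 := (hUcard M a ha hla).2
    have h3 := (hUcard M b hb hlb).2
    have h4 : 0 < Nat.card M := Nat.card_pos
    have h5 : Nat.card (M : Set G) = Nat.card M := rfl
    omega
  -- elements of order `p`
  set O := {g : G | g ^ p = 1 ∧ g ≠ 1} with hO
  have hO' : Nat.card O = N.index * Nat.card {b : G | b ∈ P ∧ b ≠ 1} := by
    rw [← Subgroup.relIndex_top_right, ← card_conjugates_of_ti (M := ⊤) (T := N)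
      (X := {b : G | b ∈ P ∧ b ≠ 1}) ?_ ?_]
    · refine Nat.card_congr (Equiv.setCongr ?_)
      ext g
      constructor
      · rintro ⟨hg, hg1⟩
        obtain ⟨R, hR⟩ := (IsPGroup.of_card_dvd_pow (p := p) (n := 1) (G := Subgroup.zpowers g) (by
          rw [Nat.card_zpowers, pow_one]; exact orderOf_dvd_of_pow_eq_one hg)).exists_le_sylow
        obtain ⟨k, rfl⟩ := MulAction.exists_smul_eq G Q R
        have := hR (Subgroup.mem_zpowers g)
        rw [Sylow.coe_subgroup_smul, hQ] at this
        obtain ⟨b, hb, rfl⟩ := this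
        exact ⟨k, Subgroup.mem_top k, b, ⟨hb, fun h => hg1 (by simp [h])⟩, rfl⟩
      · rintro ⟨k, -, b, ⟨hb, hb1⟩, rfl⟩
        exact ⟨by simp [hPp b hb], fun h => hb1 (by simpa using h)⟩
    · rintro t ht b ⟨hb, hb1⟩
      exact ⟨(Subgroup.mem_normalizer_iff.mp ht b).mp hb, fun h => hb1 (by simpa using h)⟩
    · rintro k - b ⟨hb, hb1⟩ ⟨hkb, -⟩
      rw [Subgroup.mem_normalizer_iff]
      intro z
      constructor
      · intro hz
        refine hPcent (k * b * k⁻¹) hkb (fun h => hb1 (by simpa using h)) _ ?_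
        simp [mul_assoc, hPc z hz b hb]
        rw [← mul_assoc z b, hPc z hz b hb, mul_assoc]
      · intro hz
        refine hPcent b hb hb1 z ?_
        have h := hPc _ hz _ hkb
        simp [mul_assoc] at h
        rw [← mul_assoc, ← mul_assoc] at h
        exact mul_right_cancel h
  have hcP := hcard1 P
  have hcG : Nat.card G = Nat.card ↥(⊤ : Subgroup G) := Subgroup.card_top.symm
  have hNi : N.index * Nat.card N = Nat.card G := N.index_mul_card
  have hP3 : 3 ≤ Nat.card P := hp3 P fun h => hx1 (by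
    have : x ∈ P := (memP x).mpr rfl
    rwa [h, Subgroup.mem_bot] at this)
  intro g
  by_contra hg
  have hlt : 1 < N.index := by
    rcases Nat.lt_or_ge 1 N.index with h | h
    · exact h
    · exfalso
      have h0 : N.index ≠ 0 := Subgroup.index_ne_zero_of_finite
      exact hg ((Subgroup.index_eq_one.mp (by omega : N.index = 1)).symm ▸ Subgroup.mem_top g)
  -- there are semisimple elements
  obtain ⟨a, ha⟩ : ∃ a : G, a ^ p ≠ 1 := by
    by_contra h
    push Not at h
    have hGp : IsPGroup p G := fun z => ⟨1, by rw [pow_one]; exact h z⟩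
    have : (⊤ : Subgroup G) = Q := Q.3 (hGp.to_subgroup ⊤) le_top
    exact hg (Subgroup.le_normalizer (show g ∈ P from hQ ▸ this ▸ Subgroup.mem_top g))
  have hNP : P ≤ N := Subgroup.le_normalizer
  by_cases hsemi : ∃ c ∈ N, c ^ p ≠ 1
  · obtain ⟨c, hcN, hc⟩ := hsemi
    set A := Subgroup.centralizer ({c} : Set G) with hAdef
    -- the torus lies in `N`
    have hle : ∀ d ∈ N, d ^ p ≠ 1 → Subgroup.centralizer ({d} : Set G) ≤ N := by
      intro d hdN hd z hz
      have hdx : d * x * d⁻¹ * x = x * (d * x * d⁻¹) :=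
        (memP _).mp ((Subgroup.mem_normalizer_iff.mp hdN x).mp ((memP x).mpr rfl))
      have hzx := H4 x d z hx1 hx hd hdx (Subgroup.mem_centralizer_singleton_iff.mp hz)
      have hzxP : z * x * z⁻¹ ∈ P := (memP _).mpr hzx
      rw [hN, Subgroup.mem_normalizer_iff]
      intro w
      constructor
      · intro hw
        refine hPcent _ hzxP (fun h => hx1 (by simpa using h)) _ ?_
        simp [mul_assoc]
        rw [← mul_assoc w x, hPc w hw x ((memP x).mpr rfl), mul_assoc]
      · intro hw
        have h := hPc _ hw _ hzxP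
        refine (memP w).mpr ?_
        simp [mul_assoc] at h
        rw [← mul_assoc, ← mul_assoc] at h
        exact mul_right_cancel h
    have hAN : A ≤ N := hle c hcN hc
    -- order of `N`
    have hNset : (N : Set G) = (P : Set G) ∪ U N c := by
      apply Set.Subset.antisymm
      · intro d hd
        by_cases hdp : d ^ p = 1
        · left
          have hz : IsPGroup p (Subgroup.zpowers d) := IsPGroup.of_card_dvd_pow (n := 1) (by
            rw [Nat.card_zpowers, pow_one]; exact orderOf_dvd_of_pow_eq_one hdp)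
          have h := hz.to_sup_of_normal_right' hPG (Subgroup.zpowers_le.mpr hd)
          rw [← hQ] at h ⊢
          exact (Q.3 h le_sup_right).le (Subgroup.mem_sup_left (Subgroup.mem_zpowers d))
        · exact Or.inr (hone N c d hc hdp hAN (hle d hd hdp))
      · exact Set.union_subset hNP fun d hd => (hUsub N c hc hAN d hd).1
    have hdisj : Disjoint (P : Set G) (U N c) :=
      Set.disjoint_left.mpr fun d hd hd' => (hUsub N c hc hAN d hd').2 (hPp d hd)
    have hNcard : Nat.card N = Nat.card P + Nat.card (U N c) := by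
      have h : Nat.card (N : Set G) = (P : Set G).ncard + (U N c).ncard := by
        rw [Nat.card_coe_set_eq, hNset, Set.ncard_union_eq hdisj]
      rw [← Nat.card_coe_set_eq, ← Nat.card_coe_set_eq] at h
      exact h
    have hUN := (hUcard N c hc hAN).1
    rw [← hAdef] at hUN
    have hPA : A.relIndex N = Nat.card P := by omega
    have hAcard : Nat.card A * A.relIndex N = Nat.card N := by
      rw [← Subgroup.relIndex_bot_left, ← Subgroup.relIndex_bot_left,
        Subgroup.relIndex_mul_relIndex _ _ _ bot_le hAN]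
    have hAtop : A.relIndex ⊤ = N.index * Nat.card P := by
      rw [← hPA, mul_comm, ← Subgroup.relIndex_top_right N]
      exact (Subgroup.relIndex_mul_relIndex A N ⊤ hAN le_top).symm
    -- count `G`
    have hGset : (Set.univ : Set G) = ({1} ∪ O) ∪ U ⊤ c := by
      refine (Set.eq_univ_of_forall fun d => ?_).symm
      by_cases hdp : d ^ p = 1
      · left
        by_cases hd1 : d = 1
        · exact Or.inl hd1
        · exact Or.inr ⟨hdp, hd1⟩
      · exact Or.inr (hone ⊤ c d hc hdp le_top le_top)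
    have hd2 : Disjoint ({1} ∪ O) (U ⊤ c) := Set.disjoint_left.mpr fun d hd hd' => by
      have h' := (hUsub ⊤ c hc le_top d hd').2
      rcases hd with (rfl : d = 1) | hd
      · exact h' (one_pow p)
      · exact h' hd.1
    have hGcard : Nat.card G = 1 + Nat.card O + Nat.card (U ⊤ c) := by
      rw [← Set.ncard_univ, hGset, Set.ncard_union_eq hd2, Set.ncard_union_eq
        (Set.disjoint_singleton_left.mpr fun h => h.2 rfl), Set.ncard_singleton,
        ← Nat.card_coe_set_eq, ← Nat.card_coe_set_eq]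
    have hUG := (hUcard ⊤ c hc le_top).1
    rw [← hcG, hAtop] at hUG
    rw [hO'] at hGcard
    have : N.index * (Nat.card {b : G | b ∈ P ∧ b ≠ 1} + 1) = N.index * Nat.card P := by rw [hcP]
    rw [mul_add, mul_one] at this
    omega
  · push Not at hsemi
    have hNle : N = P := le_antisymm (fun d hd => by
      have hz : IsPGroup p (Subgroup.zpowers d) := IsPGroup.of_card_dvd_pow (n := 1) (by
        rw [Nat.card_zpowers, pow_one]; exact orderOf_dvd_of_pow_eq_one (hsemi d hd))
      have h := hz.to_sup_of_normal_right' hPG (Subgroup.zpowers_le.mpr hd)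
      rw [← hQ] at h ⊢
      exact (Q.3 h le_sup_right).le (Subgroup.mem_sup_left (Subgroup.mem_zpowers d))) hNP
    have hdisj : Disjoint O (U ⊤ a) :=
      Set.disjoint_left.mpr fun d hd hd' => (hUsub ⊤ a ha le_top d hd').2 hd.1
    have h1 : Nat.card O + Nat.card (U ⊤ a) ≤ Nat.card G := by
      rw [Nat.card_coe_set_eq, Nat.card_coe_set_eq, ← Set.ncard_union_eq hdisj, ← Set.ncard_univ]
      exact Set.ncard_le_ncard (Set.subset_univ _)
    have h2 := (hUcard ⊤ a ha le_top).2
    rw [← hcG] at h2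
    have h3 : 2 * Nat.card G ≤ 3 * Nat.card O := by
      rw [hO', ← hNi, hNle, ← hcP]
      have : 2 ≤ Nat.card {b : G | b ∈ P ∧ b ≠ 1} := by omega
      nlinarith
    have h4 : 0 < Nat.card G := Nat.card_pos
    omega

end Counting

/-! ### The matrix facts -/

open Matrix

variable {F : Type*} [Field F] {p : ℕ}

theorem det_eq_zero_of_isNilpotent {M : Matrix (Fin 2) (Fin 2) F} (h : IsNilpotent M) : M.det = 0 := by
  obtain ⟨n, hn⟩ := h
  rcases Nat.eq_zero_or_pos n with rfl | hpos
  · exact absurd hn (by simp)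
  · exact (pow_eq_zero_iff hpos.ne').mp (by rw [← det_pow, hn, det_zero])

theorem nilpotent_sq_zero_of_pow_eq_one [Fact p.Prime] [CharP F p]
    {u : Matrix (Fin 2) (Fin 2) F} (hu : u ^ p = 1) : (u - 1) * (u - 1) = 0 := by
  have h1 : IsNilpotent (u - 1) :=
    ⟨p, by rw [sub_pow_char_of_commute p (Commute.one_right u), hu, one_pow, sub_self]⟩
  have h2 : (u - 1).det = 0 := det_eq_zero_of_isNilpotent h1
  have h3 : (u - 1).trace = 0 := (Matrix.isNilpotent_trace_of_isNilpotent h1).eq_zero
  rw [H80.sq_eq_fin_two, h2, h3, zero_smul, zero_smul, sub_zero]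

/-- Two matrices of order `p` fixing the same vector commute. -/
theorem commute_of_common_fixed [Fact p.Prime] [CharP F p] {u w : Matrix (Fin 2) (Fin 2) F}
    (hu : u ^ p = 1) (hw : w ^ p = 1) {v : Fin 2 → F} (hv : v ≠ 0) (huv : u *ᵥ v = v)
    (hwv : w *ᵥ v = v) : u * w = w * u := by
  have key : ∀ M : Matrix (Fin 2) (Fin 2) F, M * M = 0 → M *ᵥ v = 0 →
      ∃ t : F, M 0 0 = t * (v 0 * v 1) ∧ M 0 1 = -(t * (v 0 * v 0)) ∧
        M 1 0 = t * (v 1 * v 1) ∧ M 1 1 = -(t * (v 0 * v 1)) := by
    intro M hM hMv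
    have htr : M 0 0 + M 1 1 = 0 := by
      have := (Matrix.isNilpotent_trace_of_isNilpotent (M := M) ⟨2, by rw [pow_two, hM]⟩).eq_zero
      rwa [trace_fin_two] at this
    have e0 := congrFun hMv 0
    have e1 := congrFun hMv 1
    simp [Matrix.mulVec, dotProduct] at e0 e1
    by_cases h0 : v 0 = 0
    · have h1 : v 1 ≠ 0 := fun h => hv (funext fun i => by fin_cases i <;> assumption)
      rw [h0] at e0 e1 ⊢
      simp at e0 e1
      have hb : M 0 1 = 0 := e0.resolve_right h1
      have hd : M 1 1 = 0 := e1.resolve_right h1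
      exact ⟨M 1 0 / (v 1 * v 1), by simp; linear_combination htr - hd, by simp [hb],
        by field_simp, by simp [hd]⟩
    · refine ⟨-(M 0 1) / (v 0 * v 0), ?_, by field_simp, ?_, ?_⟩
      · field_simp
        linear_combination e0
      · field_simp
        linear_combination (v 0) * e1 - (v 0) * (v 1) * htr + (v 1) * e0
      · field_simp
        linear_combination (v 0) * htr - e0
  obtain ⟨s, a1, a2, a3, a4⟩ := key (u - 1) (nilpotent_sq_zero_of_pow_eq_one hu)
    (by rw [Matrix.sub_mulVec, Matrix.one_mulVec, huv, sub_self])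
  obtain ⟨t, b1, b2, b3, b4⟩ := key (w - 1) (nilpotent_sq_zero_of_pow_eq_one hw)
    (by rw [Matrix.sub_mulVec, Matrix.one_mulVec, hwv, sub_self])
  simp [Matrix.sub_apply, sub_eq_iff_eq_add] at a1 a2 a3 a4 b1 b2 b3 b4
  ext i j
  fin_cases i <;> fin_cases j <;>
    simp [Matrix.mul_apply, a1, a2, a3, a4, b1, b2, b3, b4] <;> ring

theorem exists_fixed_vec [Fact p.Prime] [CharP F p] {u : Matrix (Fin 2) (Fin 2) F} (hu : u ^ p = 1) :
    ∃ v : Fin 2 → F, v ≠ 0 ∧ u *ᵥ v = v := by
  have h1 : IsNilpotent (u - 1) :=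
    ⟨2, by rw [pow_two, nilpotent_sq_zero_of_pow_eq_one hu]⟩
  obtain ⟨v, hv, hv'⟩ := Matrix.exists_mulVec_eq_zero_iff.mpr
    (show (u - 1).det = 0 from det_eq_zero_of_isNilpotent h1)
  exact ⟨v, hv, sub_eq_zero.mp (by rwa [Matrix.sub_mulVec, Matrix.one_mulVec] at hv')⟩

/-- The fixed vectors of a nontrivial element of order `p` form a line. -/
theorem fixed_vec_unique [Fact p.Prime] [CharP F p] {u : Matrix (Fin 2) (Fin 2) F} (hu1 : u ≠ 1)
    {v w : Fin 2 → F} (hv : v ≠ 0) (huv : u *ᵥ v = v) (huw : u *ᵥ w = w) :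
    ∃ t : F, w = t • v := by
  by_contra hne
  push Not at hne
  have hdet : v 0 * w 1 - v 1 * w 0 ≠ 0 := by
    intro h
    by_cases h0 : v 0 = 0
    · have h1 : v 1 ≠ 0 := fun h => hv (funext fun i => by fin_cases i <;> assumption)
      refine hne (w 1 / v 1) (funext fun i => ?_)
      fin_cases i
      · simp [h0] at h ⊢
        exact h.resolve_left h1
      · simp; field_simp
    · refine hne (w 0 / v 0) (funext fun i => ?_)
      fin_cases i
      · simp; field_simp
      · simp; field_simp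
        linear_combination h
  apply hu1
  have a0 := congrFun huv 0
  have a1 := congrFun huv 1
  have b0 := congrFun huw 0
  have b1 := congrFun huw 1
  simp [Matrix.mulVec, dotProduct] at a0 a1 b0 b1
  ext i j
  fin_cases i <;> fin_cases j <;> simp <;> refine mul_right_cancel₀ hdet ?_
  · linear_combination w 1 * a0 - v 1 * b0
  · linear_combination v 0 * b0 - w 0 * a0
  · linear_combination w 1 * a1 - v 1 * b1
  · linear_combination v 0 * b1 - w 0 * a1

/-- In a finite group of odd order and determinant one, elements of order `p` commute. -/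
theorem sl2_odd_order_p_commute [Fact p.Prime] [CharP F p] (hp : p ≠ 2)
    (H : Subgroup (GL (Fin 2) F)) [Finite H] (hodd : Odd (Nat.card H))
    (hdet : ∀ g ∈ H, (g : Matrix (Fin 2) (Fin 2) F).det = 1)
    {x y : GL (Fin 2) F} (hxH : x ∈ H) (hyH : y ∈ H) (hx : x ^ p = 1) (hy : y ^ p = 1) :
    x * y = y * x := by
  have h2 := H80.two_ne_zero_of_charP (F := F) hp
  let m : H → Matrix (Fin 2) (Fin 2) F := fun g => ((g : GL (Fin 2) F) : Matrix (Fin 2) (Fin 2) F)
  have mi : Function.Injective m := fun a b h => Subtype.ext (Units.ext h)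
  have mm : ∀ a b : H, m (a * b) = m a * m b := fun a b => rfl
  have mp' : ∀ a : H, a ^ p = 1 → m a ^ p = 1 := fun a h => by
    have := congrArg m h
    simpa [m] using this
  -- a non-identity element is not scalar
  have hns : ∀ a : H, a ≠ 1 → ¬ (m a 0 1 = 0 ∧ m a 1 0 = 0 ∧ m a 0 0 = m a 1 1) := by
    rintro a ha ⟨h01, h10, h00⟩
    have hd := hdet a a.2
    rw [det_fin_two] at hd
    change m a 0 0 * m a 1 1 - m a 0 1 * m a 1 0 = 1 at hd
    rw [h01, h00, zero_mul, sub_zero] at hd
    rcases mul_self_eq_one_iff.mp hd with h | h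
    · exact ha (mi (by ext i j; fin_cases i <;> fin_cases j <;> simp [m] at * <;> simp [*]))
    · exact H80.neg_one_notMem hp H hodd a.2
        (by ext i j; fin_cases i <;> fin_cases j <;> simp [m] at * <;> simp [*])
  have poly : ∀ a z : H, a ≠ 1 → z * a = a * z →
      ∃ s t : F, m z = s • (1 : Matrix (Fin 2) (Fin 2) F) + t • m a := fun a z ha h =>
    H80.comm_fin_two (hns a ha) (by rw [← mm, h, mm])
  have key := commute_order_p_of_transitive (G := H) (p := p) hodd ?_ ?_ ?_ ?_ ⟨x, hxH⟩ ⟨y, hyH⟩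
    (Subtype.ext hx) (Subtype.ext hy)
  · exact congrArg Subtype.val key
  · intro a x y ha hxa hya
    obtain ⟨s, t, hst⟩ := poly a x ha hxa
    obtain ⟨s', t', hst'⟩ := poly a y ha hya
    apply mi
    rw [mm, mm, hst, hst']
    simp only [add_mul, mul_add, Matrix.smul_mul, Matrix.mul_smul, one_mul, mul_one, smul_smul]
    rw [mul_comm s' t, mul_comm t' t, mul_comm s' s, mul_comm s t']
    abel
  · intro a g ha hc
    have ha1 : a ≠ 1 := fun h => ha (by simp [h])
    obtain ⟨s, t, hst⟩ := poly a (g * a * g⁻¹) ha1 hc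
    set T := (m a).trace with hT
    have hda : (m a).det = 1 := hdet a a.2
    have htr : (m (g * a * g⁻¹)).trace = T := by
      simp only [m, Subgroup.coe_mul, Subgroup.coe_inv, Units.val_mul]
      exact Matrix.trace_units_conj _ _
    have hdg : (m (g * a * g⁻¹)).det = 1 := hdet _ (g * a * g⁻¹).2
    have hcoef : T ^ 2 - 4 ≠ 0 := by
      intro h
      apply ha
      have hT2 : (T - 2) * (T + 2) = 0 := by linear_combination h
      have hsq : ∀ e : F, e * e = 1 → T = 2 * e → m a ^ p = e ^ p • (1 : Matrix (Fin 2) (Fin 2) F) := by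
        intro e he hTe
        have hz : (m a - e • (1 : Matrix (Fin 2) (Fin 2) F)) * (m a - e • (1 : Matrix (Fin 2) (Fin 2) F)) = 0 := by
          simp only [sub_mul, mul_sub, Matrix.smul_mul, Matrix.mul_smul, one_mul, mul_one, smul_smul,
            H80.sq_eq_fin_two, ← hT, hda, hTe, two_mul, add_smul, he, one_smul]
          abel
        have h' := sub_pow_char_of_commute p
          ((Commute.one_right (m a)).smul_right e : Commute (m a) (e • (1 : Matrix (Fin 2) (Fin 2) F)))
        have hp2 : 2 ≤ p := (Fact.out : p.Prime).two_le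
        have h0 : (m a - e • (1 : Matrix (Fin 2) (Fin 2) F)) ^ p = 0 := by
          rw [← Nat.add_sub_cancel' hp2, pow_add, pow_two, hz, zero_mul]
        rw [h0, smul_pow, one_pow] at h'
        exact (sub_eq_zero.mp h'.symm)
      have hpodd : Odd p := (Fact.out : p.Prime).odd_of_ne_two hp
      rcases mul_eq_zero.mp hT2 with h | h
      · apply mi
        have := hsq 1 (one_mul 1) (by linear_combination h)
        simpa [m] using this
      · exfalso
        have := hsq (-1) (by ring) (by linear_combination h)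
        rw [hpodd.neg_one_pow, neg_one_smul] at this
        refine H80.neg_one_notMem hp H hodd (a ^ p).2 ?_
        simpa [m] using this
    rw [hst, trace_fin_two] at htr
    rw [hst, det_fin_two] at hdg
    rw [hT, trace_fin_two] at hcoef htr
    rw [det_fin_two] at hda
    simp at htr hdg
    have h4 : (1 - t ^ 2) * ((m a 0 0 + m a 1 1) ^ 2 - 4) = 0 := by
      linear_combination 4 * hdg - (2 * s + (m a 0 0 + m a 1 1) * (1 + t)) * htr - 4 * t ^ 2 * hda
    have ht : (t - 1) * (t + 1) = 0 := by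
      linear_combination -(mul_eq_zero.mp h4).resolve_right hcoef
    rcases mul_eq_zero.mp ht with ht | ht
    · have hs : s = 0 := by
        have : (2 : F) * s = 0 := by linear_combination htr - (m a 0 0 + m a 1 1) * ht
        exact (mul_eq_zero.mp this).resolve_left h2
      have : g * a * g⁻¹ = a := mi (by rw [hst, hs, sub_eq_zero.mp ht]; simp)
      exact mul_inv_eq_iff_eq_mul.mp this
    · exfalso
      have hs : s = m a 0 0 + m a 1 1 := by
        have : (2 : F) * (s - (m a 0 0 + m a 1 1)) = 0 := by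
          linear_combination htr - (m a 0 0 + m a 1 1) * ht
        exact sub_eq_zero.mp ((mul_eq_zero.mp this).resolve_left h2)
      have hinv : g * a * g⁻¹ = a⁻¹ := eq_inv_of_mul_eq_one_left (mi (by
        rw [mm, hst, hs, eq_neg_of_add_eq_zero_left ht]
        simp only [add_mul, Matrix.smul_mul, one_mul, neg_smul, one_smul, neg_mul]
        rw [H80.sq_eq_fin_two, trace_fin_two, hdet a a.2]
        simp [m]))
      obtain ⟨k, hk⟩ := hodd
      have hsq : Commute (g ^ 2) a := by
        refine mul_inv_eq_iff_eq_mul.mp ?_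
        calc g ^ 2 * a * (g ^ 2)⁻¹ = g * (g * a * g⁻¹) * g⁻¹ := by rw [pow_two]; group
          _ = g * a⁻¹ * g⁻¹ := by rw [hinv]
          _ = (g * a * g⁻¹)⁻¹ := by group
          _ = a := by rw [hinv, inv_inv]
      have hg2 : (g ^ 2) ^ (k + 1) = g := by
        rw [← pow_mul, show 2 * (k + 1) = Nat.card H + 1 by omega, pow_succ, pow_card_eq_one', one_mul]
      have hga := hsq.pow_left (k + 1)
      rw [hg2] at hga
      have haa : a * a = 1 := by
        have : a = a⁻¹ := by rw [← hinv, hga.eq, mul_inv_cancel_right]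
        nth_rw 2 [this]
        exact mul_inv_cancel a
      apply ha1
      calc a = a ^ (Nat.card H) * a := by rw [pow_card_eq_one', one_mul]
        _ = (a * a) ^ (k + 1) := by rw [← pow_succ, ← pow_two, ← pow_mul]; congr 1; omega
        _ = 1 := by rw [haa, one_pow]
  · intro a u hu hup hau
    obtain ⟨s, t, hst⟩ := poly u a hu hau
    have hz := nilpotent_sq_zero_of_pow_eq_one (p := p) (mp' u hup)
    have hm : m a = (s + t) • (1 : Matrix (Fin 2) (Fin 2) F) + t • (m u - 1) := by
      rw [hst, add_smul, smul_sub]; abel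
    have hap : m a ^ p = (s + t) ^ p • (1 : Matrix (Fin 2) (Fin 2) F) := by
      rw [hm, add_pow_char_of_commute p (((Commute.one_left (m u - 1)).smul_left (s + t)).smul_right t),
        smul_pow, smul_pow, one_pow]
      have hp2 : 2 ≤ p := (Fact.out : p.Prime).two_le
      have : (m u - 1) ^ p = 0 := by
        rw [← Nat.add_sub_cancel' hp2, pow_add, pow_two, hz, zero_mul]
      rw [this, smul_zero, add_zero]
    have hd : ((s + t) ^ p) * ((s + t) ^ p) = 1 := by
      have h := congrArg Matrix.det hap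
      rw [det_pow, show (m a).det = 1 from hdet a a.2, one_pow, det_smul, det_one, mul_one] at h
      simp at h
      linear_combination -h
    rcases mul_self_eq_one_iff.mp hd with h | h
    · apply mi
      rw [h, one_smul] at hap
      simpa [m] using hap
    · exfalso
      rw [h, neg_one_smul] at hap
      refine H80.neg_one_notMem hp H hodd (a ^ p).2 ?_
      simpa [m] using hap
  · intro u g h hu hup hg hgu hhg
    obtain ⟨v, hv, huv⟩ := exists_fixed_vec (p := p) (mp' u hup)
    have hu1 : m u ≠ 1 := fun e => hu (mi e)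
    have hconjfix : ∀ z : H, (m (z * u * z⁻¹)) *ᵥ (m z *ᵥ v) = m z *ᵥ v := by
      intro z
      rw [Matrix.mulVec_mulVec, ← mm, show z * u * z⁻¹ * z = z * u by group, mm,
        ← Matrix.mulVec_mulVec, huv]
    have hcp : ∀ z : H, (z * u * z⁻¹) ^ p = 1 := fun z => by simp [hup]
    have hm0 : ∀ z : H, m z *ᵥ v ≠ 0 := fun z hz => hv (by
      have : (m z⁻¹ * m z) *ᵥ v = 0 := by rw [← Matrix.mulVec_mulVec, hz, Matrix.mulVec_zero]
      rw [← mm, inv_mul_cancel] at this
      simpa [m] using this)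
    -- `g` preserves the fixed line of `u`
    obtain ⟨r, hr⟩ : ∃ r : F, m g *ᵥ v = r • v := by
      obtain ⟨w, hw, huw, hgw⟩ : ∃ w : Fin 2 → F, w ≠ 0 ∧ m u *ᵥ w = w ∧
          m (g * u * g⁻¹) *ᵥ w = w := by
        refine ⟨m g *ᵥ v, hm0 g, ?_, hconjfix g⟩
        obtain ⟨t, ht⟩ := fixed_vec_unique (p := p) (u := m (g * u * g⁻¹))
          (fun e => hu (by simpa using (mi e : g * u * g⁻¹ = 1))) (hm0 g) (hconjfix g)
          (w := m u *ᵥ (m g *ᵥ v)) (by
            rw [Matrix.mulVec_mulVec, ← mm, hgu, mm, ← Matrix.mulVec_mulVec, hconjfix g])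
        -- eigenvalue of an element of order `p` is one
        have hpw : ∀ n : ℕ, (m u ^ n) *ᵥ (m g *ᵥ v) = t ^ n • (m g *ᵥ v) := by
          intro n
          induction n with
          | zero => simp
          | succ n ih =>
            rw [pow_succ', ← Matrix.mulVec_mulVec, ih, Matrix.mulVec_smul, ht, smul_smul, pow_succ]
        have h1 := hpw p
        rw [mp' u hup, Matrix.one_mulVec] at h1
        have htp : t ^ p = 1 := by
          by_contra hne
          have h3 : (t ^ p - 1) • (m g *ᵥ v) = 0 := by rw [sub_smul, one_smul, ← h1, sub_self]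
          exact hm0 g ((smul_eq_zero.mp h3).resolve_left (sub_ne_zero.mpr hne))
        have ht1 : t = 1 := sub_eq_zero.mp (pow_eq_zero_iff (Fact.out : p.Prime).ne_zero |>.mp
          (by rw [sub_pow_char, htp, one_pow, sub_self]))
        rw [ht, ht1, one_smul]
      obtain ⟨t, ht⟩ := fixed_vec_unique (p := p) hu1 hv huv huw
      obtain ⟨r, hr⟩ := fixed_vec_unique (p := p) (u := m (g * u * g⁻¹))
        (fun e => hu (by simpa using (mi e : g * u * g⁻¹ = 1))) hw hgw (hconjfix g)
      exact ⟨r * t, by rw [hr, ht, smul_smul]⟩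
    have hg1 : g ≠ 1 := fun e => hg (by simp [e])
    obtain ⟨s, t, hst⟩ := poly g h hg1 hhg
    have hhv : m h *ᵥ v = (s + t * r) • v := by
      rw [hst, Matrix.add_mulVec, Matrix.smul_mulVec, Matrix.smul_mulVec, Matrix.one_mulVec, hr,
        smul_smul, add_smul]
    have hne : s + t * r ≠ 0 := fun e => hm0 h (by rw [hhv, e, zero_smul])
    have hfix : m (h * u * h⁻¹) *ᵥ v = v := by
      have h1 := hconjfix h
      rw [hhv, Matrix.mulVec_smul] at h1
      exact smul_right_injective _ hne h1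
    exact mi (by rw [mm, mm]; exact commute_of_common_fixed (mp' _ (hcp h)) (mp' u hup) hv hfix huv)

/-- An odd-order linear group in dimension two without invariant line has order prime to `p`. -/
theorem gl2_irreducible_not_dvd [Fact p.Prime] [CharP F p] (hp : p ≠ 2)
    (H : Subgroup (GL (Fin 2) F)) [Finite H] (hodd : Odd (Nat.card H))
    (hirr : ∀ v : Fin 2 → F, v ≠ 0 →
      ∃ g ∈ H, (g : Matrix (Fin 2) (Fin 2) F).mulVec v ∉ Submodule.span F {v}) :
    ¬ p ∣ Nat.card H := by
  intro hdvd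
  obtain ⟨x, hx⟩ := exists_prime_orderOf_dvd_card' (G := H) p hdvd
  set u := ((x : GL (Fin 2) F) : Matrix (Fin 2) (Fin 2) F) with hu
  have hxp : (x : GL (Fin 2) F) ^ p = 1 :=
    congrArg Subtype.val (by rw [← hx]; exact pow_orderOf_eq_one x : x ^ p = 1)
  have hup : u ^ p = 1 := by rw [hu, ← Units.val_pow_eq_pow_val, hxp, Units.val_one]
  have hu1 : u ≠ 1 := fun h => (Fact.out : p.Prime).ne_one (by
    rw [← hx, orderOf_eq_one_iff]
    exact Subtype.ext (Units.ext h))
  obtain ⟨v, hv, huv⟩ := exists_fixed_vec (p := p) hup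
  obtain ⟨g, hg, hgv⟩ := hirr v hv
  apply hgv
  let H0 : Subgroup (GL (Fin 2) F) :=
    { carrier := {z | z ∈ H ∧ (z : Matrix (Fin 2) (Fin 2) F).det = 1}
      one_mem' := ⟨H.one_mem, by simp⟩
      mul_mem' := fun {a b} ha hb => ⟨H.mul_mem ha.1 hb.1, by simp [ha.2, hb.2]⟩
      inv_mem' := fun {a} ha => ⟨H.inv_mem ha.1, by
        simp [Matrix.coe_units_inv, Matrix.det_nonsing_inv, ha.2]⟩ }
  have hle : H0 ≤ H := fun z hz => hz.1
  have : Finite H0 := Finite.of_injective _ (Subgroup.inclusion_injective hle)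
  have hodd0 : Odd (Nat.card H0) := hodd.of_dvd_nat (Subgroup.card_dvd_of_le hle)
  have hmem : ∀ z ∈ H, z ^ p = 1 → z ∈ H0 := by
    intro z hz hzp
    refine ⟨hz, ?_⟩
    have h1 : (z : Matrix (Fin 2) (Fin 2) F).det ^ p = 1 := by
      rw [← det_pow, ← Units.val_pow_eq_pow_val, hzp, Units.val_one, det_one]
    exact sub_eq_zero.mp (pow_eq_zero_iff (Fact.out : p.Prime).ne_zero |>.mp
      (by rw [sub_pow_char, h1, one_pow, sub_self]))
  set y := g * (x : GL (Fin 2) F) * g⁻¹
  have hyp : y ^ p = 1 := by simp [y, hxp]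
  have hcom := sl2_odd_order_p_commute hp H0 hodd0 (fun z hz => hz.2) (hmem _ x.2 hxp)
    (hmem y (H.mul_mem (H.mul_mem hg x.2) (H.inv_mem hg)) hyp) hxp hyp
  set w := (g : Matrix (Fin 2) (Fin 2) F) *ᵥ v with hw
  have hyw : (y : Matrix (Fin 2) (Fin 2) F) *ᵥ w = w := by
    rw [hw, Matrix.mulVec_mulVec, ← Units.val_mul, show y * g = g * x by simp [y, mul_assoc],
      Units.val_mul, ← Matrix.mulVec_mulVec, huv]
  have hw0 : w ≠ 0 := fun h => hv (by
    have := congrArg (fun z => ((g⁻¹ : GL (Fin 2) F) : Matrix (Fin 2) (Fin 2) F) *ᵥ z) h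
    simp only [hw, Matrix.mulVec_mulVec, ← Units.val_mul, inv_mul_cancel, Units.val_one,
      Matrix.one_mulVec, Matrix.mulVec_zero] at this
    exact this)
  have hy1 : (y : Matrix (Fin 2) (Fin 2) F) ≠ 1 := fun h => hu1 (by
    have hy' : y = 1 := Units.ext h
    have : (x : GL (Fin 2) F) = 1 := by simpa [y] using hy'
    rw [hu, this, Units.val_one])
  obtain ⟨t, ht⟩ := fixed_vec_unique (p := p) hy1 hw0 hyw (w := u *ᵥ w) (by
    rw [Matrix.mulVec_mulVec, hu, ← Units.val_mul, ← hcom, Units.val_mul, ← Matrix.mulVec_mulVec, hyw])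
  have hpw : ∀ n : ℕ, (u ^ n) *ᵥ w = t ^ n • w := by
    intro n
    induction n with
    | zero => simp
    | succ n ih => rw [pow_succ', ← Matrix.mulVec_mulVec, ih, Matrix.mulVec_smul, ht, smul_smul, pow_succ]
  have h1 := hpw p
  rw [hup, Matrix.one_mulVec] at h1
  have htp : t ^ p = 1 := by
    by_contra hne
    have h3 : (t ^ p - 1) • w = 0 := by rw [sub_smul, one_smul, ← h1, sub_self]
    exact hw0 ((smul_eq_zero.mp h3).resolve_left (sub_ne_zero.mpr hne))
  have ht1 : t = 1 := sub_eq_zero.mp (pow_eq_zero_iff (Fact.out : p.Prime).ne_zero |>.mp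
    (by rw [sub_pow_char, htp, one_pow, sub_self]))
  obtain ⟨r, hr⟩ := fixed_vec_unique (p := p) hu1 hv huv (w := w) (by rw [ht, ht1, one_smul])
  exact Submodule.mem_span_singleton.mpr ⟨r, hr.symm⟩

end H84
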