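import Mathlib
import Cfsg.Agent.H84.OddGL2
import Cfsg.Agent.H84.PQLemma

/-!
A group of odd order generated by two quadratically acting elements acts as a `p`-group
(`p` odd): the linear case is reduced to two by two matrices over a finite field.
-/

set_option autoImplicit false

namespace H84

open Polynomial Matrix

section LinearCase

variable {k : Type*} [Field k] {V : Type*} [AddCommGroup V] [Module k V] [FiniteDimensional k V]
  {H : Type*} [Group H] [Finite H]

omit [FiniteDimensional k V] [Finite H] in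
theorem sum_comm_of_sq_zero {R : Type*} [Ring R] {a b : R} (ha : a * a = 0) :
    a * (a * b + b * a) = (a * b + b * a) * a := by
  rw [mul_add, add_mul, ← mul_assoc, ha, zero_mul, zero_add, mul_assoc b a a, ha, mul_zero, add_zero,
    mul_assoc]

theorem commute_aeval_of_commute {R : Type*} [Ring R] [Algebra k R] {a c : R} (h : Commute a c)
    (f : k[X]) : Commute a (aeval c f) := by
  induction f using Polynomial.induction_on' with
  | add f g hf hg => rw [map_add]; exact hf.add_right hg
  | monomial n r =>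
    rw [Polynomial.aeval_monomial]
    exact Commute.mul_right (Algebra.commutes r a).symm (h.pow_right n)

theorem isNilpotent_sum_of_quad {p : ℕ} [Fact p.Prime] [CharP k p] (hp : p ≠ 2)
    (hodd : Odd (Nat.card H)) (ρ : H →* Module.End k V) (x y : H)
    (hgen : Subgroup.closure ({x, y} : Set H) = ⊤)
    (hxq : (ρ x - 1) * (ρ x - 1) = 0) (hyq : (ρ y - 1) * (ρ y - 1) = 0) :
    IsNilpotent ((ρ x - 1) * (ρ y - 1) + (ρ y - 1) * (ρ x - 1)) := by
  classical
  set a := ρ x - 1 with ha
  set b := ρ y - 1 with hb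
  set c := a * b + b * a with hc
  by_contra hnil
  have hint : IsIntegral k c := Algebra.IsIntegral.isIntegral c
  obtain ⟨n, g, hg, hμ⟩ := WfDvdMonoid.max_power_factor (minpoly.ne_zero hint) Polynomial.irreducible_X
  have hgu : ¬ IsUnit g := by
    intro hu
    apply hnil
    refine ⟨n, ?_⟩
    obtain ⟨r, hr, hrg⟩ := Polynomial.isUnit_iff.mp hu
    have h := minpoly.aeval k c
    rw [hμ, map_mul, map_pow, Polynomial.aeval_X, ← hrg, Polynomial.aeval_C] at h
    exact ((hr.map (algebraMap k (Module.End k V))).mul_left_eq_zero).mp h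
  obtain ⟨m, hm, hmg⟩ := WfDvdMonoid.exists_irreducible_factor hgu (fun h0 => hg (h0 ▸ dvd_zero _))
  have hmX : ¬ m ∣ X := fun h => hg
    ((hm.associated_of_dvd Polynomial.irreducible_X h).symm.dvd.trans hmg)
  obtain ⟨r, hr⟩ : m ∣ minpoly k c := hμ ▸ hmg.mul_left _
  have hr0 : aeval c r ≠ 0 := by
    intro h0
    obtain ⟨s, hs⟩ := minpoly.dvd k c h0
    have hr' : r ≠ 0 := by rintro rfl; exact minpoly.ne_zero hint (by rw [hr, mul_zero])
    apply hm.not_isUnit
    refine IsUnit.of_mul_eq_one s (mul_right_cancel₀ hr' ?_)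
    calc m * s * r = (m * r) * s := by ring
      _ = 1 * r := by rw [← hr, ← hs, one_mul]
  obtain ⟨v, hv⟩ : ∃ v, aeval c r v ≠ 0 := by
    by_contra h
    push Not at h
    exact hr0 (LinearMap.ext h)
  have hmv : aeval c m (aeval c r v) = 0 := by
    rw [← Module.End.mul_apply, ← map_mul, ← hr, minpoly.aeval, LinearMap.zero_apply]
  have haa : ∀ f : k[X], Commute a (aeval c f) := fun f =>
    commute_aeval_of_commute (sum_comm_of_sq_zero hxq) f
  have hbb : ∀ f : k[X], Commute b (aeval c f) := fun f =>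
    commute_aeval_of_commute (show b * c = c * b by
      rw [hc, add_comm (a * b)]; exact sum_comm_of_sq_zero hyq) f
  -- a vector killed by `a` and by `m(c)`
  obtain ⟨w, hw, hwm, haw⟩ : ∃ w : V, w ≠ 0 ∧ aeval c m w = 0 ∧ a w = 0 := by
    by_cases h : a (aeval c r v) = 0
    · exact ⟨_, hv, hmv, h⟩
    · refine ⟨_, h, ?_, ?_⟩
      · rw [← Module.End.mul_apply, ← (haa m).eq, Module.End.mul_apply, hmv, map_zero]
      · rw [← Module.End.mul_apply, hxq, LinearMap.zero_apply]
  have hann : ∀ f : k[X], aeval c f w = 0 → m ∣ f := by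
    intro f hf
    by_contra hnd
    obtain ⟨u, u', huu⟩ := (hm.coprime_iff_not_dvd).mpr hnd
    have h := congrArg (fun f => aeval c f w) huu
    simp only [map_add, map_mul, map_one, LinearMap.add_apply, Module.End.mul_apply,
      Module.End.one_apply, hwm, hf, map_zero, add_zero] at h
    exact hw h.symm
  have habw : a (b w) = c w := by
    rw [hc, LinearMap.add_apply, Module.End.mul_apply, Module.End.mul_apply, haw, map_zero, add_zero]
  let emb : k[X] → k[X] → V := fun α β => aeval c α w + aeval c β (b w)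
  have hemb0 : ∀ α β, emb α β = 0 → m ∣ α ∧ m ∣ β := by
    intro α β h
    have h1 : aeval c (β * X) w = 0 := by
      have h' := congrArg a h
      simp only [emb, map_add, map_zero] at h'
      rw [← Module.End.mul_apply, (haa α).eq, Module.End.mul_apply, haw, map_zero, zero_add,
        ← Module.End.mul_apply, (haa β).eq, Module.End.mul_apply, habw] at h'
      simpa [map_mul, Module.End.mul_apply] using h'
    have hβ : m ∣ β := (hm.prime.dvd_or_dvd (hann _ h1)).resolve_right hmX
    refine ⟨hann α ?_, hβ⟩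
    obtain ⟨s, hs⟩ := hβ
    have h2 : aeval c β (b w) = 0 := by
      rw [hs, mul_comm, map_mul, Module.End.mul_apply, ← Module.End.mul_apply (aeval c m), ← (hbb m).eq,
        Module.End.mul_apply, hwm, map_zero, map_zero]
    simpa [emb, h2] using h
  have : Fact (Irreducible m) := ⟨hm⟩
  let K := AdjoinRoot m
  have : CharP K p := charP_of_injective_algebraMap (algebraMap k K).injective p
  have hwd : ∀ α α' β β', AdjoinRoot.mk m α = AdjoinRoot.mk m α' →
      AdjoinRoot.mk m β = AdjoinRoot.mk m β' → emb α β = emb α' β' := by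
    intro α α' β β' h1 h2
    rw [AdjoinRoot.mk_eq_mk] at h1 h2
    obtain ⟨s, hs⟩ := h1
    obtain ⟨t, ht⟩ := h2
    have e1 : aeval c α w = aeval c α' w := by
      rw [sub_eq_iff_eq_add.mp hs, map_add, mul_comm, map_mul, LinearMap.add_apply,
        Module.End.mul_apply, hwm, map_zero, zero_add]
    have e2 : aeval c β (b w) = aeval c β' (b w) := by
      have hb0 : aeval c m (b w) = 0 := by
        rw [← Module.End.mul_apply, ← (hbb m).eq, Module.End.mul_apply, hwm, map_zero]
      rw [sub_eq_iff_eq_add.mp ht, map_add, mul_comm, map_mul, LinearMap.add_apply,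
        Module.End.mul_apply, hb0, map_zero, zero_add]
    simp only [emb, e1, e2]
  have hinj : ∀ α α' β β', emb α β = emb α' β' →
      AdjoinRoot.mk m α = AdjoinRoot.mk m α' ∧ AdjoinRoot.mk m β = AdjoinRoot.mk m β' := by
    intro α α' β β' h
    have h0 : emb (α - α') (β - β') = 0 := by
      simp only [emb, map_sub, LinearMap.sub_apply]
      rw [sub_add_sub_comm]
      exact sub_eq_zero.mpr h
    exact ⟨AdjoinRoot.mk_eq_mk.mpr (hemb0 _ _ h0).1, AdjoinRoot.mk_eq_mk.mpr (hemb0 _ _ h0).2⟩
  -- pairs (element of `H`, matrix over `K`) intertwined by `emb`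
  let Rel : Subgroup (H × GL (Fin 2) K) :=
    { carrier := {z | ∀ α β, ∃ α' β',
        (z.2 : Matrix (Fin 2) (Fin 2) K) *ᵥ ![AdjoinRoot.mk m α, AdjoinRoot.mk m β] =
          ![AdjoinRoot.mk m α', AdjoinRoot.mk m β'] ∧ ρ z.1 (emb α β) = emb α' β'}
      one_mem' := fun α β => ⟨α, β, by simp, by simp⟩
      mul_mem' := by
        intro z z' hz hz' α β
        obtain ⟨α₁, β₁, h1, h2⟩ := hz' α β
        obtain ⟨α₂, β₂, h3, h4⟩ := hz α₁ β₁
        refine ⟨α₂, β₂, ?_, ?_⟩
        · rw [Prod.snd_mul, Units.val_mul, ← Matrix.mulVec_mulVec, h1, h3]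
        · rw [Prod.fst_mul, map_mul, Module.End.mul_apply, h2, h4]
      inv_mem' := by
        intro z hz α β
        obtain ⟨α₀, h0⟩ := AdjoinRoot.mk_surjective
          (((z.2⁻¹ : GL (Fin 2) K) : Matrix (Fin 2) (Fin 2) K).mulVec ![AdjoinRoot.mk m α, AdjoinRoot.mk m β] 0)
        obtain ⟨β₀, h0'⟩ := AdjoinRoot.mk_surjective
          (((z.2⁻¹ : GL (Fin 2) K) : Matrix (Fin 2) (Fin 2) K).mulVec ![AdjoinRoot.mk m α, AdjoinRoot.mk m β] 1)
        have hv0 : ((z.2⁻¹ : GL (Fin 2) K) : Matrix (Fin 2) (Fin 2) K) *ᵥ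
            ![AdjoinRoot.mk m α, AdjoinRoot.mk m β] = ![AdjoinRoot.mk m α₀, AdjoinRoot.mk m β₀] := by
          funext i
          fin_cases i
          · exact h0.symm
          · exact h0'.symm
        obtain ⟨α₁, β₁, h1, h2⟩ := hz α₀ β₀
        refine ⟨α₀, β₀, by rw [Prod.snd_inv]; exact hv0, ?_⟩
        rw [← hv0, Matrix.mulVec_mulVec, ← Units.val_mul, mul_inv_cancel, Units.val_one,
          Matrix.one_mulVec] at h1
        rw [hwd α α₁ β β₁ (congrFun h1 0) (congrFun h1 1), ← h2, Prod.fst_inv,
          ← Module.End.mul_apply, ← map_mul, inv_mul_cancel, map_one, Module.End.one_apply] }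
  have hker : ∀ z ∈ Rel, z.1 = 1 → z.2 = 1 := by
    intro z hz h1
    obtain ⟨p1, q1, e1, f1⟩ := hz 1 0
    obtain ⟨p2, q2, e2, f2⟩ := hz 0 1
    rw [h1, map_one, Module.End.one_apply] at f1 f2
    obtain ⟨g11, g12⟩ := hinj _ _ _ _ f1
    obtain ⟨g21, g22⟩ := hinj _ _ _ _ f2
    rw [← g11, ← g12] at e1
    rw [← g21, ← g22] at e2
    refine Units.ext ?_
    ext i j
    fin_cases j
    · have := congrFun e1 i
      simp [Matrix.mulVec, dotProduct] at this
      fin_cases i <;> simpa using this
    · have := congrFun e2 i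
      simp [Matrix.mulVec, dotProduct] at this
      fin_cases i <;> simpa using this
  set t : K := AdjoinRoot.root m with htdef
  have ht : t ≠ 0 := fun h => hmX (AdjoinRoot.mk_eq_zero.mp (by rw [AdjoinRoot.mk_X]; exact h))
  let MX : GL (Fin 2) K := ⟨!![1, t; 0, 1], !![1, -t; 0, 1],
    by simp [Matrix.one_fin_two], by simp [Matrix.one_fin_two]⟩
  let MY : GL (Fin 2) K := ⟨!![1, 0; 1, 1], !![1, 0; -1, 1],
    by simp [Matrix.one_fin_two], by simp [Matrix.one_fin_two]⟩
  have hxR : (x, MX) ∈ Rel := by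
    intro α β
    refine ⟨α + X * β, β, ?_, ?_⟩
    · funext i
      fin_cases i <;> simp [MX, Matrix.mulVec, dotProduct, map_add, map_mul, AdjoinRoot.mk_X, htdef]
    · have hx' : ρ x = 1 + a := by rw [ha]; abel
      simp only [emb, hx', LinearMap.add_apply, Module.End.one_apply, map_add, map_mul,
        Polynomial.aeval_X, Module.End.mul_apply]
      have eA : a (aeval c α w) = 0 := by
        rw [← Module.End.mul_apply, (haa α).eq, Module.End.mul_apply, haw, map_zero]
      have eB : a (aeval c β (b w)) = c (aeval c β w) := by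
        rw [← Module.End.mul_apply, (haa β).eq, Module.End.mul_apply, habw,
          ← Module.End.mul_apply, ← (commute_aeval_of_commute (Commute.refl c) β).eq,
          Module.End.mul_apply]
      rw [eA, eB]
      abel
  have hyR : (y, MY) ∈ Rel := by
    intro α β
    refine ⟨α, α + β, ?_, ?_⟩
    · funext i
      fin_cases i <;> simp [MY, Matrix.mulVec, dotProduct, map_add]
    · have hy' : ρ y = 1 + b := by rw [hb]; abel
      have hbbw : b (b w) = 0 := by rw [← Module.End.mul_apply, hyq, LinearMap.zero_apply]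
      simp only [emb, hy', LinearMap.add_apply, Module.End.one_apply, map_add]
      rw [← Module.End.mul_apply, (hbb α).eq, Module.End.mul_apply,
        ← Module.End.mul_apply b (aeval c β), (hbb β).eq, Module.End.mul_apply, hbbw, map_zero]
      abel
  let Γ : Subgroup (H × GL (Fin 2) K) := Subgroup.closure {(x, MX), (y, MY)}
  have hΓ : Γ ≤ Rel := (Subgroup.closure_le _).mpr (by
    rintro z (rfl | rfl) <;> assumption)
  let f : Γ →* H := (MonoidHom.fst H (GL (Fin 2) K)).comp Γ.subtype
  have hf : Function.Injective f := by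
    rw [← MonoidHom.ker_eq_bot_iff, Subgroup.eq_bot_iff_forall]
    intro z hz
    have h1 : (z : H × GL (Fin 2) K).1 = 1 := hz
    exact Subtype.ext (Prod.ext h1 (hker _ (hΓ z.2) h1))
  have : Finite Γ := Finite.of_injective f hf
  let H' : Subgroup (GL (Fin 2) K) := Γ.map (MonoidHom.snd H (GL (Fin 2) K))
  have : Finite H' := Finite.of_surjective
    (fun z : Γ => (⟨_, Subgroup.mem_map_of_mem (MonoidHom.snd H (GL (Fin 2) K)) z.2⟩ : H'))
    (fun ⟨w, hw⟩ => by
      obtain ⟨z, hz, rfl⟩ := hw
      exact ⟨⟨z, hz⟩, rfl⟩)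
  have hodd' : Odd (Nat.card H') :=
    hodd.of_dvd_nat ((Subgroup.card_map_dvd _ _).trans (Subgroup.card_dvd_of_injective f hf))
  have hdet : ∀ g ∈ H', (g : Matrix (Fin 2) (Fin 2) K).det = 1 := by
    have hle : Γ ≤ (Matrix.GeneralLinearGroup.det.comp (MonoidHom.snd H (GL (Fin 2) K))).ker := by
      refine (Subgroup.closure_le _).mpr ?_
      rintro z (rfl | rfl) <;> refine MonoidHom.mem_ker.mpr (Units.ext ?_) <;>
        simp [MX, MY, Matrix.det_fin_two]
    rintro _ ⟨z, hz, rfl⟩
    exact congrArg Units.val (MonoidHom.mem_ker.mp (hle hz))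
  have hpow : ∀ M : GL (Fin 2) K,
      ((M : Matrix (Fin 2) (Fin 2) K) - 1) * ((M : Matrix (Fin 2) (Fin 2) K) - 1) = 0 → M ^ p = 1 := by
    intro M hM
    refine Units.ext ?_
    have h1 := sub_pow_char_of_commute p (Commute.one_right (M : Matrix (Fin 2) (Fin 2) K))
    rw [← Nat.add_sub_cancel' (Fact.out : p.Prime).two_le, pow_add, pow_two, hM, zero_mul] at h1
    rw [one_pow] at h1
    rw [Units.val_pow_eq_pow_val, Units.val_one]
    have h2 := sub_eq_zero.mp h1.symm
    rwa [Nat.add_sub_cancel' (Fact.out : p.Prime).two_le] at h2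
  have key := sl2_odd_order_p_commute (p := p) hp H' hodd' hdet
    (Subgroup.mem_map_of_mem (MonoidHom.snd H (GL (Fin 2) K)) (Subgroup.subset_closure (Or.inl rfl) : (x, MX) ∈ Γ))
    (Subgroup.mem_map_of_mem (MonoidHom.snd H (GL (Fin 2) K)) (Subgroup.subset_closure (Or.inr rfl) : (y, MY) ∈ Γ))
    (hpow MX (by ext i j; fin_cases i <;> fin_cases j <;> simp [MX, Matrix.mul_apply]))
    (hpow MY (by ext i j; fin_cases i <;> fin_cases j <;> simp [MY, Matrix.mul_apply]))
  have h00 := congrArg (fun M : GL (Fin 2) K => (M : Matrix (Fin 2) (Fin 2) K) 0 0) key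
  simp [MX, MY] at h00
  exact ht h00

omit [FiniteDimensional k V] [Finite H] in
/-- With `ab + ba` nilpotent every proper invariant subspace grows by a vector fixed modulo it. -/
theorem exists_fixed_mod {a b : Module.End k V} (hxq : a * a = 0) (hyq : b * b = 0)
    (hnil : IsNilpotent (a * b + b * a)) (F : Submodule k V) (hFa : ∀ v ∈ F, a v ∈ F)
    (hFb : ∀ v ∈ F, b v ∈ F) (hF : F ≠ ⊤) : ∃ v ∉ F, a v ∈ F ∧ b v ∈ F := by
  set c := a * b + b * a with hc
  obtain ⟨u, -, hu⟩ := SetLike.exists_of_lt (lt_top_iff_ne_top.mpr hF)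
  obtain ⟨n, hn⟩ := hnil
  obtain ⟨u₁, hu₁, hcu₁⟩ : ∃ u₁ ∉ F, c u₁ ∈ F := by
    suffices h : ∀ j, ∀ w ∉ F, (c ^ j) w ∈ F → ∃ u₁ ∉ F, c u₁ ∈ F from
      h n u hu (by rw [hn, LinearMap.zero_apply]; exact F.zero_mem)
    intro j
    induction j with
    | zero => intro w hw h; exact absurd (by simpa using h) hw
    | succ j ih =>
      intro w hw h
      by_cases h' : (c ^ j) w ∈ F
      · exact ih w hw h'
      · exact ⟨_, h', by rwa [pow_succ', Module.End.mul_apply] at h⟩
  have hca : a * c = c * a := sum_comm_of_sq_zero hxq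
  have hcb : b * c = c * b := by rw [hc, add_comm (a * b)]; exact sum_comm_of_sq_zero hyq
  obtain ⟨u₂, hu₂, hcu₂, hau₂⟩ : ∃ u₂ ∉ F, c u₂ ∈ F ∧ a u₂ ∈ F := by
    by_cases h : a u₁ ∈ F
    · exact ⟨u₁, hu₁, hcu₁, h⟩
    · refine ⟨a u₁, h, ?_, ?_⟩
      · rw [← Module.End.mul_apply, ← hca, Module.End.mul_apply]; exact hFa _ hcu₁
      · rw [← Module.End.mul_apply, hxq, LinearMap.zero_apply]; exact F.zero_mem
  by_cases h : b u₂ ∈ F
  · exact ⟨u₂, hu₂, hau₂, h⟩
  · refine ⟨b u₂, h, ?_, ?_⟩
    · have e : a (b u₂) = c u₂ - b (a u₂) := by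
        rw [hc, LinearMap.add_apply, Module.End.mul_apply, Module.End.mul_apply, add_sub_cancel_right]
      rw [e]
      exact F.sub_mem hcu₂ (hFb _ hau₂)
    · rw [← Module.End.mul_apply, hyq, LinearMap.zero_apply]; exact F.zero_mem

/-- Elements of order prime to `p` act trivially in a group generated by two quadratic elements. -/
theorem quad_pair_linear {p : ℕ} [Fact p.Prime] [CharP k p] (hp : p ≠ 2) (hodd : Odd (Nat.card H))
    (ρ : H →* Module.End k V) (x y : H) (hgen : Subgroup.closure ({x, y} : Set H) = ⊤)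
    (hxq : (ρ x - 1) * (ρ x - 1) = 0) (hyq : (ρ y - 1) * (ρ y - 1) = 0)
    (h : H) (hh : ¬ p ∣ orderOf h) : ρ h = 1 := by
  have hnil := isNilpotent_sum_of_quad hp hodd ρ x y hgen hxq hyq
  set S : Set (Submodule k V) := {F | (∀ v ∈ F, (ρ x - 1) v ∈ F) ∧ (∀ v ∈ F, (ρ y - 1) v ∈ F) ∧
    ∀ v ∈ F, ρ h v = v}
  obtain ⟨F, ⟨hFa, hFb, hFh⟩, hmax⟩ := (wellFounded_gt (α := Submodule k V)).has_min S
    ⟨⊥, by simp, by simp, by simp⟩
  by_cases hF : F = ⊤
  · exact LinearMap.ext fun v => hFh v (hF ▸ Submodule.mem_top)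
  exfalso
  obtain ⟨v, hv, hav, hbv⟩ := exists_fixed_mod hxq hyq hnil F hFa hFb hF
  -- every element of `H` maps `v` into `v + F` and preserves `F`
  let M : Submonoid H :=
    { carrier := {g | ρ g v - v ∈ F ∧ ∀ w ∈ F, ρ g w ∈ F}
      one_mem' := by simp
      mul_mem' := by
        rintro g g' ⟨hg1, hg2⟩ ⟨hg1', hg2'⟩
        refine ⟨?_, fun w hw => by rw [map_mul, Module.End.mul_apply]; exact hg2 _ (hg2' w hw)⟩
        have e : ρ (g * g') v - v = ρ g (ρ g' v - v) + (ρ g v - v) := by
          rw [map_mul, Module.End.mul_apply, map_sub]; abel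
        rw [e]
        exact F.add_mem (hg2 _ hg1') hg1 }
  have hM : ∀ g, g ∈ M := by
    intro g
    have hg : g ∈ Submonoid.closure ({x, y} : Set H) := by
      have h1 : g ∈ (Subgroup.closure ({x, y} : Set H)).toSubmonoid := hgen ▸ Subgroup.mem_top g
      rwa [Subgroup.closure_toSubmonoid_of_finite] at h1
    refine (Submonoid.closure_le.mpr ?_) hg
    rintro z (rfl | rfl)
    · exact ⟨hav, fun w hw => by simpa using F.add_mem (hFa w hw) hw⟩
    · exact ⟨hbv, fun w hw => by simpa using F.add_mem (hFb w hw) hw⟩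
  -- `h` fixes `v`
  have hvh : ρ h v = v := by
    set z := ρ h v - v
    have hz : z ∈ F := (hM h).1
    have key : ∀ n : ℕ, (ρ h ^ n) v = v + (n : k) • z := by
      intro n
      induction n with
      | zero => simp
      | succ n ih =>
        rw [pow_succ', Module.End.mul_apply, ih, map_add, map_smul, hFh z hz, Nat.cast_succ, add_smul,
          one_smul, show ρ h v = v + z by simp [z]]
        abel
    have h1 := key (orderOf h)
    rw [← map_pow, pow_orderOf_eq_one, map_one, Module.End.one_apply, left_eq_add] at h1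
    have hne : ((orderOf h : ℕ) : k) ≠ 0 := fun e => hh ((CharP.cast_eq_zero_iff k p _).mp e)
    exact sub_eq_zero.mp ((smul_eq_zero.mp h1).resolve_left hne)
  refine hmax (F ⊔ Submodule.span k {v}) ⟨?_, ?_, ?_⟩
    (lt_of_le_of_ne le_sup_left fun e => hv (e ▸ Submodule.mem_sup_right (Submodule.mem_span_singleton_self v)))
  · intro w hw
    obtain ⟨f₀, hf₀, _, hl, rfl⟩ := Submodule.mem_sup.mp hw
    obtain ⟨r, rfl⟩ := Submodule.mem_span_singleton.mp hl
    rw [map_add, map_smul]
    exact Submodule.mem_sup_left (F.add_mem (hFa _ hf₀) (F.smul_mem r hav))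
  · intro w hw
    obtain ⟨f₀, hf₀, _, hl, rfl⟩ := Submodule.mem_sup.mp hw
    obtain ⟨r, rfl⟩ := Submodule.mem_span_singleton.mp hl
    rw [map_add, map_smul]
    exact Submodule.mem_sup_left (F.add_mem (hFb _ hf₀) (F.smul_mem r hbv))
  · intro w hw
    obtain ⟨f₀, hf₀, _, hl, rfl⟩ := Submodule.mem_sup.mp hw
    obtain ⟨r, rfl⟩ := Submodule.mem_span_singleton.mp hl
    rw [map_add, map_smul, hFh _ hf₀, hvh]

end LinearCase

section GroupCase

open scoped IsMulCommutative

variable {H : Type*} [Group H] [Finite H]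

/-- An automorphism is quadratic on `P` if it fixes all the displacements `v⁻¹ f(v)`. -/
def QuadAut {P : Type*} [Group P] (f : MulAut P) : Prop := ∀ v : P, f (v⁻¹ * f v) = v⁻¹ * f v

/-- The case of an elementary abelian `p`-group. -/
theorem quad_pair_elementary {p : ℕ} [Fact p.Prime] (hp : p ≠ 2) (hodd : Odd (Nat.card H)) (x y : H)
    (hgen : Subgroup.closure ({x, y} : Set H) = ⊤) (h : H) (hh : ¬ p ∣ orderOf h)
    {V : Type*} [AddCommGroup V] [Finite V] (hV : ∀ v : V, p • v = 0) (φ : H →* AddMonoid.End V)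
    (hx : ∀ v, φ x (φ x v - v) = φ x v - v) (hy : ∀ v, φ y (φ y v - v) = φ y v - v) :
    ∀ v, φ h v = v := by
  have : Module (ZMod p) V := AddCommGroup.zmodModule hV
  have : Module.Finite (ZMod p) V := Module.Finite.of_finite
  let r : H →* Module.End (ZMod p) V :=
    { toFun := fun g => AddMonoidHom.toZModLinearMap p (φ g : V →+ V)
      map_one' := by
        refine LinearMap.ext fun v => ?_
        exact DFunLike.congr_fun (map_one φ) v
      map_mul' := fun g g' => by
        refine LinearMap.ext fun v => ?_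
        exact DFunLike.congr_fun (map_mul φ g g') v }
  have hr : ∀ (g : H) (v : V), r g v = φ g v := fun _ _ => rfl
  have hquad : ∀ g, (∀ v, φ g (φ g v - v) = φ g v - v) → (r g - 1) * (r g - 1) = 0 := by
    intro g hg
    refine LinearMap.ext fun v => ?_
    simp [hr, hg v]
  have h1 := quad_pair_linear (p := p) hp hodd r x y hgen (hquad x hx) (hquad y hy) h hh
  exact fun v => congrArg (fun e : Module.End (ZMod p) V => e v) h1

/-- Elements of order prime to `p` act trivially on a `p`-group, in a group of odd order generated by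
two quadratic elements. -/
theorem quad_pair_group.{u} {p : ℕ} [Fact p.Prime] (hp : p ≠ 2) (hodd : Odd (Nat.card H)) (x y : H)
    (hgen : Subgroup.closure ({x, y} : Set H) = ⊤) (h : H) (hh : ¬ p ∣ orderOf h) :
    ∀ (P : Type u) [Group P] [Finite P], IsPGroup p P → ∀ φ : H →* MulAut P,
      QuadAut (φ x) → QuadAut (φ y) → φ h = 1 := by
  intro P
  induction hn : Nat.card P using Nat.strong_induction_on generalizing P with
  | _ n ih =>
  intro _ _ hP φ hx hy
  subst hn
  rcases subsingleton_or_nontrivial P with hs | hs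
  · exact MulEquiv.ext fun v => Subsingleton.elim _ _
  -- central elements of order dividing `p`
  let Z : Subgroup P :=
    { carrier := {v | v ∈ Subgroup.center P ∧ v ^ p = 1}
      one_mem' := ⟨Subgroup.one_mem _, one_pow p⟩
      mul_mem' := fun {a b} ha hb => ⟨Subgroup.mul_mem _ ha.1 hb.1, by
        rw [(show Commute a b from (Subgroup.mem_center_iff.mp hb.1 a)).mul_pow, ha.2, hb.2, one_mul]⟩
      inv_mem' := fun {a} ha => ⟨Subgroup.inv_mem _ ha.1, by rw [inv_pow, ha.2, inv_one]⟩ }
  have hZmap : ∀ f : MulAut P, ∀ v, v ∈ Z → f v ∈ Z := by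
    intro f v hv
    refine ⟨Subgroup.mem_center_iff.mpr fun w => ?_, by rw [← map_pow, hv.2, map_one]⟩
    apply f.symm.injective
    simp [Subgroup.mem_center_iff.mp hv.1 (f.symm w)]
  have hZchar : Z.Characteristic := Subgroup.characteristic_iff_comap_eq.mpr fun f => by
    ext v
    refine ⟨fun hv => ?_, fun hv => hZmap f v hv⟩
    simpa using hZmap f.symm (f v) hv
  have : Z.Normal := inferInstance
  have : IsMulCommutative Z :=
    ⟨⟨fun a b => Subtype.ext (Subgroup.mem_center_iff.mp b.2.1 a)⟩⟩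
  have hZne : Z ≠ ⊥ := by
    have := hP.center_nontrivial
    have hdvd : p ∣ Nat.card (Subgroup.center P) :=
      ((hP.to_subgroup (Subgroup.center P)).card_eq_or_dvd).resolve_left
        Finite.one_lt_card.ne'
    obtain ⟨z, hz⟩ := exists_prime_orderOf_dvd_card' (G := Subgroup.center P) p hdvd
    intro hbot
    have hzZ : (z : P) ∈ Z := ⟨z.2, by
      rw [← hz, ← Subgroup.coe_pow, pow_orderOf_eq_one, Subgroup.coe_one]⟩
    rw [hbot, Subgroup.mem_bot] at hzZ
    exact (Fact.out : p.Prime).ne_one (by rw [← hz, orderOf_eq_one_iff]; exact Subtype.ext hzZ)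
  -- the action on `Z`
  have hZfix : ∀ v, v ∈ Z → φ h v = v := by
    let φZ : H →* AddMonoid.End (Additive Z) :=
      { toFun := fun g => MonoidHom.toAdditive
          { toFun := fun v : Z => (⟨φ g (v : P), hZmap (φ g) (v : P) v.2⟩ : Z)
            map_one' := Subtype.ext (map_one (φ g))
            map_mul' := fun a b => Subtype.ext (map_mul (φ g) (a : P) (b : P)) }
        map_one' := by
          refine DFunLike.ext _ _ fun v : Additive Z => ?_
          refine Additive.toMul.injective (Subtype.ext ?_)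
          exact DFunLike.congr_fun (map_one φ) (v.toMul : P)
        map_mul' := fun g g' => by
          refine DFunLike.ext _ _ fun v : Additive Z => ?_
          refine Additive.toMul.injective (Subtype.ext ?_)
          exact DFunLike.congr_fun (map_mul φ g g') (v.toMul : P) }
    have hφZ : ∀ g, QuadAut (φ g) → ∀ v, φZ g (φZ g v - v) = φZ g v - v := by
      intro g hg v
      refine Additive.toMul.injective (Subtype.ext ?_)
      change φ g (φ g (v.toMul : P) / (v.toMul : P)) = φ g (v.toMul : P) / (v.toMul : P)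
      rw [div_eq_mul_inv, Subgroup.mem_center_iff.mp (Subgroup.inv_mem _ v.toMul.2.1) _]
      exact hg _
    intro v hv
    have h1 := quad_pair_elementary hp hodd x y hgen h hh
      (fun w : Additive Z => Additive.toMul.injective (Subtype.ext w.toMul.2.2)) φZ
      (hφZ x hx) (hφZ y hy) (Additive.ofMul ⟨v, hv⟩)
    exact congrArg (fun w : Additive Z => (w.toMul : P)) h1
  -- the action on `P ⧸ Z`
  let ψ : H →* MulAut (P ⧸ Z) :=
    { toFun := fun g => QuotientGroup.congr Z Z (φ g) (Subgroup.characteristic_iff_map_eq.mp hZchar _)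
      map_one' := MulEquiv.ext fun z => by
        induction z using QuotientGroup.induction_on with
        | _ z => simp
      map_mul' := fun g g' => MulEquiv.ext fun z => by
        induction z using QuotientGroup.induction_on with
        | _ z => simp; rfl }
  have hquadq : ∀ g, QuadAut (φ g) → QuadAut (ψ g) := by
    intro g hg z
    induction z using QuotientGroup.induction_on with
    | _ z => exact congrArg (QuotientGroup.mk (s := Z)) (hg z)
  have hcard : Nat.card (P ⧸ Z) < Nat.card P := by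
    rw [Subgroup.card_eq_card_quotient_mul_card_subgroup Z]
    exact lt_mul_of_one_lt_right Nat.card_pos ((Subgroup.one_lt_card_iff_ne_bot Z).mpr hZne)
  have hq := ih _ hcard (P ⧸ Z) rfl (hP.to_quotient Z) ψ (hquadq x hx) (hquadq y hy)
  refine MulEquiv.ext fun v => ?_
  have hz : v⁻¹ * φ h v ∈ Z := by
    rw [← QuotientGroup.eq]
    exact (congrArg (fun f : MulAut (P ⧸ Z) => f (v : P ⧸ Z)) hq).symm
  set d := v⁻¹ * φ h v with hd
  have hstep : ∀ n : ℕ, φ (h ^ n) v = v * d ^ n := by
    intro n
    induction n with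
    | zero => simp
    | succ n ih =>
      rw [pow_succ' h n, map_mul, MulAut.mul_apply, ih, map_mul, map_pow, hZfix d hz, pow_succ' d n,
        ← mul_assoc, hd, mul_inv_cancel_left]
  have h1 : d ^ orderOf h = 1 := by
    have := hstep (orderOf h)
    rwa [pow_orderOf_eq_one, map_one, MulAut.one_apply, left_eq_mul] at this
  have hd1 : d = 1 := eq_one_of_pow_coprime
    ((Nat.Prime.coprime_iff_not_dvd Fact.out).mpr hh) hz.2 h1
  rw [MulAut.one_apply]
  exact (inv_mul_eq_one.mp hd1).symm

end GroupCase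

end H84
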