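import Mathlib
import Cfsg.Agent.H84.QuadPair
import Cfsg.Agent.H65.BaerSuzuki
import Cfsg.Agent.H10.PSolvable
import Cfsg.Agent.H11.ZJ

/-!
`p`-stability of groups of odd order (`p` odd): quadratic elements lie in the `p`-core of the
automizer.
-/

set_option autoImplicit false

namespace H84

open scoped commutatorElement

variable {G : Type*} [Group G] [Finite G] {p : ℕ} [Fact p.Prime]

/-- In a faithful action of a group of odd order on a `p`-group every quadratic element lies in the
`p`-core. -/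
theorem quad_mem_pCore {Q : Type*} [Group Q] [Finite Q] (hp : p ≠ 2) (hodd : Odd (Nat.card Q))
    {P : Type*} [Group P] [Finite P] (hP : IsPGroup p P) (φ : Q →* MulAut P)
    (hinj : Function.Injective φ) {x : Q} (hx : QuadAut (φ x)) : x ∈ Cfsg.pCore p Q := by
  refine H65.mem_pCore_of_pairs fun g => ?_
  set K := Subgroup.closure ({x, g * x * g⁻¹} : Set Q) with hK
  have hxK : x ∈ K := Subgroup.subset_closure (Or.inl rfl)
  have hyK : g * x * g⁻¹ ∈ K := Subgroup.subset_closure (Or.inr rfl)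
  have hgen : Subgroup.closure ({⟨x, hxK⟩, ⟨g * x * g⁻¹, hyK⟩} : Set K) = ⊤ := by
    refine Subgroup.map_injective K.subtype_injective ?_
    rw [MonoidHom.map_closure, ← MonoidHom.range_eq_map, Subgroup.range_subtype, Set.image_pair]
    rfl
  have hy : QuadAut (φ (g * x * g⁻¹)) := by
    intro v
    obtain ⟨u, rfl⟩ := (φ g).surjective v
    have e : ∀ w, φ (g * x * g⁻¹) (φ g w) = φ g (φ x w) := fun w => by simp
    rw [e, ← map_inv (φ g), ← map_mul (φ g), e, hx u]
  intro k
  obtain ⟨v, m, hm, hk⟩ := Nat.exists_eq_pow_mul_and_not_dvd (orderOf_pos k).ne' p (Fact.out : p.Prime).ne_one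
  refine ⟨v, ?_⟩
  have hord : orderOf (k ^ p ^ v) = m := by
    rw [orderOf_pow, hk, Nat.gcd_eq_right (Dvd.intro _ rfl),
      Nat.mul_div_cancel_left _ (pow_pos (Fact.out : p.Prime).pos v)]
  have h1 := quad_pair_group (p := p) hp (hodd.of_dvd_nat (Subgroup.card_subgroup_dvd_card K))
    ⟨x, hxK⟩ ⟨g * x * g⁻¹, hyK⟩ hgen (k ^ p ^ v) (hord.symm ▸ hm) P hP (φ.comp K.subtype) hx hy
  exact Subtype.ext (hinj (by rw [Subgroup.coe_one, map_one]; exact h1))

/-- A quadratically acting subgroup of `N_G(P)` maps into the `p`-core of `N_G(P)/C_G(P)`. -/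
theorem quad_map_le_pCore (hodd : Odd (Nat.card G)) (hp : p ≠ 2) {P A : Subgroup G} (hP : IsPGroup p P)
    (hquad : ⁅⁅P, A⁆, A⁆ = ⊥) :
    (A.subgroupOf (Subgroup.normalizer (P : Set G))).map
        (QuotientGroup.mk' ((Subgroup.centralizer (P : Set G)).subgroupOf (Subgroup.normalizer (P : Set G))))
      ≤ Cfsg.pCore p _ := by
  set N := Subgroup.normalizer (P : Set G)
  set C := (Subgroup.centralizer (P : Set G)).subgroupOf N
  have hker : C = P.normalizerMonoidHom.ker := P.normalizerMonoidHom_ker.symm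
  let φ := QuotientGroup.lift C P.normalizerMonoidHom hker.le
  have hinj : Function.Injective φ := by
    rw [injective_iff_map_eq_one]
    intro z
    induction z using QuotientGroup.induction_on with
    | _ z => exact fun hz => (QuotientGroup.eq_one_iff z).mpr (hker.ge hz)
  have hodd' : Odd (Nat.card (N ⧸ C)) :=
    hodd.of_dvd_nat ((Subgroup.card_quotient_dvd_card C).trans (Subgroup.card_subgroup_dvd_card N))
  rintro _ ⟨a, ha, rfl⟩
  refine quad_mem_pCore hp hodd' hP φ hinj fun v => Subtype.ext ?_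
  have h1 : (⁅⁅(v : G)⁻¹, (a : G)⁆, (a : G)⁆) = 1 := by
    rw [← Subgroup.mem_bot, ← hquad]
    exact Subgroup.commutator_mem_commutator
      (Subgroup.commutator_mem_commutator (Subgroup.inv_mem _ v.2) ha) ha
  have h2 : ⁅(v : G)⁻¹, (a : G)⁆ = (v : G)⁻¹ * ((a : G) * v * (a : G)⁻¹) := by
    rw [commutatorElement_def]; group
  rw [commutatorElement_eq_one_iff_mul_comm] at h1
  change (a : G) * ((v : G)⁻¹ * ((a : G) * v * (a : G)⁻¹)) * (a : G)⁻¹ = (v : G)⁻¹ * ((a : G) * v * (a : G)⁻¹)
  rw [← h2, ← h1, mul_inv_cancel_right]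

/-- The same for a normal `p`-subgroup and the quotient by its centraliser. -/
theorem quad_map_le_pCore_of_normal (hodd : Odd (Nat.card G)) (hp : p ≠ 2) {P A : Subgroup G} [P.Normal]
    (hP : IsPGroup p P) (hquad : ⁅⁅P, A⁆, A⁆ = ⊥) :
    A.map (QuotientGroup.mk' (Subgroup.centralizer (P : Set G))) ≤
      Cfsg.pCore p (G ⧸ Subgroup.centralizer (P : Set G)) := by
  set C := Subgroup.centralizer (P : Set G)
  let ψ : G →* MulAut P := MulAut.conjNormal
  have hker : C = ψ.ker := by
    ext g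
    simp only [C, ψ, Subgroup.mem_centralizer_iff, MonoidHom.mem_ker, MulEquiv.ext_iff, MulAut.one_apply,
      Subtype.ext_iff, MulAut.conjNormal_apply, mul_inv_eq_iff_eq_mul, SetLike.mem_coe, Subtype.forall]
    exact ⟨fun h x hx => (h x hx).symm, fun h x hx => (h x hx).symm⟩
  let φ := QuotientGroup.lift C ψ hker.le
  have hinj : Function.Injective φ := by
    rw [injective_iff_map_eq_one]
    intro z
    induction z using QuotientGroup.induction_on with
    | _ z => exact fun hz => (QuotientGroup.eq_one_iff z).mpr (hker.ge hz)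
  rintro _ ⟨a, ha, rfl⟩
  refine quad_mem_pCore hp (hodd.of_dvd_nat (Subgroup.card_quotient_dvd_card C)) hP φ hinj fun v =>
    Subtype.ext ?_
  have h1 : (⁅⁅(v : G)⁻¹, a⁆, a⁆) = 1 := by
    rw [← Subgroup.mem_bot, ← hquad]
    exact Subgroup.commutator_mem_commutator
      (Subgroup.commutator_mem_commutator (Subgroup.inv_mem _ v.2) ha) ha
  have h2 : ⁅(v : G)⁻¹, a⁆ = (v : G)⁻¹ * (a * v * a⁻¹) := by rw [commutatorElement_def]; group
  rw [commutatorElement_eq_one_iff_mul_comm] at h1
  change a * ((v : G)⁻¹ * (a * v * a⁻¹)) * a⁻¹ = (v : G)⁻¹ * (a * v * a⁻¹)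
  rw [← h2, ← h1, mul_inv_cancel_right]

/-- With trivial `p'`-core a subgroup acting quadratically on `O_p(G)` lies in `O_p(G)`. -/
theorem quad_le_pCore [Group.IsSolvable G] (hodd : Odd (Nat.card G)) (hp : p ≠ 2)
    (h0 : Cfsg.pPrimeCore p G = ⊥) {A : Subgroup G} (hquad : ⁅⁅Cfsg.pCore p G, A⁆, A⁆ = ⊥) :
    A ≤ Cfsg.pCore p G := by
  have : (Cfsg.pCore p G).Normal := H1.pCore_normal' p G
  have hP := H1.isPGroup_pCore p G
  set C := Subgroup.centralizer (Cfsg.pCore p G : Set G)
  have hC : IsPGroup p C := hP.to_le (H10.centralizer_pCore_le H10.isPSolvable_of_isSolvable h0)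
  have h1 := quad_map_le_pCore_of_normal (A := A) hodd hp hP hquad
  set J := (Cfsg.pCore p (G ⧸ C)).comap (QuotientGroup.mk' C)
  have : (Cfsg.pCore p (G ⧸ C)).Normal := H1.pCore_normal' p _
  have hJ : IsPGroup p J := (H1.isPGroup_pCore p _).comap_of_ker_isPGroup _
    (by rwa [QuotientGroup.ker_mk'])
  exact (Subgroup.map_le_iff_le_comap.mp h1).trans (H1.le_pCore hJ)

/-- A subgroup acting quadratically on a normal `p`-subgroup that contains its centraliser in `O_p(G)`
lies in `O_p(G)` when the `p'`-core is trivial. -/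
theorem le_pCore_of_quad_of_centralizer [Group.IsSolvable G] (hodd : Odd (Nat.card G)) (hp : p ≠ 2)
    (h0 : Cfsg.pPrimeCore p G = ⊥) {P A : Subgroup G} [P.Normal] (hP : IsPGroup p P)
    (hcap : Cfsg.pCore p G ⊓ Subgroup.centralizer (P : Set G) ≤ P) (hquad : ⁅⁅P, A⁆, A⁆ = ⊥) :
    A ≤ Cfsg.pCore p G := by
  set C := Subgroup.centralizer (P : Set G) with hCdef
  have hmap := quad_map_le_pCore_of_normal (A := A) hodd hp hP hquad
  have hC0 : Cfsg.pPrimeCore p C = ⊥ := by
    refine (Subgroup.map_eq_bot_iff_of_injective _ C.subtype_injective).mp ?_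
    rw [H1.pPrimeCore_subgroup_map_eq, h0, bot_inf_eq]
  have hcen : (⊤ : Subgroup C) ≤ Subgroup.centralizer (Cfsg.pCore p C : Set C) := by
    rintro c - k hk
    refine Subtype.ext ?_
    simp only [Subgroup.coe_mul]
    refine c.2 (k : G) (hcap ?_)
    rw [← H1.pCore_subgroup_map_eq]
    exact ⟨k, hk, rfl⟩
  have hCp : IsPGroup p C := by
    have h := hcen.trans (H10.centralizer_pCore_le H10.isPSolvable_of_isSolvable hC0)
    exact ((H1.isPGroup_pCore p C).to_le h).of_equiv Subgroup.topEquiv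
  have : (Cfsg.pCore p (G ⧸ C)).Normal := H1.pCore_normal' p _
  have hJ : IsPGroup p ((Cfsg.pCore p (G ⧸ C)).comap (QuotientGroup.mk' C)) :=
    (H1.isPGroup_pCore p _).comap_of_ker_isPGroup _ (by rwa [QuotientGroup.ker_mk'])
  exact (Subgroup.map_le_iff_le_comap.mp hmap).trans (H1.le_pCore hJ)

/-- An abelian subgroup normalised by a Sylow `p`-subgroup lies in `O_{p',p}(G)`. -/
theorem abelian_le_pPrimePCore [Group.IsSolvable G] (hodd : Odd (Nat.card G)) (hp : p ≠ 2) (S : Sylow p G)
    {A : Subgroup G} [IsMulCommutative A]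
    (hn : (S : Subgroup G) ≤ Subgroup.normalizer (A : Set G)) : A ≤ Cfsg.pPrimePCore p G := by
  have : (Cfsg.pPrimeCore p G).Normal := H1.pPrimeCore_normal' p G
  set f := QuotientGroup.mk' (Cfsg.pPrimeCore p G)
  have hf : Function.Surjective f := QuotientGroup.mk'_surjective _
  refine Subgroup.map_le_iff_le_comap.mp ?_
  refine quad_le_pCore (hodd.of_dvd_nat (Subgroup.card_quotient_dvd_card _)) hp
    H10.pPrimeCore_quotient_pPrimeCore ?_
  set P := Cfsg.pCore p (G ⧸ Cfsg.pPrimeCore p G)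
  have hPS : P ≤ (S : Subgroup G).map f := H1.pCore_le_sylow (S.mapSurjective hf)
  have hPN : P ≤ Subgroup.normalizer ((A.map f : Subgroup _) : Set _) :=
    hPS.trans ((Subgroup.map_mono hn).trans (Subgroup.le_normalizer_map f))
  have h1 : ⁅P, A.map f⁆ ≤ A.map f := by
    refine Subgroup.commutator_le.mpr fun q hq b hb => ?_
    exact mul_mem ((Subgroup.mem_normalizer_iff.mp (hPN hq) b).mp hb) (inv_mem hb)
  rw [eq_bot_iff]
  refine (Subgroup.commutator_mono h1 le_rfl).trans ?_
  rw [← Subgroup.map_commutator, Subgroup.commutator_eq_bot_iff_le_centralizer.mpr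
    (Subgroup.le_centralizer A), Subgroup.map_bot]

/-- A Sylow subgroup covers a normal subgroup whose index over a normal `C` is a power of `p`. -/
theorem comap_pCore_le_inf_sup (S : Sylow p G) (C : Subgroup G) [C.Normal] :
    (Cfsg.pCore p (G ⧸ C)).comap (QuotientGroup.mk' C) ≤
      (S : Subgroup G) ⊓ (Cfsg.pCore p (G ⧸ C)).comap (QuotientGroup.mk' C) ⊔ C := by
  set L := (Cfsg.pCore p (G ⧸ C)).comap (QuotientGroup.mk' C) with hL
  have : L.Normal := (H1.pCore_normal' p (G ⧸ C)).comap _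
  refine Subgroup.relIndex_eq_one.mp ?_
  obtain ⟨k, hk⟩ := IsPGroup.iff_card.mp (H1.isPGroup_pCore p (G ⧸ C))
  have h3 : C.relIndex L = p ^ k := by
    have := Subgroup.relIndex_ker (K := L) (QuotientGroup.mk' C)
    rw [QuotientGroup.ker_mk'] at this
    rw [this, hL, Subgroup.map_comap_eq_self_of_surjective (QuotientGroup.mk'_surjective C)]
    exact hk
  have h4 : Nat.Coprime (((S : Subgroup G) ⊓ L).relIndex L) (p ^ k) :=
    Nat.Coprime.pow_right k (Nat.Coprime.symm
      ((Fact.out : p.Prime).coprime_iff_not_dvd.mpr (H11.not_dvd_inf_relIndex_of_normal S L)))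
  exact Nat.eq_one_of_dvd_coprimes h4 (Subgroup.relIndex_dvd_of_le_left L le_sup_left)
    (h3 ▸ Subgroup.relIndex_dvd_of_le_left L le_sup_right)

end H84
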