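import Cfsg.Prelude.Def_OddOrderLocal
import Mathlib.Order.OrderIsoNat
import Cfsg.Agent.H30.Basic

/-!
Basic properties of the Puig series.
-/

set_option autoImplicit false

namespace H84

variable {G : Type*} [Group G]

theorem puigStep_antitone {X Y : Subgroup G} (h : X ≤ Y) : Cfsg.puigStep Y ≤ Cfsg.puigStep X :=
  sSup_le_sSup fun _ hA => ⟨hA.1, h.trans hA.2⟩

theorem le_puigStep_of_normal {A : Subgroup G} [A.Normal] (hA : IsMulCommutative A) (X : Subgroup G) :
    A ≤ Cfsg.puigStep X :=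
  le_sSup ⟨hA, le_top.trans_eq (Subgroup.normalizer_eq_top_iff.mpr inferInstance).symm⟩

theorem puigStep_bot : Cfsg.puigStep (⊥ : Subgroup G) = ⊤ := by
  rw [eq_top_iff]
  intro x _
  exact (le_sSup ⟨inferInstance, bot_le⟩ : Subgroup.zpowers x ≤ Cfsg.puigStep (⊥ : Subgroup G))
    (Subgroup.mem_zpowers x)

theorem puigSeq_zero : Cfsg.puigSeq G 0 = ⊥ := rfl

theorem puigSeq_succ (n : ℕ) : Cfsg.puigSeq G (n + 1) = Cfsg.puigStep (Cfsg.puigSeq G n) := rfl

theorem puigSeq_one : Cfsg.puigSeq G 1 = ⊤ := puigStep_bot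

theorem puigSeq_even_le_succ (n : ℕ) :
    Cfsg.puigSeq G (2 * n) ≤ Cfsg.puigSeq G (2 * n + 2) := by
  induction n with
  | zero => exact bot_le
  | succ n ih => exact puigStep_antitone (puigStep_antitone ih)

theorem puigSeq_odd_succ_le (n : ℕ) :
    Cfsg.puigSeq G (2 * n + 3) ≤ Cfsg.puigSeq G (2 * n + 1) :=
  puigStep_antitone (puigSeq_even_le_succ n)

theorem puigSeq_even_le_odd (n m : ℕ) : Cfsg.puigSeq G (2 * n) ≤ Cfsg.puigSeq G (2 * m + 1) := by
  induction h : n + m using Nat.strong_induction_on generalizing n m with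
  | _ k ih =>
    subst h
    rcases n with _ | n
    · exact bot_le
    · exact puigStep_antitone (ih (m + n) (by omega) m n rfl)

theorem puigSeq_even_mono : Monotone fun n => Cfsg.puigSeq G (2 * n) :=
  monotone_nat_of_le_succ puigSeq_even_le_succ

theorem puigSeq_odd_anti : Antitone fun n => Cfsg.puigSeq G (2 * n + 1) :=
  antitone_nat_of_succ_le puigSeq_odd_succ_le

theorem puig_stabilizes [Finite G] : ∃ k : ℕ, ∀ n : ℕ, k ≤ n →
    Cfsg.puigSeq G (2 * n) = Cfsg.puigLower G ∧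
      Cfsg.puigSeq G (2 * n + 1) = Cfsg.puigSubgroup G := by
  obtain ⟨k, hk⟩ := WellFoundedGT.monotone_chain_condition ⟨_, puigSeq_even_mono (G := G)⟩
  refine ⟨k, fun n hn => ?_⟩
  have hlow : Cfsg.puigLower G = Cfsg.puigSeq G (2 * k) :=
    le_antisymm (iSup_le fun m => (le_total m k).elim (fun h => puigSeq_even_mono h)
      (fun h => (hk m h).ge)) (le_iSup (fun m => Cfsg.puigSeq G (2 * m)) k)
  have hodd : ∀ m, k ≤ m → Cfsg.puigSeq G (2 * m + 1) = Cfsg.puigSeq G (2 * k + 1) := fun m hm =>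
    congrArg Cfsg.puigStep (hk m hm).symm
  have hup : Cfsg.puigSubgroup G = Cfsg.puigSeq G (2 * k + 1) :=
    le_antisymm (iInf_le (fun m => Cfsg.puigSeq G (2 * m + 1)) k) (le_iInf fun m =>
      (le_total m k).elim (fun h => puigSeq_odd_anti h) (fun h => (hodd m h).ge))
  exact ⟨(hk n hn).symm.trans hlow.symm, (hodd n hn).trans hup.symm⟩

theorem puigStep_puigLower [Finite G] :
    Cfsg.puigStep (Cfsg.puigLower G) = Cfsg.puigSubgroup G := by
  obtain ⟨k, hk⟩ := puig_stabilizes (G := G)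
  rw [← (hk k le_rfl).1, ← (hk k le_rfl).2]
  rfl

theorem puigStep_puigSubgroup [Finite G] :
    Cfsg.puigStep (Cfsg.puigSubgroup G) = Cfsg.puigLower G := by
  obtain ⟨k, hk⟩ := puig_stabilizes (G := G)
  rw [← (hk (k + 1) (Nat.le_succ k)).1, ← (hk k le_rfl).2]
  rfl

theorem puigLower_le_puigSubgroup : Cfsg.puigLower G ≤ Cfsg.puigSubgroup G :=
  iSup_le fun n => le_iInf fun m => puigSeq_even_le_odd n m

/-- A normal abelian subgroup lies in every positive term of the Puig series. -/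
theorem le_puigSeq_of_normal {A : Subgroup G} [A.Normal] (hA : IsMulCommutative A) {i : ℕ}
    (hi : 0 < i) : A ≤ Cfsg.puigSeq G i := by
  obtain ⟨j, rfl⟩ := Nat.exists_eq_succ_of_ne_zero hi.ne'
  exact le_puigStep_of_normal hA _

theorem le_puigLower_of_normal {A : Subgroup G} [A.Normal] (hA : IsMulCommutative A) :
    A ≤ Cfsg.puigLower G :=
  (le_puigSeq_of_normal hA (by omega : 0 < 2 * 1)).trans
    (le_iSup (fun m => Cfsg.puigSeq G (2 * m)) 1)

end H84
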