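import Mathlib
import Cfsg.Agent.H84.PuigBasic
import Cfsg.Agent.H84.PStable

/-!
The Puig series of a subgroup, seen inside the whole group; Puig's theorem on `Z(L(S))`.
-/

set_option autoImplicit false

namespace H84

variable {G : Type*} [Group G]

theorem puigStep_map_equiv {G' : Type*} [Group G'] (e : G ≃* G') (X : Subgroup G) :
    (Cfsg.puigStep X).map e.toMonoidHom = Cfsg.puigStep (X.map e.toMonoidHom) := by
  refine le_antisymm ?_ ?_
  · rw [Cfsg.puigStep, (Subgroup.gc_map_comap _).l_sSup]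
    refine iSup₂_le fun A hA => le_sSup ⟨@Subgroup.map_isMulCommutative _ _ _ _ A e.toMonoidHom hA.1, ?_⟩
    exact (Subgroup.map_mono hA.2).trans (Subgroup.le_normalizer_map _)
  · refine sSup_le fun A hA => ?_
    have h1 : A.map e.symm.toMonoidHom ≤ Cfsg.puigStep X := by
      refine le_sSup ⟨@Subgroup.map_isMulCommutative _ _ _ _ A e.symm.toMonoidHom hA.1, ?_⟩
      have h2 := (Subgroup.map_mono (f := e.symm.toMonoidHom) hA.2).trans (Subgroup.le_normalizer_map _)
      rwa [Subgroup.map_map, show e.symm.toMonoidHom.comp e.toMonoidHom = MonoidHom.id G by ext; simp,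
        Subgroup.map_id] at h2
    have h3 := Subgroup.map_mono (f := e.toMonoidHom) h1
    rwa [Subgroup.map_map, show e.toMonoidHom.comp e.symm.toMonoidHom = MonoidHom.id G' by ext; simp,
      Subgroup.map_id] at h3

theorem puigSeq_map_equiv {G' : Type*} [Group G'] (e : G ≃* G') (n : ℕ) :
    (Cfsg.puigSeq G n).map e.toMonoidHom = Cfsg.puigSeq G' n := by
  induction n with
  | zero => exact Subgroup.map_bot _
  | succ n ih => rw [puigSeq_succ, puigSeq_succ, puigStep_map_equiv, ih]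

/-- The Puig series of `K`, inside `G`. -/
def pseq (K : Subgroup G) (n : ℕ) : Subgroup G := (Cfsg.puigSeq K n).map K.subtype

theorem pseq_le (K : Subgroup G) (n : ℕ) : pseq K n ≤ K := Subgroup.map_subtype_le _

theorem pseq_zero (K : Subgroup G) : pseq K 0 = ⊥ := Subgroup.map_bot _

theorem pseq_one (K : Subgroup G) : pseq K 1 = K := by
  rw [pseq, puigSeq_one, ← MonoidHom.range_eq_map, Subgroup.range_subtype]

theorem pseq_mono_even (K : Subgroup G) : Monotone fun n => pseq K (2 * n) :=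
  fun _ _ h => Subgroup.map_mono (puigSeq_even_mono h)

theorem le_pseq_succ {K A : Subgroup G} (hAK : A ≤ K) (hA : IsMulCommutative A) {n : ℕ}
    (hn : pseq K n ≤ Subgroup.normalizer (A : Set G)) : A ≤ pseq K (n + 1) := by
  have : A.subgroupOf K ≤ Cfsg.puigSeq K (n + 1) := by
    refine le_sSup ⟨?_, ?_⟩
    · refine ⟨⟨fun a b => Subtype.ext (Subtype.ext ?_)⟩⟩
      simpa using congrArg Subtype.val (hA.is_comm.comm ⟨a.1.1, a.2⟩ ⟨b.1.1, b.2⟩)
    · exact fun x hx => Subgroup.mem_normalizer_iff.mpr fun y =>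
        Subgroup.mem_normalizer_iff.mp (hn ⟨x, hx, rfl⟩) (y : G)
  have h1 := Subgroup.map_mono (f := K.subtype) this
  rwa [Subgroup.subgroupOf_map_subtype, inf_of_le_left hAK] at h1

theorem pseq_succ_le {K B : Subgroup G} {n : ℕ}
    (h : ∀ A : Subgroup G, A ≤ K → IsMulCommutative A → pseq K n ≤ Subgroup.normalizer (A : Set G) → A ≤ B) :
    pseq K (n + 1) ≤ B := by
  rw [pseq, Subgroup.map_le_iff_le_comap]
  refine sSup_le fun A hA => Subgroup.map_le_iff_le_comap.mp (h _ (Subgroup.map_subtype_le _)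
    (@Subgroup.map_isMulCommutative _ _ _ _ A K.subtype hA.1) ?_)
  exact (Subgroup.map_mono hA.2).trans (Subgroup.le_normalizer_map _)

theorem pseq_map {G' : Type*} [Group G'] (f : G →* G') (K : Subgroup G) (hf : Set.InjOn f K) (n : ℕ) :
    (pseq K n).map f = pseq (K.map f) n := by
  let e : K ≃* K.map f := MulEquiv.ofBijective (f.subgroupMap K)
    ⟨fun a b hab => Subtype.ext (hf a.2 b.2 (congrArg Subtype.val hab)), f.subgroupMap_surjective K⟩
  rw [pseq, pseq, ← puigSeq_map_equiv e, Subgroup.map_map, Subgroup.map_map]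
  rfl

theorem normalizer_le_normalizer_pseq [Finite G] (K : Subgroup G) (n : ℕ) :
    Subgroup.normalizer (K : Set G) ≤ Subgroup.normalizer (pseq K n : Set G) := by
  refine le_normalizer_of_conj fun g hg x hx => ?_
  have hK : K.map (MulAut.conj g).toMonoidHom = K := by
    ext y
    rw [Subgroup.mem_map_equiv, MulAut.conj_symm_apply]
    exact (Subgroup.mem_normalizer_iff''.mp hg y).symm
  have h1 := pseq_map (MulAut.conj g).toMonoidHom K (MulAut.conj g).injective.injOn n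
  rw [hK] at h1
  rw [← h1]
  exact ⟨x, hx, rfl⟩

instance pseqNormal [Finite G] (K : Subgroup G) [K.Normal] (n : ℕ) : (pseq K n).Normal :=
  Subgroup.normalizer_eq_top_iff.mp (top_le_iff.mp
    ((Subgroup.normalizer_eq_top_iff.mpr inferInstance).ge.trans (normalizer_le_normalizer_pseq K n)))

theorem centralizer_pseq_le {p : ℕ} [Fact p.Prime] {K : Subgroup G} [Finite K] (hK : IsPGroup p K) {n : ℕ}
    (hn : 0 < n) : K ⊓ Subgroup.centralizer (pseq K n : Set G) ≤ pseq K n := by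
  obtain ⟨A, hAn, hAc, hA⟩ := H30.exists_selfCentralizing' hK
  intro x ⟨hxK, hx⟩
  refine ⟨⟨x, hxK⟩, le_puigSeq_of_normal hAc hn ?_, rfl⟩
  rw [← hA]
  exact fun a ha => Subtype.ext (hx (a : G) ⟨a, le_puigSeq_of_normal hAc hn ha, rfl⟩)

theorem pseq_stabilizes (K : Subgroup G) [Finite K] : ∃ k : ℕ, ∀ n : ℕ, k ≤ n →
    pseq K (2 * n) = (Cfsg.puigLower K).map K.subtype ∧
      pseq K (2 * n + 1) = (Cfsg.puigSubgroup K).map K.subtype := by
  obtain ⟨k, hk⟩ := puig_stabilizes (G := K)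
  exact ⟨k, fun n hn => ⟨by rw [pseq, (hk n hn).1], by rw [pseq, (hk n hn).2]⟩⟩

theorem center_map_map {K : Subgroup G} (L : Subgroup K) :
    ((Subgroup.center L).map L.subtype).map K.subtype =
      L.map K.subtype ⊓ Subgroup.centralizer (L.map K.subtype : Set G) := by
  ext x
  constructor
  · rintro ⟨y, ⟨z, hz, rfl⟩, rfl⟩
    refine ⟨⟨z, z.2, rfl⟩, ?_⟩
    rintro _ ⟨w, hw, rfl⟩
    exact congrArg (fun v : L => ((v : K) : G)) (Subgroup.mem_center_iff.mp hz ⟨w, hw⟩)
  · rintro ⟨⟨y, hy, rfl⟩, h2⟩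
    exact ⟨y, ⟨⟨y, hy⟩, Subgroup.mem_center_iff.mpr fun w =>
      Subtype.ext (Subtype.ext (h2 ((w : K) : G) ⟨w, w.2, rfl⟩)), rfl⟩, rfl⟩

/-- If `H` lies between `L(S)` and `S` the two Puig series have the same limit. -/
theorem puigSubgroup_eq_of_le [Finite G] {H S : Subgroup G}
    (hH : (Cfsg.puigSubgroup S).map S.subtype ≤ H) (hHS : H ≤ S) :
    (Cfsg.puigSubgroup H).map H.subtype = (Cfsg.puigSubgroup S).map S.subtype := by
  set L := (Cfsg.puigSubgroup S).map S.subtype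
  obtain ⟨k, hk⟩ := pseq_stabilizes S
  obtain ⟨l, hl⟩ := pseq_stabilizes H
  have hlow : ∀ n, pseq S (2 * n) ≤ H := fun n =>
    (Subgroup.map_mono ((le_iSup (fun m => Cfsg.puigSeq S (2 * m)) n).trans puigLower_le_puigSubgroup)).trans hH
  have h1 : ∀ n, pseq S (2 * n) ≤ pseq H (2 * n) ∧ pseq H (2 * n + 1) ≤ pseq S (2 * n + 1) := by
    intro n
    induction n with
    | zero => exact ⟨by rw [pseq_zero]; exact bot_le, by rw [pseq_one, pseq_one]; exact hHS⟩
    | succ n ih =>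
      have h := pseq_succ_le (K := S) (n := 2 * n + 1) (B := pseq H (2 * n + 1 + 1)) fun A hAS hA hn =>
        le_pseq_succ ((le_pseq_succ hAS hA hn).trans (hlow (n + 1))) hA (ih.2.trans hn)
      exact ⟨h, pseq_succ_le fun A hAH hA hn => le_pseq_succ (hAH.trans hHS) hA (h.trans hn)⟩
  have h2 : ∀ n, pseq H (2 * n) ≤ pseq S (2 * k) ∧ pseq S (2 * k + 1) ≤ pseq H (2 * n + 1) := by
    intro n
    induction n with
    | zero =>
      exact ⟨by rw [pseq_zero]; exact bot_le, by rw [pseq_one, (hk k le_rfl).2]; exact hH⟩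
    | succ n ih =>
      have h : pseq H (2 * n + 1 + 1) ≤ pseq S (2 * k) := by
        rw [(hk k le_rfl).1, ← (hk (k + 1) (Nat.le_succ k)).1]
        exact pseq_succ_le fun A hAH hA hn => le_pseq_succ (hAH.trans hHS) hA (ih.2.trans hn)
      refine ⟨h, pseq_succ_le fun A hAS hA hn => le_pseq_succ ?_ hA (h.trans hn)⟩
      exact (le_pseq_succ hAS hA hn).trans (by rw [(hk k le_rfl).2]; exact hH)
  refine le_antisymm ?_ ?_
  · rw [← (hl (max k l) (le_max_right _ _)).2]
    exact (h1 _).2.trans (hk _ (le_max_left _ _)).2.le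
  · rw [← (hl l le_rfl).2]
    exact (hk k le_rfl).2.ge.trans (h2 l).2

theorem normalizer_le_normalizer_centralizer [Finite G] (L : Subgroup G) :
    Subgroup.normalizer (L : Set G) ≤ Subgroup.normalizer (Subgroup.centralizer (L : Set G) : Set G) := by
  refine le_normalizer_of_conj fun g hg c hc l hl => ?_
  have h := hc _ ((Subgroup.mem_normalizer_iff''.mp hg l).mp hl)
  calc l * (g * c * g⁻¹) = g * ((g⁻¹ * l * g) * c) * g⁻¹ := by group
    _ = g * (c * (g⁻¹ * l * g)) * g⁻¹ := by rw [h]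
    _ = g * c * g⁻¹ * l := by group

variable [Finite G] {p : ℕ} [Fact p.Prime]

/-- `L_*(S) ≤ L_*(O_p(G))` and `L(O_p(G)) ≤ L(S)` at every stage of the series. -/
theorem pseq_sylow_pCore [Group.IsSolvable G] (hodd : Odd (Nat.card G)) (hp : p ≠ 2)
    (hO : Cfsg.pPrimeCore p G = ⊥) (S : Sylow p G) (n : ℕ) :
    pseq (S : Subgroup G) (2 * n) ≤ pseq (Cfsg.pCore p G) (2 * n) ∧
      pseq (Cfsg.pCore p G) (2 * n + 1) ≤ pseq (S : Subgroup G) (2 * n + 1) := by
  have : (Cfsg.pCore p G).Normal := H1.pCore_normal' p G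
  have hT := H1.isPGroup_pCore p G
  have hTS : Cfsg.pCore p G ≤ (S : Subgroup G) := H1.pCore_le_sylow S
  induction n with
  | zero => exact ⟨by rw [pseq_zero]; exact bot_le, by rw [pseq_one, pseq_one]; exact hTS⟩
  | succ n ih =>
    set P := pseq (Cfsg.pCore p G) (2 * n + 1)
    have h : pseq (S : Subgroup G) (2 * n + 1 + 1) ≤ pseq (Cfsg.pCore p G) (2 * n + 1 + 1) := by
      refine pseq_succ_le fun A hAS hA hn => le_pseq_succ ?_ hA (ih.2.trans hn)
      have hquad : ⁅⁅P, A⁆, A⁆ = ⊥ := by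
        have h1 : ⁅P, A⁆ ≤ A := Subgroup.commutator_le.mpr fun q hq b hb =>
          mul_mem ((Subgroup.mem_normalizer_iff.mp ((ih.2.trans hn) hq) b).mp hb) (inv_mem hb)
        rw [eq_bot_iff]
        refine (Subgroup.commutator_mono h1 le_rfl).trans ?_
        exact (Subgroup.commutator_eq_bot_iff_le_centralizer.mpr (Subgroup.le_centralizer A)).le
      exact le_pCore_of_quad_of_centralizer hodd hp hO (hT.to_le (pseq_le _ _))
        (centralizer_pseq_le hT (Nat.succ_pos _)) hquad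
    exact ⟨h, pseq_succ_le fun A hAT hA hn => le_pseq_succ (hAT.trans hTS) hA (h.trans hn)⟩

/-- Puig's theorem: with trivial `p'`-core the centre of `L(S)` is normal. -/
theorem puig_center_normal [Group.IsSolvable G] (hodd : Odd (Nat.card G)) (hp : p ≠ 2)
    (hO : Cfsg.pPrimeCore p G = ⊥) (S : Sylow p G) :
    ((Cfsg.puigSubgroup (S : Subgroup G)).map (S : Subgroup G).subtype ⊓ Subgroup.centralizer
      ((Cfsg.puigSubgroup (S : Subgroup G)).map (S : Subgroup G).subtype : Set G)).Normal := by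
  set S' : Subgroup G := (S : Subgroup G)
  set T := Cfsg.pCore p G
  have : T.Normal := H1.pCore_normal' p G
  have hT : IsPGroup p T := H1.isPGroup_pCore p G
  have hS : IsPGroup p S' := S.isPGroup'
  obtain ⟨k₁, hk₁⟩ := pseq_stabilizes S'
  obtain ⟨k₂, hk₂⟩ := pseq_stabilizes T
  set m := max (max k₁ k₂) 1
  have hm1 : k₁ ≤ m := (le_max_left _ _).trans (le_max_left _ _)
  have hm2 : k₂ ≤ m := (le_max_right k₁ k₂).trans (le_max_left _ _)
  have hLS := (hk₁ m hm1).2
  rw [← hLS]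
  set L := pseq S' (2 * m + 1)
  set M := pseq S' (2 * m)
  set LT := pseq T (2 * m + 1)
  set MT := pseq T (2 * m)
  obtain ⟨hMM, hLL⟩ : M ≤ MT ∧ LT ≤ L := pseq_sylow_pCore hodd hp hO S m
  have hMTLT : MT ≤ LT := Subgroup.map_mono (puigSeq_even_le_odd m m)
  have hCS : S' ⊓ Subgroup.centralizer (M : Set G) ≤ M := centralizer_pseq_le hS (by omega)
  set Z := L ⊓ Subgroup.centralizer (L : Set G)
  set Z2 := LT ⊓ Subgroup.centralizer (LT : Set G)
  have : LT.Normal := pseqNormal T _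
  have : Z2.Normal := inferInstance
  have hML : M ≤ L := hMM.trans (hMTLT.trans hLL)
  have hZ1 : Z ≤ M := fun z hz => hCS ⟨pseq_le _ _ hz.1, Subgroup.centralizer_le hML hz.2⟩
  have hZZ2 : Z ≤ Z2 := fun z hz => ⟨hMTLT (hMM (hZ1 hz)), Subgroup.centralizer_le hLL hz.2⟩
  have hMTc : M ≤ LT := hMM.trans hMTLT
  have hTS : T ≤ S' := H1.pCore_le_sylow S
  have hZ2M : Z2 ≤ M := fun z hz =>
    hCS ⟨hTS (pseq_le _ _ hz.1), Subgroup.centralizer_le hMTc hz.2⟩
  set C := Subgroup.centralizer (Z2 : Set G)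
  set J := (Cfsg.pCore p (G ⧸ C)).comap (QuotientGroup.mk' C)
  have : (Cfsg.pCore p (G ⧸ C)).Normal := H1.pCore_normal' p _
  have hJn : J.Normal := inferInstance
  have hLJ : L ≤ J := by
    refine pseq_succ_le fun A hAS hA hn => Subgroup.map_le_iff_le_comap.mp ?_
    refine quad_map_le_pCore_of_normal hodd hp (hT.to_le (inf_le_left.trans (pseq_le _ _))) ?_
    have h1 : ⁅Z2, A⁆ ≤ A := Subgroup.commutator_le.mpr fun q hq b hb =>
      mul_mem ((Subgroup.mem_normalizer_iff.mp (hn (hZ2M hq)) b).mp hb) (inv_mem hb)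
    rw [eq_bot_iff]
    refine (Subgroup.commutator_mono h1 le_rfl).trans ?_
    exact (Subgroup.commutator_eq_bot_iff_le_centralizer.mpr (Subgroup.le_centralizer A)).le
  set R := S' ⊓ J
  have hfr : Subgroup.normalizer (R : Set G) ⊔ J = ⊤ := H11.normalizer_inf_sup_eq_top S J
  have hR : (Cfsg.puigSubgroup R).map R.subtype = L := by
    rw [puigSubgroup_eq_of_le (hLS ▸ le_inf (pseq_le _ _) hLJ) inf_le_left, ← hLS]
  obtain ⟨k₃, hk₃⟩ := pseq_stabilizes R
  have hnorm : ∀ K : Subgroup G, K ≤ Subgroup.normalizer (L : Set G) → K ≤ Subgroup.normalizer (Z : Set G) := by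
    intro K hK
    exact (le_inf hK (hK.trans (normalizer_le_normalizer_centralizer L))).trans
      Subgroup.inf_normalizer_le_normalizer_inf
  have hN1 : Subgroup.normalizer (R : Set G) ≤ Subgroup.normalizer (Z : Set G) := by
    refine hnorm _ ?_
    rw [← hR, ← (hk₃ k₃ le_rfl).2]
    exact normalizer_le_normalizer_pseq R _
  have hS1 : S' ≤ Subgroup.normalizer (Z : Set G) :=
    hnorm _ (Subgroup.le_normalizer.trans (normalizer_le_normalizer_pseq S' _))
  have hC1 : C ≤ Subgroup.normalizer (Z : Set G) :=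
    le_normalizer_of_conj fun c hc z hz => by
      rwa [← (hc z (hZZ2 hz)), mul_inv_cancel_right]
  have hJ1 : J ≤ R ⊔ C := comap_pCore_le_inf_sup S C
  refine Subgroup.normalizer_eq_top_iff.mp (top_le_iff.mp (hfr ▸ sup_le hN1 ?_))
  exact hJ1.trans (sup_le (inf_le_left.trans hS1) hC1)

/-- A normal subgroup `f⁻¹(f(Z))` gives a Frattini factorisation `G = ker f ⊔ N(Z)` when `Z` is a
`p`-group and the kernel has order prime to `p`. -/
theorem sup_normalizer_eq_top (N Z : Subgroup G) [N.Normal] (hN : ¬ p ∣ Nat.card N) (hZ : IsPGroup p Z)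
    (h : (Z.map (QuotientGroup.mk' N)).Normal) : N ⊔ Subgroup.normalizer (Z : Set G) = ⊤ := by
  have hn : (Z ⊔ N).Normal := by
    have := h.comap (QuotientGroup.mk' N)
    rwa [Subgroup.comap_map_eq, QuotientGroup.ker_mk'] at this
  have hidx : ¬ p ∣ (Z.subgroupOf (Z ⊔ N)).index := by
    intro hd
    apply hN
    have h1 : Nat.card (Z.subgroupOf (Z ⊔ N)) * (Z.subgroupOf (Z ⊔ N)).index = Nat.card ↥(Z ⊔ N) :=
      Subgroup.card_mul_index _
    rw [Nat.card_congr (Subgroup.subgroupOfEquivOfLe (le_sup_left : Z ≤ Z ⊔ N)).toEquiv] at h1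
    have h2 : Nat.card ↥(Z ⊔ N) ∣ Nat.card Z * Nat.card N := H1.card_sup_dvd_mul Z N
    rw [← h1] at h2
    exact hd.trans (Nat.dvd_of_mul_dvd_mul_left Nat.card_pos h2)
  have h1 := Sylow.normalizer_sup_eq_top
    ((IsPGroup.comap_subtype hZ : IsPGroup p ↥(Z.subgroupOf (Z ⊔ N))).toSylow hidx)
  change Subgroup.normalizer (((Z.subgroupOf (Z ⊔ N)).map (Z ⊔ N).subtype : Subgroup G) : Set G) ⊔ (Z ⊔ N) = ⊤ at h1
  rw [Subgroup.subgroupOf_map_subtype, inf_of_le_left le_sup_left] at h1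
  rw [eq_top_iff, ← h1]
  exact sup_le le_sup_right (sup_le (Subgroup.le_normalizer.trans le_sup_right) le_sup_left)

theorem map_inf_centralizer {G' : Type*} [Group G'] (f : G →* G') {K L : Subgroup G} (hLK : L ≤ K)
    (hf : Set.InjOn f K) :
    (L ⊓ Subgroup.centralizer (L : Set G)).map f = L.map f ⊓ Subgroup.centralizer (L.map f : Set G') := by
  ext z
  constructor
  · rintro ⟨x, ⟨hx, hxc⟩, rfl⟩
    refine ⟨⟨x, hx, rfl⟩, ?_⟩
    rintro _ ⟨l, hl, rfl⟩
    rw [← map_mul, ← map_mul, hxc l hl]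
  · rintro ⟨⟨x, hx, rfl⟩, hxc⟩
    refine ⟨x, ⟨hx, fun l hl => hf (mul_mem (hLK hl) (hLK hx)) (mul_mem (hLK hx) (hLK hl)) ?_⟩, rfl⟩
    rw [map_mul, map_mul, hxc (f l) ⟨l, hl, rfl⟩]

theorem injOn_mk'_of_isPGroup {N K : Subgroup G} [N.Normal] (hN : ¬ p ∣ Nat.card N) (hK : IsPGroup p K) :
    Set.InjOn (QuotientGroup.mk' N) K := by
  intro a ha b hb hab
  have h : a⁻¹ * b ∈ N := QuotientGroup.eq.mp hab
  obtain ⟨k, hk⟩ := hK ⟨a⁻¹ * b, mul_mem (inv_mem ha) hb⟩
  exact inv_mul_eq_one.mp (eq_one_of_pow_coprime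
    (Nat.Coprime.pow_left k ((Fact.out : p.Prime).coprime_iff_not_dvd.mpr hN))
    (congrArg Subtype.val hk) (pow_card_eq_one_of_mem h))

/-- Puig's factorisation `G = O_{p'}(G) N(Z(L(S)))`. -/
theorem puig_center_factorization [Group.IsSolvable G] (hodd : Odd (Nat.card G)) (hp : p ≠ 2)
    (S : Sylow p G) :
    Cfsg.pPrimeCore p G ⊔ Subgroup.normalizer
      (((Cfsg.puigSubgroup (S : Subgroup G)).map (S : Subgroup G).subtype ⊓ Subgroup.centralizer
        ((Cfsg.puigSubgroup (S : Subgroup G)).map (S : Subgroup G).subtype : Set G) : Subgroup G) : Set G) =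
      ⊤ := by
  have : (Cfsg.pPrimeCore p G).Normal := H1.pPrimeCore_normal' p G
  set N := Cfsg.pPrimeCore p G
  set f := QuotientGroup.mk' N
  have hN : ¬ p ∣ Nat.card N :=
    (Fact.out : p.Prime).coprime_iff_not_dvd.mp (H1.card_pPrimeCore_coprime p G).symm
  have hinj : Set.InjOn f (S : Subgroup G) := injOn_mk'_of_isPGroup hN S.isPGroup'
  have hLS : (Cfsg.puigSubgroup (S : Subgroup G)).map (S : Subgroup G).subtype ≤ S :=
    Subgroup.map_subtype_le _
  refine sup_normalizer_eq_top N _ hN (S.isPGroup'.to_le (inf_le_left.trans hLS)) ?_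
  have hf : Function.Surjective f := QuotientGroup.mk'_surjective N
  have h := puig_center_normal (hodd.of_dvd_nat (Subgroup.card_quotient_dvd_card N)) hp
    H10.pPrimeCore_quotient_pPrimeCore (S.mapSurjective hf)
  obtain ⟨k₁, hk₁⟩ := pseq_stabilizes (S : Subgroup G)
  obtain ⟨k₂, hk₂⟩ := pseq_stabilizes ((S : Subgroup G).map f)
  rw [map_inf_centralizer f hLS hinj, ← (hk₁ _ (le_max_left k₁ k₂)).2, pseq_map f _ hinj,
    (hk₂ _ (le_max_right k₁ k₂)).2]
  exact h

end H84
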