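import Cfsg.Prelude.Def_LieExceptional
import Cfsg.Agent.H84.Invariant
import Cfsg.Agent.H81.Fitting
import Cfsg.Agent.H1.CoprimeAction
import Cfsg.Agent.H1.Hall
import Cfsg.Agent.H84.Puig

/-!
Groups in which the centraliser of every non-identity element is nilpotent: basic properties.
-/

set_option autoImplicit false

namespace H84

open Subgroup

universe u

section Basics

variable {G : Type*} [Group G] [Finite G]

/-- Elements of coprime orders of a nilpotent subgroup commute. -/
theorem nilp_commute {H : Subgroup G} (hH : Group.IsNilpotent H) {a b : G} (ha : a ∈ H) (hb : b ∈ H)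
    (h : (orderOf a).Coprime (orderOf b)) : a * b = b * a := by
  have h' : (orderOf (⟨a, ha⟩ : H)).Coprime (orderOf (⟨b, hb⟩ : H)) := by
    rwa [Subgroup.orderOf_mk, Subgroup.orderOf_mk]
  exact congrArg Subtype.val (H81.commute_of_coprime_orderOf hH h').eq

theorem cn_commute (hCN : Cfsg.IsCNGroup G) {x a b : G} (hx : x ≠ 1) (ha : a * x = x * a) (hb : b * x = x * b)
    (h : (orderOf a).Coprime (orderOf b)) : a * b = b * a :=
  nilp_commute (hCN x hx) (mem_centralizer_singleton_iff.mpr ha) (mem_centralizer_singleton_iff.mpr hb) h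

theorem coprime_orderOf_of_ne {p q : ℕ} [Fact p.Prime] [Fact q.Prime] (hpq : p ≠ q) {a b : G} {j k : ℕ}
    (ha : orderOf a = p ^ j) (hb : orderOf b = q ^ k) : (orderOf a).Coprime (orderOf b) := by
  rw [ha, hb]
  exact Nat.Coprime.pow j k ((Nat.coprime_primes Fact.out Fact.out).mpr hpq)

theorem orderOf_eq_pow_of_mem {p : ℕ} [Fact p.Prime] {P : Subgroup G} (hP : IsPGroup p P) {x : G}
    (hx : x ∈ P) : ∃ k, orderOf x = p ^ k := by
  obtain ⟨k, hk⟩ := IsPGroup.iff_orderOf.mp hP ⟨x, hx⟩
  exact ⟨k, by rwa [← Subgroup.orderOf_coe] at hk⟩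

theorem coprime_orderOf_of_mem {p : ℕ} [Fact p.Prime] {P : Subgroup G} (hP : IsPGroup p P) {x e : G}
    (hx : x ∈ P) (he : ¬ p ∣ orderOf e) : (orderOf e).Coprime (orderOf x) := by
  obtain ⟨k, hk⟩ := orderOf_eq_pow_of_mem hP hx
  rw [hk]
  exact (Nat.Coprime.pow_left k ((Fact.out : p.Prime).coprime_iff_not_dvd.mpr he)).symm

/-- A subgroup containing all elements of prime power order of `H` contains `H`. -/
theorem le_of_forall_primePow {H K : Subgroup G}
    (h : ∀ p : ℕ, p.Prime → ∀ x ∈ H, ∀ k : ℕ, orderOf x = p ^ k → x ∈ K) : H ≤ K := by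
  suffices hd : Nat.card H ∣ Nat.card (H ⊓ K : Subgroup G) by
    have := Subgroup.eq_of_le_of_card_ge (inf_le_left : H ⊓ K ≤ H) (Nat.le_of_dvd Nat.card_pos hd)
    exact this ▸ inf_le_right
  rw [Nat.dvd_iff_prime_pow_dvd_dvd]
  intro p k hp hk
  have := Fact.mk hp
  obtain ⟨P, hP⟩ := Sylow.exists_subgroup_card_pow_prime p hk
  have hle : P.map H.subtype ≤ H ⊓ K := by
    rintro _ ⟨x, hx, rfl⟩
    obtain ⟨j, hj⟩ := orderOf_eq_pow_of_mem (IsPGroup.of_card hP) hx
    exact ⟨x.2, h p hp _ x.2 j (by rw [H.coe_subtype, Subgroup.orderOf_coe]; exact hj)⟩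
  have := Subgroup.card_dvd_of_le hle
  rwa [Nat.card_congr (P.equivMapOfInjective _ H.subtype_injective).symm.toEquiv, hP] at this

/-- A subgroup containing, for every prime, a Sylow subgroup of `H` contains `H`. -/
theorem le_of_sylow {H K : Subgroup G} (h : ∀ p : ℕ, ∀ _ : Fact p.Prime, ∃ S : Sylow p H,
    (S : Subgroup H).map H.subtype ≤ K) : H ≤ K := by
  suffices hd : Nat.card H ∣ Nat.card (H ⊓ K : Subgroup G) by
    have := Subgroup.eq_of_le_of_card_ge (inf_le_left : H ⊓ K ≤ H) (Nat.le_of_dvd Nat.card_pos hd)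
    exact this ▸ inf_le_right
  rw [Nat.dvd_iff_prime_pow_dvd_dvd]
  intro p k hp hk
  obtain ⟨S, hS⟩ := h p ⟨hp⟩
  have := Fact.mk hp
  have h1 := Subgroup.card_dvd_of_le (le_inf (map_subtype_le (S : Subgroup H)) hS)
  rw [Nat.card_congr ((S : Subgroup H).equivMapOfInjective _ H.subtype_injective).symm.toEquiv] at h1
  refine dvd_trans ?_ h1
  rw [Sylow.card_eq_multiplicity]
  exact pow_dvd_pow p ((Nat.Prime.pow_dvd_iff_le_factorization hp Nat.card_pos.ne').mp hk)

/-- A nontrivial normal subgroup of a `p`-group meets the centre. -/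
theorem exists_central_mem {p : ℕ} [Fact p.Prime] {P N : Subgroup G} (hP : IsPGroup p P) (hNP : N ≤ P)
    (hn : P ≤ normalizer (N : Set G)) (hN : N ≠ ⊥) : ∃ w ∈ N, w ≠ 1 ∧ ∀ x ∈ P, x * w = w * x := by
  classical
  obtain ⟨k, hk⟩ := IsPGroup.iff_card.mp (hP.to_le hNP)
  have hk0 : k ≠ 0 := by
    rintro rfl
    exact hN (Subgroup.card_eq_one.mp (by simpa using hk))
  obtain ⟨w, ⟨hw, hw1⟩, hfix⟩ := exists_conj_fixed hP ((N : Set G) \ {1}) (fun e he x hx =>
    ⟨(mem_normalizer_iff.mp (hn he) x).mp hx.1, fun h => hx.2 (conj_eq_one_iff.mp h)⟩) (by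
    rw [Nat.card_coe_set_eq, Set.ncard_diff (Set.singleton_subset_iff.mpr N.one_mem),
      Set.ncard_singleton, ← Nat.card_coe_set_eq]
    change ¬ p ∣ Nat.card N - 1
    rw [hk]
    intro hd
    have h1 : p ∣ p ^ k := dvd_pow_self p hk0
    have h2 : p ^ k - (p ^ k - 1) = 1 := by
      have := Nat.one_le_pow k p (Fact.out : p.Prime).pos
      omega
    exact (Fact.out : p.Prime).not_dvd_one (h2 ▸ Nat.dvd_sub h1 hd))
  exact ⟨w, hw, hw1, fun x hx => mul_inv_eq_iff_eq_mul.mp (hfix x hx)⟩

theorem exists_central {p : ℕ} [Fact p.Prime] {P : Subgroup G} (hP : IsPGroup p P) (h : P ≠ ⊥) :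
    ∃ w ∈ P, w ≠ 1 ∧ ∀ x ∈ P, x * w = w * x :=
  exists_central_mem hP le_rfl Subgroup.le_normalizer h

/-- A `p'`-element centralising a nontrivial element of a `p`-subgroup centralises the whole subgroup. -/
theorem cn_centralizes_pGroup (hCN : Cfsg.IsCNGroup G) {p : ℕ} [Fact p.Prime] {P : Subgroup G}
    (hP : IsPGroup p P) {z e : G} (hz : z ∈ P) (hz1 : z ≠ 1) (hez : e * z = z * e)
    (he : ¬ p ∣ orderOf e) : ∀ x ∈ P, e * x = x * e := by
  obtain ⟨w, hw, hw1, hwc⟩ := exists_central hP (fun h => hz1 (by rwa [h, mem_bot] at hz))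
  have hew : e * w = w * e := cn_commute hCN hz1 hez (hwc z hz).symm (coprime_orderOf_of_mem hP hw he)
  exact fun x hx => cn_commute hCN hw1 hew (hwc x hx) (coprime_orderOf_of_mem hP hx he)

theorem exists_prime_pow_mem {H : Subgroup G} {z : G} (hz : z ∈ H) (hz1 : z ≠ 1) :
    ∃ p : ℕ, p.Prime ∧ ∃ j : ℕ, orderOf (z ^ j) = p ∧ z ^ j ∈ H ∧ p ∣ Nat.card H := by
  obtain ⟨p, hp, hpd⟩ := Nat.exists_prime_and_dvd (mt orderOf_eq_one_iff.mp hz1)
  exact ⟨p, hp, orderOf z / p, orderOf_pow_orderOf_div (orderOf_pos z).ne' hpd, pow_mem hz _,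
    hpd.trans (by simpa [Subgroup.orderOf_mk] using orderOf_dvd_natCard (⟨z, hz⟩ : H))⟩

/-- An element of order coprime to a nilpotent subgroup that centralises one of its non-identity
elements centralises all of it. -/
theorem cn_centralizes_nilpotent (hCN : Cfsg.IsCNGroup G) {H : Subgroup G} (hH : Group.IsNilpotent H)
    {z e : G} (hz : z ∈ H) (hz1 : z ≠ 1) (hez : e * z = z * e)
    (he : (orderOf e).Coprime (Nat.card H)) : H ≤ centralizer ({e} : Set G) := by
  have hno : ∀ p : ℕ, p.Prime → p ∣ Nat.card H → ¬ p ∣ orderOf e := fun p hp hpH hpe =>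
    hp.not_dvd_one (he ▸ Nat.dvd_gcd hpe hpH)
  obtain ⟨p, hp, j, hj, hzH, hpH⟩ := exists_prime_pow_mem hz hz1
  have := Fact.mk hp
  have hz'1 : z ^ j ≠ 1 := fun h => by rw [h, orderOf_one] at hj; exact hp.ne_one hj.symm
  have hez' : e * z ^ j = z ^ j * e := (Commute.pow_right hez j).eq
  refine le_of_forall_primePow fun r hr x hx k hk => mem_centralizer_singleton_iff.mpr ?_
  rcases eq_or_ne r p with rfl | hrp
  · -- `x` and `z ^ j` lie in the Sylow subgroup
    obtain ⟨S, hS⟩ : ∃ S : Sylow r H, True := ⟨default, trivial⟩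
    have hn : (S : Subgroup H).Normal := by
      have h := (Group.isNilpotent_of_finite_tfae (G := H)).out 0 3
      exact h.mp hH r inferInstance S
    have hmem : ∀ y : H, ∀ m : ℕ, orderOf y = r ^ m → y ∈ (S : Subgroup H) := fun y m hm => by
      obtain ⟨Q, hQ⟩ := (IsPGroup.of_card (by rw [Nat.card_zpowers, hm]) :
        IsPGroup r (zpowers y)).exists_le_sylow
      have := Sylow.unique_of_normal S hn
      exact Subsingleton.elim Q S ▸ hQ (mem_zpowers y)
    have hP : IsPGroup r ((S : Subgroup H).map H.subtype) := S.isPGroup'.map _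
    exact (cn_centralizes_pGroup hCN hP
      ⟨⟨z ^ j, hzH⟩, hmem _ 1 (by rw [Subgroup.orderOf_mk, hj, pow_one]), rfl⟩ hz'1 hez'
      (hno r hr hpH) x ⟨⟨x, hx⟩, hmem _ k (by rw [Subgroup.orderOf_mk, hk]), rfl⟩).symm
  · have := Fact.mk hr
    have hxz : x * z ^ j = z ^ j * x :=
      nilp_commute hH hx hzH (coprime_orderOf_of_ne hrp hk (j := k) (k := 1) (by rw [hj, pow_one]))
    rcases eq_or_ne x 1 with rfl | hx1
    · simp
    have hrH : r ∣ Nat.card H := by
      have : orderOf x ∣ Nat.card H := by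
        simpa [Subgroup.orderOf_mk] using orderOf_dvd_natCard (⟨x, hx⟩ : H)
      rw [hk] at this
      rcases k with _ | k
      · exact absurd (orderOf_eq_one_iff.mp (by simpa using hk)) hx1
      · exact (dvd_pow_self r (Nat.succ_ne_zero k)).trans this
    exact (cn_commute hCN hz'1 hez' hxz (by
      rw [hk]; exact (Nat.Coprime.pow_left k ((hr.coprime_iff_not_dvd).mpr (hno r hr hrH))).symm)).symm

theorem isCN_subgroup (hCN : Cfsg.IsCNGroup G) (L : Subgroup G) : Cfsg.IsCNGroup L := by
  intro x hx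
  have hx' : (x : G) ≠ 1 := fun h => hx (Subtype.ext h)
  have := hCN (x : G) hx'
  refine H1.isNilpotent_comap_subtype this L |> fun h => H1.isNilpotent_mono h ?_
  intro y hy
  rw [Subgroup.mem_subgroupOf, mem_centralizer_singleton_iff]
  exact congrArg Subtype.val (mem_centralizer_singleton_iff.mp hy)

omit [Finite G] in
theorem isCN_of_equiv {G' : Type*} [Group G'] (e : G ≃* G') (hCN : Cfsg.IsCNGroup G) :
    Cfsg.IsCNGroup G' := by
  intro x hx
  have h := hCN (e.symm x) (by simpa using hx)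
  have heq : centralizer ({x} : Set G') = (centralizer ({e.symm x} : Set G)).map e.toMonoidHom := by
    ext y
    rw [Subgroup.mem_map_equiv, mem_centralizer_singleton_iff, mem_centralizer_singleton_iff,
      ← map_mul, ← map_mul, e.symm.injective.eq_iff]
  rw [heq]
  exact H1.isNilpotent_map h _

/-- The quotient of a CN-group by a normal `p`-subgroup is a CN-group. -/
theorem isCN_quotient_pGroup (hCN : Cfsg.IsCNGroup G) {p : ℕ} [Fact p.Prime] {N : Subgroup G} [N.Normal]
    (hN : IsPGroup p N) (hN0 : N ≠ ⊥) : Cfsg.IsCNGroup (G ⧸ N) := by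
  suffices key : ∀ x : G, x ∉ N → (¬ p ∣ orderOf x ∨ x ^ p ∈ N) →
      Group.IsNilpotent (centralizer ({(x : G ⧸ N)} : Set (G ⧸ N))) by
    intro y hy
    obtain ⟨q, hq, hqy⟩ := Nat.exists_prime_and_dvd (mt orderOf_eq_one_iff.mp hy)
    have := Fact.mk hq
    set y' := y ^ (orderOf y / q)
    have hy' : orderOf y' = q := orderOf_pow_orderOf_div (orderOf_pos y).ne' hqy
    suffices h : Group.IsNilpotent (centralizer ({y'} : Set (G ⧸ N))) from
      H1.isNilpotent_mono h fun c hc => mem_centralizer_singleton_iff.mpr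
        (Commute.pow_right (mem_centralizer_singleton_iff.mp hc) _).eq
    obtain ⟨g, hg⟩ := QuotientGroup.mk_surjective y'
    have hgN : g ∉ N := fun h => hq.ne_one (by
      rw [← hy', ← hg, (QuotientGroup.eq_one_iff g).mpr h, orderOf_one])
    rcases eq_or_ne q p with rfl | hqp
    · rw [← hg]
      refine key g hgN (Or.inr ?_)
      rw [← QuotientGroup.eq_one_iff, QuotientGroup.mk_pow, hg, ← hy', pow_orderOf_eq_one]
    · obtain ⟨a, m, hm, hgo⟩ := Nat.exists_eq_pow_mul_and_not_dvd (orderOf_pos g).ne' p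
        (Fact.out : p.Prime).ne_one
      -- a generator of `⟨y'⟩` with a `p'`-lift
      have hcop : (orderOf y').Coprime (p ^ a) := by
        rw [hy']; exact Nat.Coprime.pow_right a ((Nat.coprime_primes hq Fact.out).mpr hqp)
      have hord : orderOf (g ^ p ^ a) = m := by
        rw [orderOf_pow, hgo, Nat.gcd_eq_right (Dvd.intro _ rfl),
          Nat.mul_div_cancel_left _ (pow_pos (Fact.out : p.Prime).pos a)]
      have hx : g ^ p ^ a ∉ N := fun h => by
        have h1 : y' ^ p ^ a = 1 := by rw [← hg, ← QuotientGroup.mk_pow, QuotientGroup.eq_one_iff]; exact h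
        exact hq.not_dvd_one (hy' ▸ (Nat.eq_one_of_dvd_coprimes hcop dvd_rfl (orderOf_dvd_of_pow_eq_one h1)).dvd)
      refine H1.isNilpotent_mono (key (g ^ p ^ a) hx (Or.inl (hord.symm ▸ hm))) fun c hc => ?_
      rw [mem_centralizer_singleton_iff, QuotientGroup.mk_pow, hg]
      exact (Commute.pow_right (mem_centralizer_singleton_iff.mp hc) _).eq
  intro x hx hcase
  have hfix : ∀ g : G, (g : G ⧸ N) ∈ centralizer ({(x : G ⧸ N)} : Set (G ⧸ N)) →
      ∀ a ∈ zpowers x, g⁻¹ * (a * g * a⁻¹) ∈ N := by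
    intro g hg a ha
    obtain ⟨k, rfl⟩ := mem_zpowers_iff.mp ha
    rw [← QuotientGroup.eq_one_iff, QuotientGroup.mk_mul, QuotientGroup.mk_mul, QuotientGroup.mk_mul,
      QuotientGroup.mk_inv, QuotientGroup.mk_inv, QuotientGroup.mk_zpow,
      ← (Commute.zpow_right (mem_centralizer_singleton_iff.mp hg) k).eq]
    group
  rcases hcase with hxp | hxp
  · have hle : centralizer ({(x : G ⧸ N)} : Set (G ⧸ N)) ≤
        (centralizer ({x} : Set G)).map (QuotientGroup.mk' N) := by
      intro c hc
      obtain ⟨g, rfl⟩ := QuotientGroup.mk_surjective c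
      have hcop : (Nat.card N).Coprime (Nat.card (zpowers x)) := by
        obtain ⟨k, hk⟩ := IsPGroup.iff_card.mp hN
        rw [hk, Nat.card_zpowers]
        exact Nat.Coprime.pow_left k ((Fact.out : p.Prime).coprime_iff_not_dvd.mpr hxp)
      obtain ⟨c, hc, hgc⟩ := H1.exists_fixed_mem_coset (A := zpowers x) (N := N)
        (by rw [normalizer_eq_top]; exact le_top) hcop (Or.inr inferInstance) (hfix g hc)
      refine ⟨c, mem_centralizer_singleton_iff.mpr (hc x (mem_zpowers x)).symm, ?_⟩
      exact (QuotientGroup.eq.mpr hgc).symm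
    exact H1.isNilpotent_mono (H1.isNilpotent_map (hCN x (fun h => hx (h ▸ N.one_mem))) _) hle
  · set L := (centralizer ({(x : G ⧸ N)} : Set (G ⧸ N))).comap (QuotientGroup.mk' N)
    set X := N ⊔ zpowers x
    have hXp : IsPGroup p X := by
      have : IsPGroup p (X.map (QuotientGroup.mk' N)) := by
        rw [Subgroup.map_sup, MonoidHom.map_zpowers, (Subgroup.map_eq_bot_iff _).mpr (QuotientGroup.ker_mk' N).ge,
          bot_sup_eq]
        have hd : orderOf (QuotientGroup.mk' N x) ∣ p ^ 1 := orderOf_dvd_of_pow_eq_one (by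
          rw [← map_pow, QuotientGroup.mk'_apply, QuotientGroup.eq_one_iff, pow_one]; exact hxp)
        obtain ⟨k, -, hk⟩ := (Nat.dvd_prime_pow (Fact.out : p.Prime)).mp hd
        exact IsPGroup.of_card (n := k) (by rw [Nat.card_zpowers, hk])
      have h := this.comap_of_ker_isPGroup (QuotientGroup.mk' N) (by rwa [QuotientGroup.ker_mk'])
      exact h.to_le (le_comap_map _ _)
    have hNL : N ≤ L := fun n hn => by
      rw [mem_comap, QuotientGroup.mk'_apply, (QuotientGroup.eq_one_iff n).mpr hn]; exact one_mem _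
    have hxL : x ∈ L := mem_centralizer_singleton_iff.mpr rfl
    have hLX : L ≤ normalizer (X : Set G) := by
      refine le_normalizer_of_conj fun g hg b hb => ?_
      suffices hle : X.map (MulAut.conj g).toMonoidHom ≤ X from hle ⟨b, hb, rfl⟩
      rw [Subgroup.map_sup, sup_le_iff, MonoidHom.map_zpowers, zpowers_le]
      refine ⟨?_, ?_⟩
      · rintro _ ⟨n, hn, rfl⟩
        exact Subgroup.mem_sup_left ((inferInstance : N.Normal).conj_mem n hn g)
      have h := hfix g hg x (mem_zpowers x)
      have e : g * x * g⁻¹ = (g * (g⁻¹ * (x * g * x⁻¹))⁻¹ * g⁻¹) * x := by group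
      change g * x * g⁻¹ ∈ X
      rw [e]
      exact mul_mem (Subgroup.mem_sup_left ((inferInstance : N.Normal).conj_mem _ (inv_mem h) g))
        (Subgroup.mem_sup_right (mem_zpowers x))
    -- `W = Z(X) ∩ N`
    set W := N ⊓ centralizer (X : Set G)
    obtain ⟨w, hwN, hw1, hwc⟩ := exists_central_mem hXp (le_sup_left : N ≤ X)
      (by rw [normalizer_eq_top]; exact le_top) hN0
    have hW0 : W ≠ ⊥ := fun h => hw1 (by
      have : w ∈ W := ⟨hwN, fun y hy => hwc y hy⟩
      rwa [h, mem_bot] at this)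
    have hLW : L ≤ normalizer (W : Set G) := by
      refine le_trans ?_ inf_normalizer_le_normalizer_inf
      refine le_inf (by rw [normalizer_eq_top]; exact le_top) ?_
      exact hLX.trans (normalizer_le_normalizer_centralizer X)
    -- `p'`-elements of `L` centralise `W`
    have hW : ∀ e ∈ L, ¬ p ∣ orderOf e → ∀ v ∈ W, e * v = v * e := by
      intro e he hpe v hv
      have hcop : (Nat.card N).Coprime (Nat.card (zpowers e)) := by
        obtain ⟨k, hk⟩ := IsPGroup.iff_card.mp hN
        rw [hk, Nat.card_zpowers]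
        exact Nat.Coprime.pow_left k ((Fact.out : p.Prime).coprime_iff_not_dvd.mpr hpe)
      have hfix' : ∀ a ∈ zpowers e, x⁻¹ * (a * x * a⁻¹) ∈ N := by
        intro a ha
        have haL : a ∈ L := zpowers_le.mpr he ha
        have h := hfix a haL x (mem_zpowers x)
        have e' : x⁻¹ * (a * x * a⁻¹) = x⁻¹ * (a * (a⁻¹ * (x * a * x⁻¹))⁻¹ * a⁻¹) * x := by group
        rw [e']
        simpa using (inferInstance : N.Normal).conj_mem _
          ((inferInstance : N.Normal).conj_mem _ (inv_mem h) a) x⁻¹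
      obtain ⟨x', hx', hxx'⟩ := H1.exists_fixed_mem_coset (A := zpowers e) (N := N)
        (by rw [normalizer_eq_top]; exact le_top) hcop (Or.inr inferInstance) hfix'
      have hx'X : x' ∈ X := by
        have := mul_mem (Subgroup.mem_sup_right (mem_zpowers x) : x ∈ X) (Subgroup.mem_sup_left hxx' : _ ∈ X)
        simpa using this
      have hx'1 : x' ≠ 1 := fun h => hx (by simpa [h] using hxx')
      exact cn_centralizes_pGroup hCN hXp hx'X hx'1 (hx' e (mem_zpowers e))
        hpe v (Subgroup.mem_sup_left hv.1)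
    obtain ⟨S⟩ : Nonempty (Sylow p L) := inferInstance
    set P := (S : Subgroup L).map L.subtype
    have hPp : IsPGroup p P := S.isPGroup'.map _
    -- `W` lies in `P`
    have hXL : X ≤ L := sup_le hNL (zpowers_le.mpr hxL)
    have hWP : W ≤ P := by
      have hn : (W.subgroupOf L).Normal := (normal_subgroupOf_iff_le_normalizer
        (inf_le_left.trans hNL)).mpr hLW
      have hle : W.subgroupOf L ≤ (S : Subgroup L) :=
        @IsPGroup.le_sylow_of_normal _ _ _ (W.subgroupOf L) hn
          (IsPGroup.comap_subtype (hN.to_le inf_le_left)) S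
      intro v hv
      exact ⟨⟨v, hNL hv.1⟩, hle hv, rfl⟩
    obtain ⟨z, hzW, hz1, hzP⟩ := exists_central_mem hPp hWP
      ((map_subtype_le _).trans hLW) hW0
    have hLz : L ≤ centralizer ({z} : Set G) := by
      refine le_of_sylow fun r hr => ?_
      rcases eq_or_ne r p with rfl | hrp
      · exact ⟨S, fun e he => mem_centralizer_singleton_iff.mpr (hzP e he)⟩
      · refine ⟨default, ?_⟩
        rintro _ ⟨e, he, rfl⟩
        refine mem_centralizer_singleton_iff.mpr (hW e e.2 ?_ z hzW)
        obtain ⟨k, hk⟩ := orderOf_eq_pow_of_mem (default : Sylow r L).isPGroup' he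
        rw [Subgroup.orderOf_coe, hk]
        intro hd
        exact hrp ((Nat.prime_dvd_prime_iff_eq Fact.out hr.out).mp ((Fact.out : p.Prime).dvd_of_dvd_pow hd)).symm
    have hLn : Group.IsNilpotent L := H1.isNilpotent_mono (hCN z hz1) hLz
    have := H1.isNilpotent_map hLn (QuotientGroup.mk' N)
    rwa [map_comap_eq_self_of_surjective (QuotientGroup.mk'_surjective N)] at this

end Basics

/-- **Quotients of CN-groups by solvable normal subgroups are CN-groups.** -/
theorem isCN_quotient {G : Type u} [Group G] [Finite G] (hCN : Cfsg.IsCNGroup G) (H : Subgroup G) [H.Normal]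
    (hH : Group.IsSolvable H) : Cfsg.IsCNGroup (G ⧸ H) := by
  induction hn : Nat.card H using Nat.strong_induction_on generalizing G with
  | _ n ih =>
    subst hn
    rcases eq_or_ne H ⊥ with rfl | hH0
    · exact isCN_of_equiv (QuotientGroup.quotientBot.symm) hCN
    have : Nontrivial H := (Subgroup.nontrivial_iff_ne_bot H).mpr hH0
    have := hH
    obtain ⟨p, V, hp, hVn, hV0, hVp⟩ := H1.exists_normal_pgroup_ne_bot H
    have := Fact.mk hp
    have := H1.pCore_characteristic p H
    set N := (Cfsg.pCore p H).map H.subtype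
    have hNn : N.Normal := H1.map_subtype_normal_of_characteristic H _
    have hNp : IsPGroup p N := (H1.isPGroup_pCore p H).map _
    have hN0 : N ≠ ⊥ := by
      rw [ne_eq, Subgroup.map_eq_bot_iff_of_injective _ H.subtype_injective]
      exact fun h => hV0 (le_bot_iff.mp (h ▸ H1.le_pCore hVp))
    have hNH : N ≤ H := map_subtype_le _
    have hq := isCN_quotient_pGroup hCN hNp hN0
    have hlt : Nat.card (H.map (QuotientGroup.mk' N)) < Nat.card H := by
      have h1 := Subgroup.relIndex_ker (K := H) (QuotientGroup.mk' N)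
      rw [QuotientGroup.ker_mk'] at h1
      have h2 : Nat.card N * N.relIndex H = Nat.card H := by
        have := Subgroup.relIndex_mul_relIndex ⊥ N H bot_le hNH
        rwa [Subgroup.relIndex_bot_left, Subgroup.relIndex_bot_left] at this
      rw [← h1, ← h2]
      exact lt_mul_of_one_lt_left (by rw [h1]; exact Nat.card_pos) ((Subgroup.one_lt_card_iff_ne_bot N).mpr hN0)
    have hsol : Group.IsSolvable (H.map (QuotientGroup.mk' N)) :=
      Group.isSolvable_of_surjective ((QuotientGroup.mk' N).subgroupMap_surjective H)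
    exact isCN_of_equiv (QuotientGroup.quotientQuotientEquivQuotient N H hNH) (ih _ hlt hq _ hsol rfl)

end H84
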