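import Cfsg.Prelude.Def_LieExceptional
import Cfsg.Agent.H84.CN

/-!
Maximal nilpotent subgroups of CN-groups.
-/

set_option autoImplicit false

namespace H84

open Subgroup

universe u

variable {G : Type u} [Group G] [Finite G]

/-- The Sylow subgroup of a nilpotent subgroup `H`, as the set of its `p`-elements. -/
theorem exists_nilp_sylow {H : Subgroup G} (hH : Group.IsNilpotent H) (p : ℕ) [Fact p.Prime] :
    ∃ S : Subgroup G, IsPGroup p S ∧ S ≤ H ∧ ∀ a ∈ H, ∀ k : ℕ, orderOf a = p ^ k → a ∈ S := by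
  obtain ⟨S⟩ : Nonempty (Sylow p H) := inferInstance
  have hn : (S : Subgroup H).Normal := by
    have h := (Group.isNilpotent_of_finite_tfae (G := H)).out 0 3
    exact h.mp hH p inferInstance S
  refine ⟨(S : Subgroup H).map H.subtype, S.isPGroup'.map _, map_subtype_le _, fun a ha k hk => ?_⟩
  refine ⟨⟨a, ha⟩, ?_, rfl⟩
  have hz : IsPGroup p (zpowers (⟨a, ha⟩ : H)) :=
    IsPGroup.of_card (n := k) (by rw [Nat.card_zpowers, Subgroup.orderOf_mk, hk])
  obtain ⟨T, hT⟩ := hz.exists_le_sylow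
  have := Sylow.unique_of_normal S hn
  exact (Subsingleton.elim T S) ▸ hT (mem_zpowers _)

variable {H : Subgroup G} (hCN : Cfsg.IsCNGroup G) (hH : Group.IsNilpotent H)
  (hmax : ∀ L : Subgroup G, Group.IsNilpotent L → H ≤ L → L = H)

include hCN hH hmax

theorem maxNilp_centralizer_eq {p : ℕ} [Fact p.Prime] {S : Subgroup G} (hS : IsPGroup p S) (hSH : S ≤ H)
    (hmem : ∀ a ∈ H, ∀ k : ℕ, orderOf a = p ^ k → a ∈ S) {w : G} (hw : w ∈ S) (hw1 : w ≠ 1)
    (hwc : ∀ x ∈ S, x * w = w * x) : centralizer ({w} : Set G) = H := by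
  refine hmax _ (hCN w hw1) (le_of_forall_primePow fun r hr x hx k hk => mem_centralizer_singleton_iff.mpr ?_)
  have := Fact.mk hr
  rcases eq_or_ne r p with rfl | hne
  · exact hwc x (hmem x hx k hk)
  · obtain ⟨j, hj⟩ := orderOf_eq_pow_of_mem hS hw
    exact nilp_commute hH hx (hSH hw) (coprime_orderOf_of_ne hne hk hj)

theorem maxNilp_sylow_le {p : ℕ} [Fact p.Prime] {S : Subgroup G} (hS : IsPGroup p S) (hSH : S ≤ H)
    (hmem : ∀ a ∈ H, ∀ k : ℕ, orderOf a = p ^ k → a ∈ S) (hS0 : S ≠ ⊥) (Q : Sylow p G) (hSQ : S ≤ Q) :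
    (Q : Subgroup G) ≤ H := by
  obtain ⟨z, hz, hz1, hzc⟩ := exists_central hS hS0
  obtain ⟨w, hw, hw1, hwc⟩ := exists_central Q.isPGroup' (fun h => hS0 (le_bot_iff.mp (h ▸ hSQ)))
  have hwH : w ∈ H := maxNilp_centralizer_eq hCN hH hmax hS hSH hmem hz hz1 hzc ▸
    mem_centralizer_singleton_iff.mpr (hwc z (hSQ hz)).symm
  obtain ⟨j, hj⟩ := orderOf_eq_pow_of_mem Q.isPGroup' hw
  rw [← maxNilp_centralizer_eq hCN hH hmax hS hSH hmem (hmem w hwH j hj) hw1 fun x hx => hwc x (hSQ hx)]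
  exact fun x hx => mem_centralizer_singleton_iff.mpr (hwc x hx)

theorem maxNilp_coprime : (Nat.card H).Coprime H.index := by
  refine Nat.coprime_of_dvd fun p hp hpH hpi => ?_
  have := Fact.mk hp
  obtain ⟨S, hS, hSH, hmem⟩ := exists_nilp_sylow hH p
  have hS0 : S ≠ ⊥ := by
    obtain ⟨⟨a, ha⟩, hao⟩ := exists_prime_orderOf_dvd_card' (G := H) p hpH
    rw [Subgroup.orderOf_mk] at hao
    intro h
    have h1 := hmem a ha 1 (by rw [hao, pow_one])
    rw [h, mem_bot] at h1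
    rw [h1, orderOf_one] at hao
    exact hp.ne_one hao.symm
  obtain ⟨Q, hQ⟩ := hS.exists_le_sylow
  exact Q.not_dvd_index (hpi.trans (index_dvd_of_le (maxNilp_sylow_le hCN hH hmax hS hSH hmem hS0 Q hQ)))

theorem maxNilp_le_of_centralizer_le (hnp : ¬ IsPrimePow (Nat.card H)) {p : ℕ} [Fact p.Prime] {x : G}
    (hx : x ∈ H) (hxp : orderOf x = p) {M : Subgroup G} (hM : Group.IsNilpotent M)
    (hxM : centralizer ({x} : Set G) ≤ M) : M ≤ H := by
  obtain ⟨S, hS, hSH, hmem⟩ := exists_nilp_sylow hH p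
  have hxS : x ∈ S := hmem x hx 1 (by rw [hxp, pow_one])
  have hx1 : x ≠ 1 := fun h => (Fact.out : p.Prime).ne_one (by rw [← hxp, h, orderOf_one])
  obtain ⟨z, hz, hz1, hzc⟩ := exists_central hS (fun h => hx1 (by rwa [h, mem_bot] at hxS))
  have hzM : z ∈ M := hxM (mem_centralizer_singleton_iff.mpr (hzc x hxS).symm)
  obtain ⟨q, hq, hqp, hqH⟩ : ∃ q : ℕ, q.Prime ∧ q ≠ p ∧ q ∣ Nat.card H := by
    by_contra h
    have hpH : p ∣ Nat.card H := hxp ▸ Subgroup.orderOf_dvd_natCard H hx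
    have he := Nat.eq_prime_pow_of_unique_prime_dvd (n := Nat.card H) (p := p) Nat.card_pos.ne'
      (fun {d} hd hdH => by_contra fun hne => h ⟨d, hd, hne, hdH⟩)
    refine hnp ((isPrimePow_nat_iff _).mpr ⟨p, _, Fact.out, Nat.pos_of_ne_zero fun h0 => ?_, he.symm⟩)
    rw [h0, pow_zero] at he
    exact (Fact.out : p.Prime).not_dvd_one (he ▸ hpH)
  have := Fact.mk hq
  obtain ⟨T, hT, hTH, hTmem⟩ := exists_nilp_sylow hH q
  obtain ⟨⟨a, ha⟩, hao⟩ := exists_prime_orderOf_dvd_card' (G := H) q hqH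
  rw [Subgroup.orderOf_mk] at hao
  have haT : a ∈ T := hTmem a ha 1 (by rw [hao, pow_one])
  have ha1 : a ≠ 1 := fun h => hq.ne_one (by rw [← hao, h, orderOf_one])
  obtain ⟨y, hy, hy1, hyc⟩ := exists_central hT (fun h => ha1 (by rwa [h, mem_bot] at haT))
  obtain ⟨j, hj⟩ := orderOf_eq_pow_of_mem hT hy
  obtain ⟨i, hi⟩ := orderOf_eq_pow_of_mem hS hz
  have hyM : y ∈ M := hxM (mem_centralizer_singleton_iff.mpr (nilp_commute hH (hTH hy) hx
    (coprime_orderOf_of_ne hqp hj (k := 1) (by rw [hxp, pow_one]))))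
  refine le_of_forall_primePow fun r hr e he k hk => ?_
  have := Fact.mk hr
  rcases eq_or_ne r q with rfl | hne
  · rw [← maxNilp_centralizer_eq hCN hH hmax hS hSH hmem hz hz1 hzc, mem_centralizer_singleton_iff]
    exact nilp_commute hM he hzM (coprime_orderOf_of_ne hqp hk hi)
  · rw [← maxNilp_centralizer_eq hCN hH hmax hT hTH hTmem hy hy1 hyc, mem_centralizer_singleton_iff]
    exact nilp_commute hM he hyM (coprime_orderOf_of_ne hne hk hj)

theorem maxNilp_ti (hnp : ¬ IsPrimePow (Nat.card H)) (g : G)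
    (hg : H.map (MulAut.conj g).toMonoidHom ≠ H) : H ⊓ H.map (MulAut.conj g).toMonoidHom = ⊥ := by
  set c := MulAut.conj g
  set H' := H.map c.toMonoidHom
  by_contra h0
  obtain ⟨x₀, ⟨hx₀, hx₀'⟩, hx₀1⟩ := (Subgroup.bot_or_exists_ne_one _).resolve_left h0
  obtain ⟨p, hp, i, hi, hxH, -⟩ := exists_prime_pow_mem hx₀ hx₀1
  have := Fact.mk hp
  set x := x₀ ^ i
  have hx' : x ∈ H' := pow_mem hx₀' i
  have hx1 : x ≠ 1 := fun h => hp.ne_one (by rw [← hi, h, orderOf_one])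
  have hH' : Group.IsNilpotent H' := H1.isNilpotent_map hH _
  have hcard : Nat.card H' = Nat.card H :=
    (Nat.card_congr (H.equivMapOfInjective _ c.injective).toEquiv).symm
  have hmax' : ∀ L : Subgroup G, Group.IsNilpotent L → H' ≤ L → L = H' := by
    intro L hL hle
    refine le_antisymm ?_ hle
    have h := hmax (L.map c.symm.toMonoidHom) (H1.isNilpotent_map hL _) fun a ha =>
      ⟨c a, hle ⟨a, ha, rfl⟩, c.symm_apply_apply a⟩
    intro b hb
    exact ⟨c.symm b, h ▸ ⟨b, hb, rfl⟩, c.apply_symm_apply b⟩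
  -- a maximal nilpotent subgroup containing the centraliser
  obtain ⟨M, hM⟩ := (Set.toFinite {L : Subgroup G | Group.IsNilpotent L ∧ centralizer ({x} : Set G) ≤ L}).exists_maximal
    ⟨_, hCN x hx1, le_rfl⟩
  have h1 := maxNilp_le_of_centralizer_le hCN hH hmax hnp hxH hi hM.1.1 hM.1.2
  have h2 := maxNilp_le_of_centralizer_le hCN hH' hmax' (hcard.symm ▸ hnp) hx' hi hM.1.1 hM.1.2
  have e1 : H ≤ M := hM.2 (y := H) ⟨hH, hM.1.2.trans h1⟩ h1
  have e2 : H' ≤ M := hM.2 (y := H') ⟨hH', hM.1.2.trans h2⟩ h2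
  exact hg ((le_antisymm e2 h2).trans (le_antisymm e1 h1).symm)

theorem maxNilp_centralizer_le
    (hTI : ∀ g : G, H.map (MulAut.conj g).toMonoidHom ≠ H → H ⊓ H.map (MulAut.conj g).toMonoidHom = ⊥)
    {x₀ : G} (hx₀ : x₀ ∈ H) (hx₀1 : x₀ ≠ 1) : centralizer ({x₀} : Set G) ≤ H := by
  obtain ⟨p, hp, i, hi, hxH, -⟩ := exists_prime_pow_mem hx₀ hx₀1
  have := Fact.mk hp
  set x := x₀ ^ i
  have hx1 : x ≠ 1 := fun h => hp.ne_one (by rw [← hi, h, orderOf_one])
  obtain ⟨S, hS, hSH, hmem⟩ := exists_nilp_sylow hH p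
  have hxS : x ∈ S := hmem x hxH 1 (by rw [hi, pow_one])
  obtain ⟨z, hz, hz1, hzc⟩ := exists_central hS (fun h => hx1 (by rwa [h, mem_bot] at hxS))
  refine le_of_forall_primePow fun r hr e he k hk => ?_
  have hec : e * x = x * e := (Commute.pow_right (mem_centralizer_singleton_iff.mp he) i).eq
  rcases eq_or_ne r p with rfl | hne
  · have hfix : H.map (MulAut.conj e).toMonoidHom = H := by
      by_contra hne'
      have hmemx : x ∈ H ⊓ H.map (MulAut.conj e).toMonoidHom :=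
        ⟨hxH, x, hxH, by simp [MulAut.conj_apply, hec]⟩
      rw [hTI e hne', mem_bot] at hmemx
      exact hx1 hmemx
    have heN : e ∈ normalizer (S : Set G) := by
      rw [Subgroup.mem_normalizer_iff_map_conj_eq]
      refine Subgroup.eq_of_le_of_card_ge ?_
        (Nat.card_congr (S.equivMapOfInjective _ (MulAut.conj e).injective).toEquiv).le
      rintro _ ⟨a, ha, rfl⟩
      obtain ⟨j, hj⟩ := orderOf_eq_pow_of_mem hS ha
      refine hmem _ (hfix.le ⟨a, hSH ha, rfl⟩) j ?_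
      exact (orderOf_injective (MulAut.conj e).toMonoidHom (MulAut.conj e).injective a).trans hj
    have hU : IsPGroup r (zpowers e ⊔ S : Subgroup G) :=
      IsPGroup.to_sup_of_normal_right' (IsPGroup.of_card (n := k) (by rw [Nat.card_zpowers, hk])) hS
        (zpowers_le.mpr heN)
    obtain ⟨Q, hQ⟩ := hU.exists_le_sylow
    exact maxNilp_sylow_le hCN hH hmax hS hSH hmem (fun h => hx1 (by rwa [h, mem_bot] at hxS)) Q
      (le_sup_right.trans hQ) (hQ (mem_sup_left (mem_zpowers e)))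
  · rw [← maxNilp_centralizer_eq hCN hH hmax hS hSH hmem hz hz1 hzc, mem_centralizer_singleton_iff]
    exact cn_centralizes_pGroup hCN hS hxS hx1 hec
      (fun hd => hne ((Nat.prime_dvd_prime_iff_eq hp hr).mp (hp.dvd_of_dvd_pow (hk ▸ hd))).symm) z hz

end H84
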