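import Cfsg.Prelude.Def_OddOrderLocal
import Cfsg.Agent.H81.BenderPair
import Cfsg.Agent.H84.CN
import Cfsg.Agent.H1.CoprimeAction2

/-!
The centres of the Fitting components of a maximal local subgroup (Bender's method).
-/

set_option autoImplicit false

namespace H84

open Subgroup

universe u

variable {G : Type u} [Group G] [Finite G]

/-- The centre of `O_r(H)`. -/
def zPart (r : ℕ) (H : Subgroup G) : Subgroup G :=
  Cfsg.pCoreOf r H ⊓ centralizer (Cfsg.pCoreOf r H : Set G)

theorem inf_eq_bot_of_coprime' {A B : Subgroup G} (h : (Nat.card A).Coprime (Nat.card B)) :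
    A ⊓ B = ⊥ :=
  Subgroup.eq_bot_of_card_eq _ (Nat.eq_one_of_dvd_coprimes h (card_dvd_of_le inf_le_left) (card_dvd_of_le inf_le_right))

/-- Subgroups of coprime order normalising each other commute. -/
theorem le_centralizer_of_mutual {A B : Subgroup G} (hAB : A ≤ normalizer (B : Set G))
    (hBA : B ≤ normalizer (A : Set G)) (h : (Nat.card A).Coprime (Nat.card B)) :
    A ≤ centralizer (B : Set G) := by
  rw [← Subgroup.commutator_eq_bot_iff_le_centralizer, ← le_bot_iff]
  exact (le_inf (Subgroup.le_normalizer_iff_commutator_le_left.mp hBA)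
    (Subgroup.le_normalizer_iff_commutator_le_right.mp hAB)).trans (inf_eq_bot_of_coprime' h).le

theorem isPGroup_zPart (r : ℕ) (H : Subgroup G) : IsPGroup r (zPart r H) :=
  (H75.isPGroup_pCoreOf H).to_le inf_le_left

theorem zPart_le (r : ℕ) (H : Subgroup G) : zPart r H ≤ H :=
  inf_le_left.trans (H75.pCoreOf_le H)

theorem le_normalizer_zPart (r : ℕ) (H : Subgroup G) : H ≤ normalizer (zPart r H : Set G) :=
  (le_inf (H75.le_normalizer_pCoreOf H) ((H75.le_normalizer_pCoreOf H).trans
    (H75.normalizer_le_normalizer_centralizer _))).trans (H75.normalizer_inf_le_normalizer_inf _ _)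

theorem isMulCommutative_zPart (r : ℕ) (H : Subgroup G) : IsMulCommutative (zPart r H) :=
  ⟨⟨fun a b => Subtype.ext (mem_centralizer_iff.mp b.2.2 a a.2.1)⟩⟩

theorem zPart_ne_bot {r : ℕ} [Fact r.Prime] {H : Subgroup G} (h : Cfsg.pCoreOf r H ≠ ⊥) :
    zPart r H ≠ ⊥ := by
  obtain ⟨z, hz, hz1, hzc⟩ := exists_central (H75.isPGroup_pCoreOf (p := r) H) h
  intro hb
  have hz' : z ∈ zPart r H := ⟨hz, mem_centralizer_iff.mpr fun x hx => hzc x hx⟩
  rw [hb, mem_bot] at hz'
  exact hz1 hz'

/-- `Z(O_r(H))` is central in `F(H)`. -/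
theorem zPart_le_center_fitting (r : ℕ) [Fact r.Prime] (H : Subgroup G) :
    zPart r H ≤ Cfsg.fittingOf H ⊓ centralizer (Cfsg.fittingOf H : Set G) := by
  refine le_inf (inf_le_left.trans (H81.pCoreOf_le_fittingOf r H))
    (H81.le_centralizer_fittingOf fun s hs => ?_)
  have := Fact.mk hs
  rcases eq_or_ne r s with rfl | hne
  · exact inf_le_right
  · exact inf_le_left.trans (H81.pCoreOf_le_centralizer hne H)

/-- `Z(O_r(H))` centralises the invariant subgroups of prime power order, for another prime of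
`F(H)`. -/
theorem zPart_le_centralizer {H : Subgroup G} {r s : ℕ} [Fact r.Prime] [Fact s.Prime] (hrs : r ≠ s)
    (hC : centralizer (zPart s H : Set G) ≤ H) {R : Subgroup G} (hR : IsPGroup s R)
    (hr : zPart r H ≤ normalizer (R : Set G)) (hs : zPart s H ≤ normalizer (R : Set G)) :
    zPart r H ≤ centralizer (R : Set G) := by
  have hcop := H81.coprime_of_isPGroup_ne hrs (isPGroup_zPart r H) hR
  refine H1.thompson_P_times_Q (isPGroup_zPart s H) ?_ hR
    (inf_le_left.trans ((H81.pCoreOf_le_centralizer hrs.symm H).trans (centralizer_le inf_le_left)))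
    hs hr ?_
  · obtain ⟨k, hk⟩ := IsPGroup.iff_card.mp (isPGroup_zPart r H)
    rw [hk]
    exact Nat.Coprime.pow_left k ((Nat.coprime_primes Fact.out Fact.out).mpr hrs)
  · rw [le_centralizer_iff]
    refine le_centralizer_of_mutual ?_ ((inf_le_right.trans hC).trans (le_normalizer_zPart r H))
      (hcop.coprime_dvd_right (card_dvd_of_le inf_le_left))
    refine le_trans (le_inf hr ?_) (H75.normalizer_inf_le_normalizer_inf _ _)
    exact ((zPart_le r H).trans (le_normalizer_zPart s H)).trans
      (H75.normalizer_le_normalizer_centralizer _)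

/-- The centralisers of the `Z(O_r(H))` lie in `H`, for `H` a maximal local subgroup. -/
theorem centralizer_zPart_le_of_maximal_local {H : Subgroup G}
    (hHmax : ∀ L : Subgroup G, Cfsg.IsLocalSubgroup L → H ≤ L → L = H) {r : ℕ} [Fact r.Prime]
    (h : Cfsg.pCoreOf r H ≠ ⊥) : centralizer (zPart r H : Set G) ≤ H :=
  (centralizer_le_normalizer _).trans (hHmax _ ⟨r, zPart r H, Fact.out, isPGroup_zPart r H,
    zPart_ne_bot h, rfl⟩ (le_normalizer_zPart r H)).le

end H84
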