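import Cfsg.Agent.H84.BenderLocal
import Cfsg.Agent.H84.Invariant
import Cfsg.Agent.H81.Transitivity
import Cfsg.Agent.H32.Subnormal
import Cfsg.Agent.H68.Bender
import Cfsg.Agent.H1.CoprimeAction

/-!
Invariant subgroups of coprime order under a self-centralising subgroup of the Fitting subgroup
of a maximal local subgroup.
-/

set_option autoImplicit false

namespace H84

open Subgroup

universe u

/-- The quotient step of Bender's method. -/
theorem image_le_centralizer_of_normal_section {A : Type u} [Group A] [Finite A]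
    (R K : Subgroup A) [R.Normal] [K.Normal] (hKR : K ≤ R) {r s : ℕ} [Fact r.Prime] [Fact s.Prime]
    (hrs : r ≠ s) (hKs : ¬ s ∣ Nat.card K)
    {Y Zr Zs : Subgroup A} (hY : Y ≤ ⁅Y, Zr⁆) (hZr : IsPGroup r Zr) (hZs : IsPGroup s Zs)
    (hcomm : Zs ≤ centralizer (Zr : Set A))
    (hnorm : R ⊓ centralizer (Zs : Set A) ≤ normalizer (Zr : Set A))
    (V : Subgroup (A ⧸ K)) [V.Normal] (hV : IsPGroup s V) (hVR : V ≤ R.map (QuotientGroup.mk' K)) :
    Y.map (QuotientGroup.mk' K) ≤ centralizer (V : Set (A ⧸ K)) := by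
  set φ := QuotientGroup.mk' K with hφ
  have hcop := H81.coprime_of_isPGroup_ne hrs (hZr.map φ) hV
  have key : Zr.map φ ≤ centralizer (V : Set (A ⧸ K)) := by
    refine H1.thompson_P_times_Q (hZs.map φ) ?_ hV
      ((map_mono hcomm).trans (map_le_iff_le_comap.mpr fun x hx => ?_))
      le_normalizer_of_normal le_normalizer_of_normal ?_
    · obtain ⟨k, hk⟩ := IsPGroup.iff_card.mp (hZr.map φ)
      rw [hk]
      exact Nat.Coprime.pow_left k ((Nat.coprime_primes Fact.out Fact.out).mpr hrs)
    · rw [mem_comap, mem_centralizer_iff]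
      rintro _ ⟨z, hz, rfl⟩
      rw [← map_mul, ← map_mul, mem_centralizer_iff.mp hx z hz]
    · rw [le_centralizer_iff]
      refine le_centralizer_of_mutual ?_ ?_ (hcop.coprime_dvd_right (card_dvd_of_le inf_le_left))
      · refine le_trans (le_inf le_normalizer_of_normal ?_) (H75.normalizer_inf_le_normalizer_inf _ _)
        refine le_trans ?_ (H75.normalizer_le_normalizer_centralizer _)
        refine (le_centralizer_iff.mp ((map_mono hcomm).trans
          (map_le_iff_le_comap.mpr fun x hx => ?_))).trans (centralizer_le_normalizer _)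
        rw [mem_comap, mem_centralizer_iff]
        rintro _ ⟨z, hz, rfl⟩
        rw [← map_mul, ← map_mul, mem_centralizer_iff.mp hx z hz]
      · rintro v ⟨hv, hvc⟩
        rw [SetLike.mem_coe, hφ, centralizer_map_mk' K hZs hKs] at hvc
        obtain ⟨w, hw, rfl⟩ := hvc
        obtain ⟨w', hw', e⟩ := hVR hv
        have hwR : w ∈ R := by
          have h1 : w'⁻¹ * w ∈ R := hKR ((QuotientGroup.eq).mp e)
          simpa using mul_mem hw' h1
        exact Subgroup.le_normalizer_map φ ⟨w, hnorm ⟨hwR, hw⟩, rfl⟩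
  refine (map_mono hY).trans ?_
  rw [map_commutator]
  exact (commutator_mono le_rfl key).trans (commutator_le_right _ _)

variable {G : Type u} [Group G] [Finite G] {H M : Subgroup G}

/-- A subgroup of a group normalised by the group and nilpotent lies in its Fitting subgroup. -/
theorem le_fittingOf_of_normalized {N X : Subgroup G} (hN : Group.IsNilpotent N) (hNX : N ≤ X)
    (hn : X ≤ normalizer (N : Set G)) : N ≤ Cfsg.fittingOf X := by
  have : (N.subgroupOf X).Normal := (normal_subgroupOf_iff_le_normalizer hNX).mpr hn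
  have h := map_mono (f := X.subtype)
    (H1.le_fittingSubgroup (H1.isNilpotent_comap_subtype hN X))
  rwa [map_subgroupOf_eq_of_le hNX] at h

theorem normalizer_le_normalizer_fittingOf (X : Subgroup G) :
    normalizer (X : Set G) ≤ normalizer (Cfsg.fittingOf X : Set G) := by
  have := H1.fittingSubgroup_characteristic X
  exact H75.normalizer_le_normalizer_map_characteristic X _

/-- A solvable subgroup normalised by `C_H(F(H))` and contained in it lies in `F(H)`. -/
theorem solvable_le_fitting_of_le_centralizer {N : Subgroup G} (hN : Group.IsSolvable N)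
    (hNX : N ≤ H ⊓ centralizer (Cfsg.fittingOf H : Set G))
    (hn : H ⊓ centralizer (Cfsg.fittingOf H : Set G) ≤ normalizer (N : Set G)) :
    N ≤ Cfsg.fittingOf H := by
  set X := H ⊓ centralizer (Cfsg.fittingOf H : Set G) with hX
  have hFN : Cfsg.fittingOf N ≤ Cfsg.fittingOf X :=
    le_fittingOf_of_normalized (H81.fittingOf_nilpotent N) ((H81.fittingOf_le N).trans hNX)
      (hn.trans (normalizer_le_normalizer_fittingOf N))
  have hHX : H ≤ normalizer (X : Set G) :=
    (le_inf le_normalizer ((H81.fittingOf_normalized H).trans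
      (H75.normalizer_le_normalizer_centralizer _))).trans (H75.normalizer_inf_le_normalizer_inf _ _)
  have hFX : Cfsg.fittingOf X ≤ Cfsg.fittingOf H :=
    le_fittingOf_of_normalized (H81.fittingOf_nilpotent X) ((H81.fittingOf_le X).trans inf_le_left)
      (hHX.trans (normalizer_le_normalizer_fittingOf X))
  refine le_trans ?_ (hFN.trans hFX)
  refine (le_inf le_rfl ?_).trans (H81.inf_centralizer_fittingOf_le hN)
  exact (hNX.trans inf_le_right).trans (centralizer_le (hFN.trans hFX))

variable (hM : M ≤ Cfsg.fittingOf H)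
  (hCM : Cfsg.fittingOf H ⊓ centralizer (M : Set G) ≤ M)

include hM hCM

/-- An element of coprime order centralising `M` centralises `F(H)`. -/
theorem mem_centralizer_fitting_of_commute {c : G} (hcH : c ∈ H) (hc : c ∈ centralizer (M : Set G))
    (hco : (orderOf c).Coprime (Nat.card (Cfsg.fittingOf H))) :
    c ∈ centralizer (Cfsg.fittingOf H : Set G) := by
  refine H81.le_centralizer_fittingOf (X := zpowers c) (fun r hr => ?_) (mem_zpowers c)
  have := Fact.mk hr
  by_cases hb : Cfsg.pCoreOf r H = ⊥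
  · rw [hb]
    exact fun x _ => mem_centralizer_iff.mpr fun z hz => by rw [mem_bot.mp hz, mul_one, one_mul]
  have hrd : r ∣ Nat.card (Cfsg.fittingOf H) := (H81.pCoreOf_ne_bot_iff H).mp hb
  set U := Cfsg.pCoreOf r H
  have hMn : M ⊓ U ≤ U := inf_le_right
  refine H1.thompson_P_times_Q ((H75.isPGroup_pCoreOf (p := r) H).to_le hMn) ?_
    (H75.isPGroup_pCoreOf H) ?_ (hMn.trans le_normalizer)
    ((zpowers_le.mpr hcH).trans (H75.le_normalizer_pCoreOf H)) ?_
  · rw [Nat.card_zpowers]
    exact hco.coprime_dvd_right hrd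
  · rw [le_centralizer_iff, zpowers_le]
    exact centralizer_le inf_le_left hc
  · intro x hx
    have hxM : x ∈ M := by
      refine hCM ⟨H81.pCoreOf_le_fittingOf r H hx.1, ?_⟩
      have hle : M ≤ centralizer ({x} : Set G) := le_of_forall_primePow fun t ht y hy k hk => by
        have := Fact.mk ht
        rw [mem_centralizer_singleton_iff]
        rcases eq_or_ne t r with rfl | hne
        · refine mem_centralizer_iff.mp hx.2 y ⟨hy, H81.le_pCoreOf_of_le_fittingOf (R := zpowers y)
            (IsPGroup.of_card (n := k) (by rw [Nat.card_zpowers, hk])) (zpowers_le.mpr (hM hy))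
            (mem_zpowers y)⟩
        · obtain ⟨j, hj⟩ := orderOf_eq_pow_of_mem (H75.isPGroup_pCoreOf (p := r) H) hx.1
          exact nilp_commute (H81.fittingOf_nilpotent H) (hM hy) (H81.pCoreOf_le_fittingOf r H hx.1)
            (coprime_orderOf_of_ne hne hk hj)
      exact mem_centralizer_iff.mpr fun y hy => mem_centralizer_singleton_iff.mp (hle hy)
    rw [mem_centralizer_iff]
    intro e he
    obtain ⟨i, rfl⟩ := mem_zpowers_iff.mp he
    exact mem_centralizer_iff.mp (zpow_mem hc i) x hxM |>.symm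

variable (hHmax : ∀ L : Subgroup G, Cfsg.IsLocalSubgroup L → H ≤ L → L = H)
  {R : Subgroup G} (hR : Group.IsSolvable R) (hMR : M ≤ normalizer (R : Set G))
  (hXR : H ⊓ centralizer (Cfsg.fittingOf H : Set G) ≤ normalizer (R : Set G))

omit hCM in
theorem zPart_le_of_selfCentralizing
    (hCM : Cfsg.fittingOf H ⊓ centralizer (M : Set G) ≤ M) (r : ℕ) [Fact r.Prime] :
    zPart r H ≤ M :=
  ((zPart_le_center_fitting r H).trans (inf_le_inf_left _ (centralizer_le hM))).trans hCM

include hHmax hR hXR

/-- The fixed points of `Z(O_r(H))` on an invariant subgroup of coprime order are trivial. -/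
theorem inf_centralizer_zPart_eq_bot {r : ℕ} [Fact r.Prime] (hr : r ∣ Nat.card (Cfsg.fittingOf H))
    {Y : Subgroup G} (hYR : Y ≤ R) (hMY : M ≤ normalizer (Y : Set G))
    (hY : (Nat.card Y).Coprime (Nat.card (Cfsg.fittingOf H))) :
    Y ⊓ centralizer (zPart r H : Set G) = ⊥ := by
  have hrb : Cfsg.pCoreOf r H ≠ ⊥ := (H81.pCoreOf_ne_bot_iff H).mpr hr
  set Y₀ := Y ⊓ centralizer (zPart r H : Set G)
  have hMH : M ≤ H := hM.trans (H81.fittingOf_le H)
  have hY₀H : Y₀ ≤ H := inf_le_right.trans (centralizer_zPart_le_of_maximal_local hHmax hrb)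
  have hcop : (Nat.card Y₀).Coprime (Nat.card (Cfsg.fittingOf H)) :=
    hY.coprime_dvd_left (card_dvd_of_le inf_le_left)
  have hMY₀ : M ≤ normalizer (Y₀ : Set G) :=
    (le_inf hMY (hMH.trans ((le_normalizer_zPart r H).trans
      (H75.normalizer_le_normalizer_centralizer _)))).trans (H75.normalizer_inf_le_normalizer_inf _ _)
  have hC : Y₀ ≤ centralizer (M : Set G) := by
    rw [← commutator_eq_bot_iff_le_centralizer, ← le_bot_iff, ← inf_eq_bot_of_coprime' hcop]
    exact le_inf (le_normalizer_iff_commutator_le_left.mp hMY₀)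
      ((commutator_mono le_rfl hM).trans (le_normalizer_iff_commutator_le_right.mp
        (hY₀H.trans (H81.fittingOf_normalized H))))
  have hX : Y₀ ≤ R ⊓ (H ⊓ centralizer (Cfsg.fittingOf H : Set G)) := fun c hc =>
    ⟨hYR hc.1, hY₀H hc, mem_centralizer_fitting_of_commute hM hCM (hY₀H hc) (hC hc)
      (hcop.coprime_dvd_left (Subgroup.orderOf_dvd_natCard _ hc))⟩
  have hle := hX.trans (solvable_le_fitting_of_le_centralizer (H1.isSolvable_mono hR inf_le_left)
    inf_le_right ((le_inf hXR le_normalizer).trans (H75.normalizer_inf_le_normalizer_inf _ _)))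
  exact le_bot_iff.mp ((le_inf le_rfl hle).trans (inf_eq_bot_of_coprime' hcop).le)

include hMR

/-- An invariant subgroup of prime power order of coprime order lies in `O_{π'}(R)`. -/
theorem inv_le_piCoreOf (hF2 : 2 ≤ (Nat.card (Cfsg.fittingOf H)).primeFactors.card)
    {q : ℕ} [Fact q.Prime] (hq : ¬ q ∣ Nat.card (Cfsg.fittingOf H)) {Y : Subgroup G} (hYR : Y ≤ R)
    (hY : IsPGroup q Y) (hMY : M ≤ normalizer (Y : Set G)) :
    Y ≤ Cfsg.piCoreOf (Cfsg.primesNotDvd (Nat.card (Cfsg.fittingOf H))) R := by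
  set π' := Cfsg.primesNotDvd (Nat.card (Cfsg.fittingOf H)) with hπ'
  set N := normalizer (R : Set G)
  set K := Cfsg.piCoreOf π' R
  have hKR : K ≤ R := H80.piCoreOf_le _ _
  have hNK : N ≤ normalizer (K : Set G) := by
    have := H32.piCore_characteristic π' R
    exact H75.normalizer_le_normalizer_map_characteristic R _
  set R' := R.subgroupOf N with hR'
  set K' := K.subgroupOf N with hK'
  have : R'.Normal := normal_in_normalizer
  have : K'.Normal := (normal_subgroupOf_iff_le_normalizer (hKR.trans le_normalizer)).mpr hNK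
  set φ := QuotientGroup.mk' K'
  set Rb := R'.map φ with hRb
  have : Rb.Normal := (inferInstance : R'.Normal).map φ (QuotientGroup.mk'_surjective _)
  have hKR' : K' ≤ R' := fun x hx => hKR hx
  have hRsol : Group.IsSolvable Rb := by
    have : Group.IsSolvable R' :=
      Group.isSolvable_of_surjective (f := (subgroupOfEquivOfLe (le_normalizer (H := R))).symm.toMonoidHom)
        (subgroupOfEquivOfLe (le_normalizer (H := R))).symm.surjective
    exact Group.isSolvable_of_surjective (φ.subgroupMap_surjective R')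
  have hKcard : Nat.card K' = Nat.card K :=
    Nat.card_congr (subgroupOfEquivOfLe (hKR.trans le_normalizer)).toEquiv
  -- there is no normal section of coprime order above `K`
  have hsec : ∀ t : ℕ, t.Prime → ¬ t ∣ Nat.card (Cfsg.fittingOf H) →
      Cfsg.pCore t (N ⧸ K') ⊓ Rb = ⊥ := by
    intro t ht htd
    have := Fact.mk ht
    set V := Cfsg.pCore t (N ⧸ K') ⊓ Rb
    have := H1.pCore_normal' t (N ⧸ K')
    set W := V.comap φ
    have hWR : W ≤ R' := (comap_mono inf_le_right).trans (comap_map_eq φ R' ▸ sup_le le_rfl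
      (by rw [QuotientGroup.ker_mk']; exact hKR'))
    have hWn : R ≤ normalizer (W.map N.subtype : Set G) := by
      refine (le_normalizer (H := R)).trans ?_
      have h1 : (W.map N.subtype).subgroupOf N = W := comap_map_eq_self_of_injective N.subtype_injective W
      refine (normal_subgroupOf_iff_le_normalizer (map_subtype_le W)).mp ?_
      rw [h1]
      exact (inferInstance : V.Normal).comap φ
    have hWK : W.map N.subtype ≤ K := by
      refine H80.le_piCoreOf ((map_mono hWR).trans (by rw [hR', subgroupOf_map_subtype]; exact inf_le_left))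
        hWn ?_
      intro l hl hd
      rw [card_map_of_injective N.subtype_injective, H1.card_comap_mk'] at hd
      rcases hl.dvd_mul.mp hd with h | h
      · rw [hKcard] at h
        exact H80.piCoreOf_piGrp π' R l hl h
      · obtain ⟨k, hk⟩ := H1.card_pCore_eq_pow t (N ⧸ K')
        have h' := hk ▸ h.trans (card_dvd_of_le (inf_le_left : V ≤ Cfsg.pCore t (N ⧸ K')))
        rw [(Nat.prime_dvd_prime_iff_eq hl ht).mp (hl.dvd_of_dvd_pow h')]
        exact ⟨ht, htd⟩
    have hWK' : W ≤ K' := fun x hx => hWK ⟨x, hx, rfl⟩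
    rw [← map_comap_eq_self_of_surjective (f := φ) (QuotientGroup.mk'_surjective K') V,
      Subgroup.map_eq_bot_iff, QuotientGroup.ker_mk']
    exact hWK'
  set Y' := Y.subgroupOf N
  have hYN : Y ≤ N := hYR.trans le_normalizer
  -- `Y` centralises every section
  have key : ∀ t : ℕ, t.Prime →
      Y'.map φ ≤ centralizer ((Cfsg.pCore t (N ⧸ K') ⊓ Rb : Subgroup (N ⧸ K')) : Set (N ⧸ K')) := by
    intro t ht
    have := Fact.mk ht
    by_cases htd : t ∣ Nat.card (Cfsg.fittingOf H)
    swap
    · rw [hsec t ht htd]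
      exact fun x _ => mem_centralizer_iff.mpr fun z hz => by rw [mem_bot.mp hz, mul_one, one_mul]
    obtain ⟨a, ha, hat⟩ := Finset.exists_mem_ne hF2 t
    have := Fact.mk (Nat.prime_of_mem_primeFactors ha)
    have := H1.pCore_normal' t (N ⧸ K')
    have had := Nat.dvd_of_mem_primeFactors ha
    have hY0 : (Nat.card Y).Coprime (Nat.card (Cfsg.fittingOf H)) := by
      obtain ⟨k, hk⟩ := IsPGroup.iff_card.mp hY
      rw [hk]
      exact Nat.Coprime.pow_left k ((Fact.out : q.Prime).coprime_iff_not_dvd.mpr hq)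
    have hZM : ∀ l : ℕ, l.Prime → zPart l H ≤ M := fun l hl =>
      haveI := Fact.mk hl
      zPart_le_of_selfCentralizing hM hCM l
    have hZN : ∀ l : ℕ, l.Prime → zPart l H ≤ N := fun l hl => (hZM l hl).trans hMR
    have hcom : Y ≤ ⁅Y, zPart a H⁆ := by
      have h := H1.commutator_sup_centralizer_eq (A := zPart a H) (K := Y)
        ((hZM a Fact.out).trans hMY) ((hY0.coprime_dvd_right (card_dvd_of_le
          ((hZM a Fact.out).trans hM))).symm)
        (Or.inl (have := (isPGroup_zPart a H).isNilpotent; inferInstance))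
      rw [inf_centralizer_zPart_eq_bot hM hCM hHmax hR hXR had hYR hMY hY0, sup_bot_eq] at h
      exact h.ge
    refine image_le_centralizer_of_normal_section R' K' hKR' (r := a) (s := t) hat
      (fun hd => (H80.piCoreOf_piGrp π' R t ht (hKcard ▸ hd)).2 htd)
      (Zr := (zPart a H).subgroupOf N) (Zs := (zPart t H).subgroupOf N) ?_
      ((isPGroup_zPart a H).comap_subtype) ((isPGroup_zPart t H).comap_subtype) ?_ ?_ _
      ((H1.isPGroup_pCore t _).to_le inf_le_left) inf_le_right
    · refine (map_le_map_iff_of_injective N.subtype_injective).mp ?_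
      rw [map_commutator, map_subgroupOf_eq_of_le hYN, map_subgroupOf_eq_of_le (hZN a Fact.out)]
      exact hcom
    · intro x hx
      exact mem_centralizer_iff.mpr fun y hy => Subtype.ext
        (mem_centralizer_iff.mp (inf_le_left.trans ((H81.pCoreOf_le_centralizer hat.symm H).trans
          (centralizer_le inf_le_left)) hx) (y : G) hy)
    · rintro x ⟨-, hx⟩
      have hxH : (x : G) ∈ H := by
        refine centralizer_zPart_le_of_maximal_local hHmax ((H81.pCoreOf_ne_bot_iff H).mpr htd) ?_
        exact mem_centralizer_iff.mpr fun z hz =>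
          congrArg Subtype.val (mem_centralizer_iff.mp hx ⟨z, hZN t ht hz⟩ hz)
      rw [mem_normalizer_iff]
      exact fun y => mem_normalizer_iff.mp (le_normalizer_zPart a H hxH) (y : G)
  -- hence `Y` is trivial above `K`
  have hbot : Y'.map φ = ⊥ := by
    rw [Subgroup.eq_bot_iff_forall]
    intro y hy
    have hyR : y ∈ Rb := map_mono (f := φ) (show Y' ≤ R' from fun x hx => hYR hx) hy
    obtain ⟨k, hk⟩ := orderOf_eq_pow_of_mem ((hY.comap_subtype (K := N)).map φ) hy
    have hyF : (⟨y, hyR⟩ : Rb) ∈ Cfsg.fittingSubgroup Rb := by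
      refine H1.centralizer_fitting_le_of_isSolvable inferInstance ?_
      rw [← zpowers_le, le_centralizer_iff, H1.fittingSubgroup_eq_iSup_pCore]
      refine iSup_le fun t => ?_
      rw [le_centralizer_iff, zpowers_le, mem_centralizer_iff]
      intro z hz
      have hz' : (z : N ⧸ K') ∈ Cfsg.pCore (t : ℕ) (N ⧸ K') ⊓ Rb := by
        rw [← H1.pCore_subgroup_map_eq]
        exact ⟨z, hz, rfl⟩
      exact Subtype.ext (mem_centralizer_iff.mp (key t t.2 hy) (z : N ⧸ K') hz')
    have hyC := H68.fitting_mem_pCore hyF (r := q) (k := k) (by rwa [Subgroup.orderOf_mk])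
    have : y ∈ Cfsg.pCore q (N ⧸ K') ⊓ Rb := by
      rw [← H1.pCore_subgroup_map_eq]
      exact ⟨_, hyC, rfl⟩
    rwa [hsec q Fact.out hq, mem_bot] at this
  rw [Subgroup.map_eq_bot_iff, QuotientGroup.ker_mk'] at hbot
  exact fun y hy => hbot (x := ⟨y, hYN hy⟩) hy

end H84

namespace H84

open Subgroup

variable {G : Type*} [Group G] [Finite G] {H M : Subgroup G}

/-- There is a unique maximal invariant `q`-subgroup, a Sylow subgroup of `O_{π'}(R)`. -/
theorem existsUnique_maxInv (hM : M ≤ Cfsg.fittingOf H)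
    (hCM : Cfsg.fittingOf H ⊓ centralizer (M : Set G) ≤ M)
    (hHmax : ∀ L : Subgroup G, Cfsg.IsLocalSubgroup L → H ≤ L → L = H)
    {R : Subgroup G} (hR : Group.IsSolvable R) (hMR : M ≤ normalizer (R : Set G))
    (hXR : H ⊓ centralizer (Cfsg.fittingOf H : Set G) ≤ normalizer (R : Set G))
    (hF2 : 2 ≤ (Nat.card (Cfsg.fittingOf H)).primeFactors.card)
    {q : ℕ} [Fact q.Prime] (hq : ¬ q ∣ Nat.card (Cfsg.fittingOf H)) :
    ∃ S : Subgroup G, ¬ q ∣ S.relIndex (Cfsg.piCoreOf (Cfsg.primesNotDvd (Nat.card (Cfsg.fittingOf H))) R) ∧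
      S ≤ Cfsg.piCoreOf (Cfsg.primesNotDvd (Nat.card (Cfsg.fittingOf H))) R ∧
      S ∈ Cfsg.maxInvSubgroups R M {q} ∧
      ∀ Q ∈ Cfsg.maxInvSubgroups R M {q}, Q = S := by
  set K := Cfsg.piCoreOf (Cfsg.primesNotDvd (Nat.card (Cfsg.fittingOf H))) R
  have hKR : K ≤ R := H80.piCoreOf_le _ _
  have hKn : normalizer (R : Set G) ≤ normalizer (K : Set G) := by
    have := H32.piCore_characteristic (Cfsg.primesNotDvd (Nat.card (Cfsg.fittingOf H))) R
    exact H75.normalizer_le_normalizer_map_characteristic R _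
  have hMK : M ≤ normalizer (K : Set G) := hMR.trans hKn
  have hcop : (Nat.card K).Coprime (Nat.card (Cfsg.fittingOf H)) :=
    H81.piGrp_primesNotDvd_iff.mp (H80.piCoreOf_piGrp _ _)
  have hcopM : (Nat.card M).Coprime (Nat.card K) :=
    (hcop.coprime_dvd_right (card_dvd_of_le hM)).symm
  have hMsol : Group.IsSolvable M := by
    have := H1.isNilpotent_mono (H81.fittingOf_nilpotent H) hM
    infer_instance
  obtain ⟨a, ha⟩ := Finset.card_pos.mp (lt_of_lt_of_le two_pos hF2)
  have := Fact.mk (Nat.prime_of_mem_primeFactors ha)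
  have hfix : K ⊓ centralizer (M : Set G) = ⊥ := le_bot_iff.mp
    ((inf_le_inf_left _ (centralizer_le (zPart_le_of_selfCentralizing hM hCM a))).trans
      (inf_centralizer_zPart_eq_bot hM hCM hHmax hR hXR (Nat.dvd_of_mem_primeFactors ha) hKR hMK
        hcop).le)
  obtain ⟨P, hP⟩ := H1.exists_invariant_sylow hMK hcopM (Or.inl hMsol) q
  set S := (P : Subgroup K).map K.subtype
  have hinv : S ∈ Cfsg.invSubgroups R M {q} := by
    refine ⟨(map_subtype_le _).trans hKR, fun t ht htd => ?_, hP⟩
    obtain ⟨k, hk⟩ := IsPGroup.iff_card.mp (P.isPGroup'.map K.subtype)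
    exact (Nat.prime_dvd_prime_iff_eq ht Fact.out).mp (ht.dvd_of_dvd_pow (hk ▸ htd))
  have hle : ∀ Y ∈ Cfsg.invSubgroups R M {q}, Y ≤ S := by
    rintro Y ⟨hYR, hYq, hMY⟩
    have hY : IsPGroup q Y := IsPGroup.of_card (Nat.eq_prime_pow_of_unique_prime_dvd
      Nat.card_pos.ne' fun {d} hd hdY => hYq d hd hdY)
    obtain ⟨P', hYP, hP'⟩ := H1.exists_invariant_sylow_ge hMK hcopM (Or.inl hMsol) q
      (inv_le_piCoreOf hM hCM hHmax hR hMR hXR hF2 hq hYR hY hMY) hY hMY
    obtain ⟨c, hc, hcP⟩ := H1.exists_fixed_conj_sylow hMK hcopM (Or.inl hMsol) q P' P hP' hP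
    have hc1 : c = 1 := Subtype.ext (by
      have h : (c : G) ∈ K ⊓ centralizer (M : Set G) := ⟨c.2, hc⟩
      rwa [hfix, mem_bot] at h)
    rw [hc1, map_one, one_smul] at hcP
    rw [show S = (P' : Subgroup K).map K.subtype by rw [hcP]]
    exact hYP
  refine ⟨S, fun hd => ?_, map_subtype_le _, ⟨hinv, fun T hT hST => le_antisymm (hle T hT) hST⟩,
    fun Q hQ => (hQ.2 S hinv (hle Q hQ.1)).symm⟩
  refine P.not_dvd_index (hd.trans ?_)
  have h1 : S.subgroupOf K = (P : Subgroup K) := comap_map_eq_self_of_injective K.subtype_injective _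
  rw [relIndex, h1]

end H84
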