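import Cfsg.Agent.S1465
import Cfsg.Agent.H84.BenderLocal
import Cfsg.Agent.H68.Bender
import Cfsg.Agent.H5.Frobenius

/-!
A maximal subgroup of a minimal simple group of odd order is determined by the centre of its
Fitting subgroup when that subgroup normalises no nontrivial subgroup of coprime order.
-/

set_option autoImplicit false

namespace H84

open Subgroup

universe u

/-- An abelian `r`-subgroup normalised by `O_r(A)` and centralising the other cores lies in
`O_r(A)`, for `A` solvable of odd order. -/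
theorem le_pCore_of_stable {A : Type u} [Group A] [Finite A] [Group.IsSolvable A]
    (hodd : Odd (Nat.card A)) {r : ℕ} [Fact r.Prime] (hr : r ≠ 2) (Z : Subgroup A)
    (hZc : IsMulCommutative Z) (hZp : IsPGroup r Z)
    (hZn : Cfsg.pCore r A ≤ normalizer (Z : Set A))
    (hZs : ∀ s : ℕ, s.Prime → s ≠ r → Z ≤ centralizer (Cfsg.pCore s A : Set A)) :
    Z ≤ Cfsg.pCore r A := by
  classical
  set P := Cfsg.pCore r A
  have hPn : P.Normal := H1.pCore_normal' r A
  set C := centralizer (P : Set A)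
  have hquad := (Cfsg.Agent.S1465.result hodd r hr P (H1.isPGroup_pCore r A) {Z}
    (by rintro B rfl; exact ⟨hZc, hZp, hZn⟩)).1
  rw [sSup_singleton] at hquad
  set D : Subgroup A := ⨅ (s : Nat.Primes) (_ : (s : ℕ) ≠ r), centralizer (Cfsg.pCore (s : ℕ) A : Set A)
  have hDn : D.Normal := normal_iInf_normal fun s => normal_iInf_normal fun _ => by
    have := H1.pCore_normal' (s : ℕ) A
    infer_instance
  have hDC : ∀ {x : A}, x ∈ D → ∀ s : ℕ, s.Prime → s ≠ r → x ∈ centralizer (Cfsg.pCore s A : Set A) :=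
    fun hx s hs hne => mem_iInf.mp (mem_iInf.mp hx ⟨s, hs⟩) hne
  set W := D ⊓ (Cfsg.pCore r (A ⧸ C)).comap (QuotientGroup.mk' C)
  have hWn : W.Normal := by
    have := (H1.pCore_normal' r (A ⧸ C)).comap (QuotientGroup.mk' C)
    infer_instance
  have hZW : Z ≤ W :=
    le_inf (fun z hz => mem_iInf.mpr fun s => mem_iInf.mpr fun hne => hZs s s.2 hne hz)
      (map_le_iff_le_comap.mp hquad)
  -- the `r'`-elements of `W` are central in it
  have hcent : ∀ w : W, ¬ r ∣ orderOf w → w ∈ center W := by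
    intro w hw
    rw [← Subgroup.orderOf_coe] at hw
    obtain ⟨hwD, hwC⟩ := w.2
    have hwC' : (w : A) ∈ C := by
      rw [← QuotientGroup.eq_one_iff, ← orderOf_eq_one_iff]
      obtain ⟨k, hk⟩ := orderOf_eq_pow_of_mem (H1.isPGroup_pCore r (A ⧸ C)) (mem_comap.mp hwC)
      have hd : orderOf (QuotientGroup.mk' C (w : A)) ∣ orderOf (w : A) := orderOf_map_dvd _ _
      rcases k with _ | k
      · simpa using hk
      · exact absurd ((hk ▸ dvd_pow_self r (Nat.succ_ne_zero k)).trans hd) hw
    have hwF : (w : A) ∈ Cfsg.fittingSubgroup A := by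
      refine H1.centralizer_fitting_le_of_isSolvable inferInstance ?_
      rw [← zpowers_le, le_centralizer_iff, H1.fittingSubgroup_eq_iSup_pCore]
      refine iSup_le fun s => ?_
      rw [le_centralizer_iff, zpowers_le]
      rcases eq_or_ne (s : ℕ) r with h | h
      · rw [h]; exact hwC'
      · exact hDC hwD s s.2 h
    rw [Subgroup.mem_center_iff]
    intro v
    refine Subtype.ext ?_
    have hle : zpowers (w : A) ≤ centralizer ({(v : A)} : Set A) := by
      refine le_of_forall_primePow fun t ht x hx k hk => mem_centralizer_singleton_iff.mpr ?_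
      have := Fact.mk ht
      have hxC : x ∈ Cfsg.pCore t A := H68.fitting_mem_pCore (zpowers_le.mpr hwF hx) hk
      rcases k with _ | k
      · rw [pow_zero] at hk; rw [orderOf_eq_one_iff.mp hk, one_mul, mul_one]
      refine mem_centralizer_iff.mp (hDC v.2.1 t ht fun h => hw ?_) x hxC
      rw [← h]
      exact (hk ▸ dvd_pow_self t (Nat.succ_ne_zero k) : t ∣ orderOf x).trans (orderOf_dvd_of_mem_zpowers hx)
    exact (mem_centralizer_singleton_iff.mp (hle (mem_zpowers (w : A)))).symm
  have hWnil : Group.IsNilpotent W := by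
    refine Group.of_quotient_center_nilpotent (IsPGroup.isNilpotent (p := r) ?_)
    refine IsPGroup.of_card (n := (Nat.card (W ⧸ center W)).primeFactorsList.length)
      (Nat.eq_prime_pow_of_unique_prime_dvd Nat.card_pos.ne' fun {t} ht htd => by_contra fun hne => ?_)
    have := Fact.mk ht
    obtain ⟨y, hy⟩ := exists_prime_orderOf_dvd_card' (G := W ⧸ center W) t htd
    obtain ⟨x, rfl⟩ := QuotientGroup.mk_surjective y
    obtain ⟨a, b, hab, ⟨k, hk⟩, hb, -, -⟩ := H5.exists_p_decomposition (p := r) x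
    have hbc : b ∈ center W := hcent b fun hd =>
      (Fact.out : r.Prime).not_dvd_one (hb ▸ Nat.dvd_gcd hd dvd_rfl)
    rw [hab, QuotientGroup.mk_mul, (QuotientGroup.eq_one_iff b).mpr hbc, mul_one] at hy
    have : t ∣ orderOf a := hy ▸ orderOf_map_dvd (QuotientGroup.mk' (center W)) a
    exact hne ((Nat.prime_dvd_prime_iff_eq ht Fact.out).mp
      (ht.dvd_of_dvd_pow (this.trans (orderOf_dvd_of_pow_eq_one hk))))
  intro z hz
  obtain ⟨k, hk⟩ := IsPGroup.iff_orderOf.mp hZp ⟨z, hz⟩
  rw [Subgroup.orderOf_mk] at hk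
  exact H68.fitting_mem_pCore (H1.le_fittingSubgroup hWnil (hZW hz)) hk

variable {G : Type u} [Group G] [Finite G] (hG : Cfsg.IsMinSimpleOddOrder G) {H L : Subgroup G}

include hG in
theorem centralizer_zPart_le_of_isCoatom (hH : IsCoatom H) {r : ℕ} [Fact r.Prime]
    (h : Cfsg.pCoreOf r H ≠ ⊥) : centralizer (zPart r H : Set G) ≤ H :=
  (centralizer_le_normalizer _).trans
    (H82.normalizer_eq_max hG hH (zPart_le r H) (zPart_ne_bot h) (le_normalizer_zPart r H)).le

include hG in
theorem coatom_eq_of_zPart_le (hH : IsCoatom H) (hL : IsCoatom L)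
    (htwo : ∀ r : ℕ, r.Prime → ∃ s : ℕ, s.Prime ∧ s ≠ r ∧ Cfsg.pCoreOf s H ≠ ⊥)
    (hle : ∀ r : ℕ, r.Prime → zPart r H ≤ L)
    (hsub : ∀ r : ℕ, r.Prime → Cfsg.pCoreOf r L ≠ ⊥ → Cfsg.pCoreOf r H ≠ ⊥) : L = H := by
  have hZcent : ∀ r s : ℕ, r.Prime → s.Prime → r ≠ s →
      zPart r H ≤ centralizer (Cfsg.pCoreOf s L : Set G) := by
    intro r s hr hs hne
    have := Fact.mk hr
    have := Fact.mk hs
    by_cases hb : Cfsg.pCoreOf s L = ⊥
    · rw [hb]
      exact fun x _ => mem_centralizer_iff.mpr fun z hz => by rw [mem_bot.mp hz, mul_one, one_mul]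
    exact zPart_le_centralizer hne (centralizer_zPart_le_of_isCoatom hG hH (hsub s hs hb))
      (H75.isPGroup_pCoreOf L) ((hle r hr).trans (H75.le_normalizer_pCoreOf L))
      ((hle s hs).trans (H75.le_normalizer_pCoreOf L))
  have hcoreL : ∀ r : ℕ, r.Prime → Cfsg.pCoreOf r L ≤ H := by
    intro r hr
    have := Fact.mk hr
    obtain ⟨s, hs, hne, hsb⟩ := htwo r hr
    have := Fact.mk hs
    exact (le_centralizer_iff.mp (hZcent s r hs hr hne)).trans
      (centralizer_zPart_le_of_isCoatom hG hH hsb)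
  have hZcore : ∀ r : ℕ, r.Prime → zPart r H ≤ Cfsg.pCoreOf r L := by
    intro r hr
    have := Fact.mk hr
    by_cases hb : Cfsg.pCoreOf r H = ⊥
    · exact inf_le_left.trans (hb ▸ bot_le)
    have hr2 : r ≠ 2 := by
      rintro rfl
      refine Nat.not_even_iff_odd.mpr hG.1 (even_iff_two_dvd.mpr ?_)
      obtain ⟨k, hk⟩ := IsPGroup.iff_card.mp (H75.isPGroup_pCoreOf (p := 2) H)
      rcases k with _ | k
      · exact absurd (card_eq_one.mp (hk.trans (pow_zero 2))) hb
      · exact (hk ▸ dvd_pow_self 2 (Nat.succ_ne_zero k)).trans (card_subgroup_dvd_card _)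
    have := H80.ms_coatom_solvable hG hL
    have hcast : ∀ (t : ℕ), (Cfsg.pCore t L).map L.subtype = Cfsg.pCoreOf t L := fun _ => rfl
    have h := le_pCore_of_stable (A := L) (hG.1.of_dvd_nat (card_subgroup_dvd_card L)) hr2
      ((zPart r H).subgroupOf L) ?_ ((isPGroup_zPart r H).comap_subtype) ?_ fun s hs hne => ?_
    · calc zPart r H = ((zPart r H).subgroupOf L).map L.subtype :=
            (map_subgroupOf_eq_of_le (hle r hr)).symm
        _ ≤ _ := map_mono h
    · have := isMulCommutative_zPart r H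
      exact ⟨⟨fun a b => Subtype.ext (Subtype.ext
        (mem_centralizer_iff.mp b.2.2 (a : L) a.2.1))⟩⟩
    · intro x hx
      rw [mem_normalizer_iff]
      intro y
      exact mem_normalizer_iff.mp (le_normalizer_zPart r H (hcoreL r hr ⟨x, hx, rfl⟩)) (y : G)
    · intro x hx
      exact mem_centralizer_iff.mpr fun y hy => Subtype.ext
        (mem_centralizer_iff.mp (hZcent r s hr hs hne.symm hx) (y : G) ⟨y, hy, rfl⟩)
  have hπ : ∀ r : ℕ, r.Prime → (Cfsg.pCoreOf r L ≠ ⊥ ↔ Cfsg.pCoreOf r H ≠ ⊥) := fun r hr =>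
    ⟨hsub r hr, fun h => by
      have := Fact.mk hr
      exact ne_bot_of_le_ne_bot (zPart_ne_bot h) (hZcore r hr)⟩
  have hcoreH : ∀ r : ℕ, r.Prime → Cfsg.pCoreOf r H ≤ L := by
    intro r hr
    have := Fact.mk hr
    by_cases hrb : Cfsg.pCoreOf r H = ⊥
    · exact hrb ▸ bot_le
    obtain ⟨s, hs, hne, hsb⟩ := htwo r hr
    have := Fact.mk hs
    have hn : ∀ t : ℕ, t.Prime → zPart t L ≤ normalizer (Cfsg.pCoreOf r H : Set G) := fun t ht =>
      inf_le_left.trans ((hcoreL t ht).trans (H75.le_normalizer_pCoreOf H))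
    exact (le_centralizer_iff.mp (zPart_le_centralizer hne
      (centralizer_zPart_le_of_isCoatom hG hL ((hπ r hr).mpr hrb)) (H75.isPGroup_pCoreOf H)
      (hn s hs) (hn r hr))).trans (centralizer_zPart_le_of_isCoatom hG hL ((hπ s hs).mpr hsb))
  refine H81.eq_of_fitting_commute hG hL hH hπ (fun r hr => ?_) fun r s hr hs hne => ?_
  · obtain ⟨s, hs, hsr, hsb⟩ := htwo r hr
    exact ⟨s, hs, hsr, (hπ s hs).mpr hsb⟩
  · have := Fact.mk hr
    have := Fact.mk hs
    exact le_centralizer_of_mutual ((hcoreL r hr).trans (H75.le_normalizer_pCoreOf H))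
      ((hcoreH s hs).trans (H75.le_normalizer_pCoreOf L))
      (H81.coprime_of_isPGroup_ne hne (H75.isPGroup_pCoreOf L) (H75.isPGroup_pCoreOf H))

end H84
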