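import Cfsg.Agent.H84.CN
import Cfsg.Agent.H84.NoncyclicFixed
import Cfsg.Agent.H2.FPFSubgroup
import Cfsg.Agent.H2.FPFSylow
import Cfsg.Agent.H2.UniqueSubgroup
import Cfsg.Agent.H2.FrobeniusBasic

/-!
CN-groups with a normal Sylow subgroup are Frobenius groups; subgroups acting fixed-point-freely in
CN-groups.
-/

set_option autoImplicit false

namespace H84

open Subgroup

universe u

variable {G : Type u} [Group G] [Finite G]

/-- A CN-group with a nontrivial central element is nilpotent. -/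
theorem isNilpotent_of_central (hCN : Cfsg.IsCNGroup G) {E : Subgroup G} {z : G} (hz : z ≠ 1)
    (hc : ∀ x ∈ E, x * z = z * x) : Group.IsNilpotent E :=
  H1.isNilpotent_mono (hCN z hz) fun x hx => mem_centralizer_singleton_iff.mpr (hc x hx)

theorem mem_zpowers_of_prime_card {p : ℕ} [Fact p.Prime] {R : Subgroup G} (hR : Nat.card R = p) {w : G}
    (hw : w ∈ R) (hw1 : w ≠ 1) : zpowers w = R := by
  refine Subgroup.eq_of_le_of_card_ge (zpowers_le.mpr hw) ?_
  have h : orderOf w ∣ p := hR ▸ by simpa [Subgroup.orderOf_mk] using _root_.orderOf_dvd_natCard (⟨w, hw⟩ : R)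
  rcases (Nat.dvd_prime Fact.out).mp h with h | h
  · exact absurd (orderOf_eq_one_iff.mp h) hw1
  · rw [hR, Nat.card_zpowers, h]

theorem orderOf_mem_eq_of_prime_card {p : ℕ} [Fact p.Prime] {R : Subgroup G} (hR : Nat.card R = p) {w : G}
    (hw : w ∈ R) (hw1 : w ≠ 1) : orderOf w = p := by
  rw [← hR, ← mem_zpowers_of_prime_card hR hw hw1, Nat.card_zpowers]

/-- A subgroup of prime order normalised by a group of order coprime to `p - 1` is centralised. -/
theorem centralizes_of_coprime_sub_one {p : ℕ} [Fact p.Prime] {E R : Subgroup G} (hR : Nat.card R = p)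
    (hn : E ≤ normalizer (R : Set G)) (hcop : (Nat.card E).Coprime (p - 1)) :
    E ≤ centralizer (R : Set G) := by
  intro e he
  let φ := R.normalizerMonoidHom.comp (Subgroup.inclusion hn)
  have : IsCyclic R := isCyclic_of_prime_card hR
  have hcard : Nat.card (MulAut R) = p - 1 := by
    rw [IsCyclic.card_mulAut, hR, Nat.totient_prime Fact.out]
  have h1 : φ ⟨e, he⟩ = 1 := by
    rw [← orderOf_eq_one_iff]
    refine Nat.eq_one_of_dvd_coprimes hcop ?_ (hcard ▸ _root_.orderOf_dvd_natCard _)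
    exact (orderOf_map_dvd φ _).trans (_root_.orderOf_dvd_natCard _)
  have h2 : Subgroup.inclusion hn ⟨e, he⟩ ∈ R.normalizerMonoidHom.ker := h1
  rw [Subgroup.normalizerMonoidHom_ker] at h2
  exact h2

variable {E V : Subgroup G} [IsMulCommutative V]

/-- Fixed-point-free action on an abelian subgroup: unique subgroups of prime order in `p`-subgroups. -/
theorem fpf_unique_prime (hEV : E ≤ normalizer (V : Set G)) (hV : V ≠ ⊥)
    (hfpf : ∀ e ∈ E, e ≠ 1 → V ⊓ centralizer {e} = ⊥) {p : ℕ} [Fact p.Prime] (S : Subgroup E)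
    (hS : IsPGroup p S) : ∀ A B : Subgroup S, Nat.card A = p → Nat.card B = p → A = B := by
  intro A B hA hB
  set PG : Subgroup G := S.map E.subtype
  have hle : PG ≤ E := map_subtype_le _
  letI := H2.commGroupOfComm V
  letI := H2.conjActionOfLe PG V (hle.trans hEV)
  have : Nontrivial V := V.nontrivial_iff_ne_bot.2 hV
  let e : S ≃* PG := S.equivMapOfInjective _ E.subtype_injective
  exact Subgroup.map_injective e.injective
    (H2.unique_subgroup_card_prime
      (H2.fpf_conjAction PG V (hle.trans hEV) fun a ha => hfpf a (hle ha)) (hS.map E.subtype)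
      (A.map e.toMonoidHom) (B.map e.toMonoidHom)
      (by rw [← Nat.card_congr (A.equivMapOfInjective _ e.injective).toEquiv, hA])
      (by rw [← Nat.card_congr (B.equivMapOfInjective _ e.injective).toEquiv, hB]))

theorem fpf_sylow_cyclic (hEV : E ≤ normalizer (V : Set G)) (hV : V ≠ ⊥)
    (hfpf : ∀ e ∈ E, e ≠ 1 → V ⊓ centralizer {e} = ⊥) {p : ℕ} [Fact p.Prime] (hp : p ≠ 2)
    (S : Subgroup E) (hS : IsPGroup p S) : IsCyclic S :=
  (H2.cyclic_or_quaternion_of_unique hS (fpf_unique_prime hEV hV hfpf S hS)).resolve_right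
    fun h => hp h.1

/-- An involution acting fixed-point-freely inverts. -/
theorem fpf_involution_inverts (hEV : E ≤ normalizer (V : Set G))
    (hfpf : ∀ e ∈ E, e ≠ 1 → V ⊓ centralizer {e} = ⊥) {t : G} (ht : t ∈ E) (ht2 : orderOf t = 2)
    {v : G} (hv : v ∈ V) : t * v * t⁻¹ = v⁻¹ := by
  have ht1 : t ≠ 1 := fun h => by rw [h, orderOf_one] at ht2; omega
  have hw : t * v * t⁻¹ ∈ V := (mem_normalizer_iff.mp (hEV ht) v).mp hv
  have hcomm : v * (t * v * t⁻¹) = t * v * t⁻¹ * v :=
    congrArg Subtype.val (IsMulCommutative.is_comm.comm (⟨v, hv⟩ : V) ⟨_, hw⟩)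
  have htt : t * t = 1 := by rw [← sq, ← ht2, pow_orderOf_eq_one]
  have hfix : v * (t * v * t⁻¹) ∈ V ⊓ centralizer {t} := by
    refine ⟨mul_mem hv hw, mem_centralizer_singleton_iff.mpr ?_⟩
    have hinv : t⁻¹ = t := inv_eq_of_mul_eq_one_right htt
    calc v * (t * v * t⁻¹) * t = t * v * t⁻¹ * v * t := by rw [hcomm]
      _ = t * (v * (t * v * t⁻¹)) := by rw [hinv]; group
  rw [hfpf t ht ht1, mem_bot] at hfix
  exact (inv_eq_of_mul_eq_one_right hfix).symm

/-- A subgroup of a CN-group acting fixed-point-freely on a nontrivial abelian subgroup is nilpotent. -/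
theorem fpf_isNilpotent (hCN : Cfsg.IsCNGroup G) (hEV : E ≤ normalizer (V : Set G)) (hV : V ≠ ⊥)
    (hfpf : ∀ e ∈ E, e ≠ 1 → V ⊓ centralizer {e} = ⊥) : Group.IsNilpotent E := by
  rcases eq_or_ne E ⊥ with rfl | hE
  · infer_instance
  have : Nontrivial E := E.nontrivial_iff_ne_bot.2 hE
  suffices h : ∃ z : G, z ≠ 1 ∧ ∀ x ∈ E, x * z = z * x from
    isNilpotent_of_central hCN h.choose_spec.1 h.choose_spec.2
  by_cases h2 : 2 ∣ Nat.card E
  · obtain ⟨⟨t, ht⟩, ht2⟩ := exists_prime_orderOf_dvd_card' (G := E) 2 h2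
    rw [Subgroup.orderOf_mk] at ht2
    refine ⟨t, fun h => by rw [h, orderOf_one] at ht2; omega, fun x hx => ?_⟩
    have hs : x * t * x⁻¹ ∈ E := mul_mem (mul_mem hx ht) (inv_mem hx)
    have hs2 : orderOf (x * t * x⁻¹) = 2 := by
      rw [← ht2]; exact orderOf_injective (MulAut.conj x).toMonoidHom (MulAut.conj x).injective t
    by_contra hne
    have hne' : (x * t * x⁻¹)⁻¹ * t ≠ 1 := fun h => hne (by
      rw [inv_mul_eq_one] at h
      exact mul_inv_eq_iff_eq_mul.mp h)
    obtain ⟨v, hv, hv1⟩ := (Subgroup.bot_or_exists_ne_one V).resolve_left hV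
    refine hv1 ?_
    have hmem : v ∈ V ⊓ centralizer {(x * t * x⁻¹)⁻¹ * t} := by
      refine ⟨hv, mem_centralizer_singleton_iff.mpr ?_⟩
      have e1 := fpf_involution_inverts hEV hfpf ht ht2 hv
      have e2 := fpf_involution_inverts hEV hfpf hs hs2 hv
      set s := x * t * x⁻¹
      have e3 : t * v = v⁻¹ * t := mul_inv_eq_iff_eq_mul.mp e1
      have e4 : s⁻¹ * v⁻¹ = v * s⁻¹ := by rw [← e2]; group
      rw [mul_assoc s⁻¹ t v, e3, ← mul_assoc s⁻¹, e4, mul_assoc]
    rwa [hfpf _ (mul_mem (inv_mem hs) ht) hne', mem_bot] at hmem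
  · have hodd : ∀ p : ℕ, p.Prime → p ∣ Nat.card E → p ≠ 2 := fun p _ hd h => h2 (h ▸ hd)
    have hZ : IsZGroup E := ⟨fun p hp S => by
      have := Fact.mk hp
      rcases eq_or_ne p 2 with rfl | hp2
      · have hbot : (S : Subgroup E) = ⊥ := by
          by_contra hb
          apply h2
          obtain ⟨n, hn⟩ := IsPGroup.iff_card.mp S.isPGroup'
          rcases n with _ | n
          · exact absurd (Subgroup.card_eq_one.mp (by simpa using hn)) hb
          · exact (hn ▸ dvd_pow_self 2 (Nat.succ_ne_zero n) : 2 ∣ Nat.card S).trans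
              (Subgroup.card_subgroup_dvd_card _)
        have : Subsingleton (S : Subgroup E) :=
          hbot ▸ ⟨fun a b => Subtype.ext ((mem_bot.mp a.2).trans (mem_bot.mp b.2).symm)⟩
        exact isCyclic_of_subsingleton
      · exact fpf_sylow_cyclic hEV hV hfpf hp2 S S.isPGroup'⟩
    have : IsMulCommutative V := inferInstance
    -- a normal subgroup of prime order
    obtain ⟨r, N, hr, hNn, hN0, hNr⟩ := H1.exists_normal_pgroup_ne_bot E
    have := Fact.mk hr
    have : IsCyclic N := hNr.isCyclic_of_isZGroup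
    have : Nontrivial N := N.nontrivial_iff_ne_bot.2 hN0
    obtain ⟨⟨z, hzN⟩, hz⟩ := exists_prime_orderOf_dvd_card' (G := N) r
      ((hNr.card_eq_or_dvd).resolve_left Finite.one_lt_card.ne')
    rw [Subgroup.orderOf_mk] at hz
    set R : Subgroup G := zpowers (z : G)
    have hR : Nat.card R = r := by rw [Nat.card_zpowers, Subgroup.orderOf_coe, hz]
    have hER : E ≤ normalizer (R : Set G) := by
      refine le_normalizer_of_conj fun a ha b hb => ?_
      obtain ⟨k, rfl⟩ := mem_zpowers_iff.mp hb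
      rw [← conj_zpow]
      refine zpow_mem ?_ k
      have hcN : (⟨a, ha⟩ * z * ⟨a, ha⟩⁻¹ : E) ∈ N := hNn.conj_mem z hzN ⟨a, ha⟩
      obtain ⟨g, hg⟩ := IsCyclic.exists_generator (α := N)
      let := IsCyclic.commGroup (α := N)
      have hroot : ∀ y : E, y ∈ N → y ^ r = 1 → y ∈ zpowers z := by
        intro y hy hyr
        have hS : zpowers (⟨z, hzN⟩ : N) = (powMonoidHom r : N →* N).ker := by
          refine Subgroup.eq_of_le_of_card_ge (zpowers_le.mpr ?_) ?_
          · rw [MonoidHom.mem_ker, powMonoidHom_apply]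
            exact Subtype.ext (by rw [SubgroupClass.coe_pow, ← hz, pow_orderOf_eq_one, coe_one])
          · rw [IsCyclic.card_powMonoidHom_ker, Nat.card_zpowers, Subgroup.orderOf_mk, hz]
            exact Nat.le_of_dvd hr.pos (Nat.gcd_dvd_right _ _)
        obtain ⟨k, hk⟩ := mem_zpowers_iff.mp (hS ▸ (show (⟨y, hy⟩ : N) ∈ (powMonoidHom r : N →* N).ker from
          Subtype.ext hyr))
        exact mem_zpowers_iff.mpr ⟨k, by simpa using congrArg Subtype.val hk⟩
      obtain ⟨k, hk⟩ := mem_zpowers_iff.mp (hroot _ hcN (by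
        rw [conj_pow, ← hz, pow_orderOf_eq_one, mul_one, mul_inv_cancel]))
      exact mem_zpowers_iff.mpr ⟨k, by simpa using congrArg Subtype.val hk⟩
    have hz1 : (z : G) ≠ 1 := fun h => by
      rw [← Subgroup.orderOf_coe, h, orderOf_one] at hz; exact hr.ne_one hz.symm
    -- the smallest prime
    have hE1 : Nat.card E ≠ 1 := Finite.one_lt_card.ne'
    set q := (Nat.card E).minFac
    have hq : q.Prime := Nat.minFac_prime hE1
    have := Fact.mk hq
    have hcomm : ∀ y ∈ E, orderOf y = q → y * z = z * y := by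
      intro y hy hyq
      set Y := zpowers y
      have hY : Nat.card Y = q := by rw [Nat.card_zpowers, hyq]
      have hYR : Y ≤ normalizer (R : Set G) := zpowers_le.mpr (hER hy)
      rcases eq_or_ne q r with hqr | hqr
      · have h := centralizes_of_coprime_sub_one hR hYR (by
          rw [hY, hqr]
          exact (hr.coprime_iff_not_dvd).mpr fun h =>
            absurd (Nat.le_of_dvd (Nat.sub_pos_of_lt hr.one_lt) h) (by have := hr.one_lt; omega))
        exact (h (mem_zpowers y) z (mem_zpowers _)).symm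
      · have hFE : Y ⊔ R ≤ E := sup_le (zpowers_le.mpr hy) (zpowers_le.mpr z.2)
        have hF : Nat.card (Y ⊔ R : Subgroup G) = q * r := by
          refine le_antisymm (hY ▸ hR ▸ card_sup_le_mul hYR) (Nat.le_of_dvd Nat.card_pos
            (((Nat.coprime_primes hq hr).mpr hqr).mul_dvd_of_dvd_of_dvd
              (hY ▸ Subgroup.card_dvd_of_le le_sup_left) (hR ▸ Subgroup.card_dvd_of_le le_sup_right)))
        have hc : IsCyclic (Y ⊔ R : Subgroup G) :=
          H2.isCyclic_of_fpf_subgroup _ V (hFE.trans hEV) hV (fun a ha => hfpf a (hFE ha))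
            (Or.inr ⟨q, r, hq, hr, hF⟩)
        let := hc.commGroup
        exact congrArg Subtype.val (mul_comm
          (⟨y, Subgroup.mem_sup_left (mem_zpowers y)⟩ : (Y ⊔ R : Subgroup G))
          ⟨z, Subgroup.mem_sup_right (mem_zpowers _)⟩)
    obtain ⟨⟨y, hy⟩, hyq⟩ := exists_prime_orderOf_dvd_card' (G := E) q (Nat.minFac_dvd _)
    rw [Subgroup.orderOf_mk] at hyq
    have hy1 : y ≠ 1 := fun h => by rw [h, orderOf_one] at hyq; exact hq.ne_one hyq.symm
    set K := E ⊓ centralizer ({(z : G)} : Set G)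
    have hK : Group.IsNilpotent K := H1.isNilpotent_mono (hCN _ hz1) inf_le_right
    have hEY : E ≤ normalizer (zpowers y : Set G) := by
      refine le_normalizer_of_conj fun a ha b hb => ?_
      obtain ⟨k, rfl⟩ := mem_zpowers_iff.mp hb
      rw [← conj_zpow]
      refine zpow_mem ?_ k
      have haE : a * y * a⁻¹ ∈ E := mul_mem (mul_mem ha hy) (inv_mem ha)
      have haq : orderOf (a * y * a⁻¹) = q := by
        rw [← hyq]; exact orderOf_injective (MulAut.conj a).toMonoidHom (MulAut.conj a).injective y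
      -- both lie in the normal Sylow subgroup of `K`
      obtain ⟨S⟩ : Nonempty (Sylow q K) := inferInstance
      have hn : (S : Subgroup K).Normal := by
        have h := (Group.isNilpotent_of_finite_tfae (G := K)).out 0 3
        exact h.mp hK q inferInstance S
      have := Sylow.unique_of_normal S hn
      have hmem : ∀ w : K, orderOf w = q → w ∈ (S : Subgroup K) := fun w hw => by
        obtain ⟨Q, hQ⟩ := (IsPGroup.of_card (n := 1) (by rw [Nat.card_zpowers, hw, pow_one]) :
          IsPGroup q (zpowers w)).exists_le_sylow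
        exact Subsingleton.elim Q S ▸ hQ (mem_zpowers w)
      have hyK : y ∈ K := ⟨hy, mem_centralizer_singleton_iff.mpr (hcomm y hy hyq)⟩
      have haK : a * y * a⁻¹ ∈ K := ⟨haE, mem_centralizer_singleton_iff.mpr (hcomm _ haE haq)⟩
      set PE : Subgroup E := ((S : Subgroup K).map (Subgroup.inclusion (inf_le_left : K ≤ E)))
      have hPEp : IsPGroup q PE := S.isPGroup'.map _
      have huniq := fpf_unique_prime hEV hV hfpf PE hPEp
      have h := H2.eq_of_pow_eq_one_of_unique huniq
        (x := ⟨⟨y, hy⟩, ⟨y, hyK⟩, hmem _ (by rw [Subgroup.orderOf_mk, hyq]), rfl⟩)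
        (y := ⟨⟨a * y * a⁻¹, haE⟩, ⟨_, haK⟩, hmem _ (by rw [Subgroup.orderOf_mk, haq]), rfl⟩)
        (Subtype.ext (Subtype.ext (by simp [← hyq, pow_orderOf_eq_one])))
        (fun h => hy1 (congrArg (fun w : PE => ((w : E) : G)) h))
        (Subtype.ext (Subtype.ext (by simp [← hyq, conj_pow, pow_orderOf_eq_one])))
      obtain ⟨m, hm⟩ := mem_zpowers_iff.mp h
      exact mem_zpowers_iff.mpr ⟨m, by simpa using congrArg (fun w : PE => ((w : E) : G)) hm⟩
    refine ⟨y, hy1, fun x hx => (centralizes_of_coprime_sub_one (by rw [Nat.card_zpowers, hyq]) hEY ?_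
      hx y (mem_zpowers y)).symm⟩
    refine Nat.coprime_of_dvd fun k hk hkE hkq => ?_
    have h1 : q ≤ k := Nat.minFac_le_of_dvd hk.two_le hkE
    have h2 : k ≤ q - 1 := Nat.le_of_dvd (Nat.sub_pos_of_lt hq.one_lt) hkq
    have := hq.one_lt
    omega

/-- The structure of a nilpotent group acting fixed-point-freely. -/
theorem fpf_nilpotent_structure (hEV : E ≤ normalizer (V : Set G)) (hV : V ≠ ⊥)
    (hfpf : ∀ e ∈ E, e ≠ 1 → V ⊓ centralizer {e} = ⊥) (hE : Group.IsNilpotent E) :
    IsCyclic E ∨ ∃ C Q : Subgroup G, C ⊔ Q = E ∧ (∀ a ∈ C, ∀ b ∈ Q, a * b = b * a) ∧ IsCyclic C ∧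
      Odd (Nat.card C) ∧ ∃ n : ℕ, Nonempty (↥Q ≃* QuaternionGroup (2 ^ n)) := by
  obtain ⟨S⟩ : Nonempty (Sylow 2 E) := inferInstance
  rcases H2.cyclic_or_quaternion_of_unique S.isPGroup'
      (fpf_unique_prime hEV hV hfpf S S.isPGroup') with hc | ⟨-, n, ⟨e⟩⟩
  · left
    have : IsZGroup E := ⟨fun p hp T => by
      have := Fact.mk hp
      rcases eq_or_ne p 2 with rfl | hp2
      · obtain ⟨g, hg⟩ := MulAction.exists_smul_eq E S T
        have := hc
        rw [← hg]
        exact (S.equivSMul g).isCyclic.mp inferInstance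
      · exact fpf_sylow_cyclic hEV hV hfpf hp2 T T.isPGroup'⟩
    infer_instance
  · right
    obtain ⟨a, m, hm, hEc⟩ := Nat.exists_eq_pow_mul_and_not_dvd (n := Nat.card E) Nat.card_pos.ne' 2 (by omega)
    have hcop : m.Coprime (2 ^ a) :=
      (Nat.Coprime.pow_left a ((Nat.prime_two.coprime_iff_not_dvd).mpr hm)).symm
    obtain ⟨C₀, hC₀⟩ := H1.hall_exists m (2 ^ a) (by rw [hEc, mul_comm]) hcop
    have hSc : Nat.card (S : Subgroup E) = 2 ^ a := by
      rw [Sylow.card_eq_multiplicity, hEc, Nat.factorization_mul (by positivity)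
        (by rintro rfl; simp at hm), Finsupp.add_apply, Nat.prime_two.factorization_pow,
        Finsupp.single_eq_same, Nat.factorization_eq_zero_of_not_dvd hm, add_zero]
    refine ⟨C₀.map E.subtype, (S : Subgroup E).map E.subtype, ?_, ?_, ?_, ?_, n, ⟨?_⟩⟩
    · rw [← Subgroup.map_sup]
      have : C₀ ⊔ (S : Subgroup E) = ⊤ := by
        refine Subgroup.eq_top_of_le_card _ (Nat.le_of_dvd Nat.card_pos ?_)
        rw [hEc, mul_comm]
        exact hcop.mul_dvd_of_dvd_of_dvd (hC₀ ▸ Subgroup.card_dvd_of_le le_sup_left)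
          (hSc ▸ Subgroup.card_dvd_of_le le_sup_right)
      rw [this, ← MonoidHom.range_eq_map, range_subtype]
    · rintro _ ⟨x, hx, rfl⟩ _ ⟨y, hy, rfl⟩
      rw [← map_mul, ← map_mul]
      congr 1
      refine (H81.commute_of_coprime_orderOf hE ?_).eq
      refine Nat.Coprime.coprime_dvd_left ?_ (hcop.coprime_dvd_right ?_)
      · rw [← hC₀]; simpa [Subgroup.orderOf_mk] using _root_.orderOf_dvd_natCard (⟨x, hx⟩ : C₀)
      · rw [← hSc]; simpa [Subgroup.orderOf_mk] using _root_.orderOf_dvd_natCard (⟨y, hy⟩ : (S : Subgroup E))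
    · have hcyc : IsCyclic C₀ := by
        have : IsZGroup C₀ := ⟨fun p hp T => by
          have := Fact.mk hp
          rcases eq_or_ne p 2 with rfl | hp2
          · have h1 : Nat.card T = 1 := by
              rw [Sylow.card_eq_multiplicity, Nat.factorization_eq_zero_of_not_dvd (hC₀ ▸ hm), pow_zero]
            have : Subsingleton T := (Nat.card_eq_one_iff_unique.mp h1).1
            exact isCyclic_of_subsingleton
          · exact ((Subgroup.equivMapOfInjective (T : Subgroup C₀) C₀.subtype C₀.subtype_injective).isCyclic).mpr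
              (fpf_sylow_cyclic hEV hV hfpf hp2 _ (T.isPGroup'.map _))⟩
        have := hE
        infer_instance
      exact (C₀.equivMapOfInjective _ E.subtype_injective).isCyclic.mp hcyc
    · rw [← Nat.card_congr (C₀.equivMapOfInjective _ E.subtype_injective).toEquiv, hC₀]
      exact Nat.not_even_iff_odd.mp fun h => hm (even_iff_two_dvd.mp h)
    · exact ((S : Subgroup E).equivMapOfInjective _ E.subtype_injective).symm.trans e

omit [IsMulCommutative V] in
/-- The conclusion for a CN-group with a nontrivial normal Sylow subgroup. -/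
theorem cn_frobenius (hCN : Cfsg.IsCNGroup G) (hnn : ¬ Group.IsNilpotent G) {p : ℕ} [Fact p.Prime]
    (P : Sylow p G) (hP1 : (P : Subgroup G) ≠ ⊥) (hPn : (P : Subgroup G).Normal) :
    Cfsg.fittingHall G ≠ ⊥ ∧ Cfsg.fittingHall G ≠ ⊤ ∧
      ∃ E : Subgroup G, IsComplement' (Cfsg.fittingHall G) E ∧ Cfsg.IsFrobeniusComplement E ∧
        (∀ e ∈ E, e ≠ 1 → Cfsg.fittingHall G ⊓ centralizer ({e} : Set G) = ⊥) ∧ Group.IsNilpotent E ∧
        (IsCyclic E ∨ ∃ C Q : Subgroup G, C ⊔ Q = E ∧ (∀ a ∈ C, ∀ b ∈ Q, a * b = b * a) ∧ IsCyclic C ∧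
          Odd (Nat.card C) ∧ ∃ n : ℕ, Nonempty (↥Q ≃* QuaternionGroup (2 ^ n))) := by
  set H := Cfsg.fittingHall G
  obtain ⟨hHnil, hHcop⟩ := H81.fittingHall_spec G
  have hSylH : ∀ (q : ℕ) [Fact q.Prime] (Q : Sylow q G), (Q : Subgroup G).Normal → (Q : Subgroup G) ≤ H := by
    intro q _ Q hQn
    exact H81.le_fittingHall Q.isPGroup'.isNilpotent Q.card_coprime_index
  have hH0 : H ≠ ⊥ := fun h => hP1 (le_bot_iff.mp (h ▸ hSylH p P hPn))
  have hH1 : H ≠ ⊤ := fun h => hnn <| by
    have : Group.IsNilpotent (⊤ : Subgroup G) := h ▸ hHnil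
    exact Group.nilpotent_of_mulEquiv Subgroup.topEquiv
  obtain ⟨E, hE⟩ := Subgroup.exists_right_complement'_of_coprime (N := H) hHcop
  have hEcard : Nat.card E = H.index := hE.symm.index_eq_card.symm
  have hfpfp : ∀ e ∈ E, ∀ q : ℕ, q.Prime → orderOf e = q → H ⊓ centralizer ({e} : Set G) = ⊥ := by
    intro e he q hq heq
    have := Fact.mk hq
    by_contra hne
    obtain ⟨z, ⟨hzH, hze⟩, hz1⟩ := (Subgroup.bot_or_exists_ne_one _).resolve_left hne
    have hqH : ¬ q ∣ Nat.card H := fun hd => by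
      have hqE : q ∣ H.index := by
        rw [← hEcard, ← heq]
        simpa [Subgroup.orderOf_mk] using _root_.orderOf_dvd_natCard (⟨e, he⟩ : E)
      exact hq.not_dvd_one (hHcop ▸ Nat.dvd_gcd hd hqE)
    have hHe := cn_centralizes_nilpotent hCN hHnil hzH hz1 (mem_centralizer_singleton_iff.mp hze).symm
      (heq ▸ hq.coprime_iff_not_dvd.mpr hqH)
    set K := centralizer (H : Set G)
    have hKnil : Group.IsNilpotent K := H1.isNilpotent_mono (hCN z hz1)
      fun k hk => mem_centralizer_singleton_iff.mpr (hk z hzH).symm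
    have heK : e ∈ K := fun h hh => mem_centralizer_singleton_iff.mp (hHe hh)
    have := H1.pCore_characteristic q K
    set R := (Cfsg.pCore q K).map K.subtype
    have hRn : R.Normal := H1.map_subtype_normal_of_characteristic K _
    have hRp : IsPGroup q R := (H1.isPGroup_pCore q K).map _
    have hcore : ∀ S : Sylow q K, (S : Subgroup K) ≤ Cfsg.pCore q K := fun S => by
      have h := (Group.isNilpotent_of_finite_tfae (G := K)).out 0 3
      have := h.mp hKnil q inferInstance S
      exact H1.le_pCore S.isPGroup'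
    have heR : e ∈ R := by
      obtain ⟨S, hS⟩ := (IsPGroup.of_card (n := 1) (by rw [Nat.card_zpowers, Subgroup.orderOf_mk, heq, pow_one]) :
        IsPGroup q (zpowers (⟨e, heK⟩ : K))).exists_le_sylow
      exact ⟨⟨e, heK⟩, hcore S (hS (mem_zpowers _)), rfl⟩
    obtain ⟨Q⟩ : Nonempty (Sylow q G) := inferInstance
    have hRQ : R ≤ (Q : Subgroup G) := hRp.le_sylow_of_normal Q
    obtain ⟨w, hwR, hw1, hwQ⟩ := exists_central_mem Q.isPGroup' hRQ
      (by rw [normalizer_eq_top]; exact le_top) (fun h => by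
        rw [h, mem_bot] at heR; rw [heR, orderOf_one] at heq; exact hq.ne_one heq.symm)
    have hQK : (Q : Subgroup G) ≤ K := fun x hx h hh =>
      cn_commute hCN hw1 (map_subtype_le _ hwR h hh) (hwQ x hx) (by
        obtain ⟨k, hk⟩ := orderOf_eq_pow_of_mem Q.isPGroup' hx
        rw [hk]
        refine Nat.Coprime.coprime_dvd_left (_root_.orderOf_dvd_natCard (⟨h, hh⟩ : H) |> fun d => by
          simpa [Subgroup.orderOf_mk] using d) ?_
        exact (Nat.Coprime.pow_left k (hq.coprime_iff_not_dvd.mpr hqH)).symm)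
    obtain ⟨S, hS⟩ := (IsPGroup.comap_subtype Q.isPGroup' :
      IsPGroup q ((Q : Subgroup G).subgroupOf K)).exists_le_sylow
    have hQR : (Q : Subgroup G) ≤ R := fun x hx => ⟨⟨x, hQK hx⟩, hcore S (hS hx), rfl⟩
    have hQn : (Q : Subgroup G).Normal := le_antisymm hRQ hQR ▸ hRn
    refine hqH (dvd_trans ?_ (Subgroup.card_dvd_of_le (hSylH q Q hQn)))
    refine heq.symm.dvd.trans ?_
    simpa [Subgroup.orderOf_mk] using _root_.orderOf_dvd_natCard (⟨e, hRQ heR⟩ : (Q : Subgroup G))
  have hfpf : ∀ e ∈ E, e ≠ 1 → H ⊓ centralizer ({e} : Set G) = ⊥ := by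
    intro e he he1
    obtain ⟨q, hq, hqe⟩ := Nat.exists_prime_and_dvd (mt orderOf_eq_one_iff.mp he1)
    refine le_bot_iff.mp (le_trans (inf_le_inf_left _ fun c hc => ?_)
      (hfpfp (e ^ (orderOf e / q)) (pow_mem he _) q hq (orderOf_pow_orderOf_div (orderOf_pos e).ne' hqe)).le)
    exact mem_centralizer_singleton_iff.mpr (Commute.pow_right (mem_centralizer_singleton_iff.mp hc) _).eq
  have hE0 : E ≠ ⊥ := fun h => by
    rw [h, isComplement'_bot_right] at hE
    exact hH1 hE
  have : Nontrivial H := H.nontrivial_iff_ne_bot.2 hH0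
  -- the centre of `H`
  set V := (Subgroup.center H).map H.subtype
  have hV0 : V ≠ ⊥ := by
    rw [ne_eq, Subgroup.map_eq_bot_iff_of_injective _ H.subtype_injective]
    have := hHnil
    exact Group.IsNilpotent.center_ne_bot H
  have hVH : V ≤ H := map_subtype_le _
  have hVn : V.Normal := ConjAct.normal_of_characteristic_of_normal
  have hEV : E ≤ normalizer (V : Set G) := by rw [normalizer_eq_top]; exact le_top
  have hfpfV : ∀ e ∈ E, e ≠ 1 → V ⊓ centralizer ({e} : Set G) = ⊥ := fun e he he1 =>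
    le_bot_iff.mp ((inf_le_inf_right _ hVH).trans (hfpf e he he1).le)
  have hEnil := fpf_isNilpotent hCN hEV hV0 hfpfV
  exact ⟨hH0, hH1, E, hE, H2.frobenius_of_fpf hE hH0 hE0 hfpf, hfpf, hEnil,
    fpf_nilpotent_structure hEV hV0 hfpfV hEnil⟩

end H84
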