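import Cfsg.Prelude.Def_OddOrderLocal
import Cfsg.Agent.H84.CNFrobenius

/-!
The structure of solvable CN-groups.
-/

set_option autoImplicit false

namespace H84

open Subgroup
open scoped commutatorElement

universe u

variable {G : Type u} [Group G] [Finite G]

theorem fpf_involution_unique {E V : Subgroup G} [IsMulCommutative V] (hEV : E ≤ normalizer (V : Set G))
    (hV : V ≠ ⊥) (hfpf : ∀ e ∈ E, e ≠ 1 → V ⊓ centralizer {e} = ⊥) {s t : G} (hs : s ∈ E) (ht : t ∈ E)
    (hs2 : orderOf s = 2) (ht2 : orderOf t = 2) : s = t := by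
  by_contra hne
  have hne' : s⁻¹ * t ≠ 1 := fun h => hne (inv_mul_eq_one.mp h)
  obtain ⟨v, hv, hv1⟩ := (Subgroup.bot_or_exists_ne_one V).resolve_left hV
  refine hv1 ?_
  have hmem : v ∈ V ⊓ centralizer {s⁻¹ * t} := by
    refine ⟨hv, mem_centralizer_singleton_iff.mpr ?_⟩
    have e1 := fpf_involution_inverts hEV hfpf ht ht2 hv
    have e2 := fpf_involution_inverts hEV hfpf hs hs2 hv
    have e3 : t * v = v⁻¹ * t := mul_inv_eq_iff_eq_mul.mp e1
    have e4 : s⁻¹ * v⁻¹ = v * s⁻¹ := by rw [← e2]; group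
    rw [mul_assoc s⁻¹ t v, e3, ← mul_assoc s⁻¹, e4, mul_assoc]
  rwa [hfpf _ (mul_mem (inv_mem hs) ht) hne', mem_bot] at hmem

theorem exists_pow_orderOf_eq {x : G} {p : ℕ} (hp : p ∣ orderOf x) : ∃ k, orderOf (x ^ k) = p :=
  ⟨orderOf x / p, orderOf_pow_orderOf_div (orderOf_pos x).ne' hp⟩

/-- Without a normal Sylow subgroup a solvable CN-group is a three-step group. -/
theorem cn_three_step [Group.IsSolvable G] [Nontrivial G] (hCN : Cfsg.IsCNGroup G)
    (hno : ∀ (q : ℕ) [Fact q.Prime] (Q : Sylow q G), (Q : Subgroup G).Normal → (Q : Subgroup G) = ⊥) :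
    ∃ p : ℕ, p.Prime ∧ Cfsg.IsThreeStepGroup p G := by
  obtain ⟨p, V₀, hp, hV₀n, hV₀, hV₀p⟩ := H1.exists_normal_pgroup_ne_bot G
  have := Fact.mk hp
  set F := Cfsg.pCore p G
  have hFn : F.Normal := H1.pCore_normal' p G
  have hFp : IsPGroup p F := H1.isPGroup_pCore p G
  have hF0 : F ≠ ⊥ := fun h => hV₀ (le_bot_iff.mp (h ▸ H1.le_pCore hV₀p))
  obtain ⟨z, hz, hz1⟩ := (Subgroup.bot_or_exists_ne_one F).resolve_left hF0
  set CF := centralizer (F : Set G)
  have hCFnil : Group.IsNilpotent CF := H1.isNilpotent_mono (hCN z hz1)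
    fun k hk => mem_centralizer_singleton_iff.mpr (hk z hz).symm
  -- the other cores are trivial
  have hcores : ∀ r : ℕ, r.Prime → r ≠ p → Cfsg.pCore r G = ⊥ := by
    intro r hr hrp
    have := Fact.mk hr
    by_contra hR0
    set R := Cfsg.pCore r G
    have hRn : R.Normal := H1.pCore_normal' r G
    obtain ⟨Q⟩ : Nonempty (Sylow r G) := inferInstance
    have hRQ : R ≤ (Q : Subgroup G) := H1.pCore_le_sylow Q
    obtain ⟨w, hwR, hw1, hwQ⟩ := exists_central_mem Q.isPGroup' hRQ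
      (by rw [normalizer_eq_top]; exact le_top) hR0
    have hcop : (Nat.card R).Coprime (Nat.card F) :=
      coprime_card_of_isPGroup (H1.isPGroup_pCore r G)
        (fun hd => hrp ((Nat.prime_dvd_prime_iff_eq hr hp).mp (by
          obtain ⟨k, hk⟩ := IsPGroup.iff_card.mp hFp
          exact hr.dvd_of_dvd_pow (hk ▸ hd))))
    have hRF := H1.le_centralizer_of_normal_of_coprime R F hcop
    have hQC : (Q : Subgroup G) ≤ CF := fun x hx f hf =>
      cn_commute hCN hw1 (hRF hwR f hf) (hwQ x hx) (by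
        obtain ⟨j, hj⟩ := orderOf_eq_pow_of_mem hFp hf
        obtain ⟨k, hk⟩ := orderOf_eq_pow_of_mem Q.isPGroup' hx
        exact coprime_orderOf_of_ne hrp.symm hj hk)
    obtain ⟨S, hS⟩ := (IsPGroup.comap_subtype Q.isPGroup' :
      IsPGroup r ((Q : Subgroup G).subgroupOf CF)).exists_le_sylow
    have hSn : (S : Subgroup CF).Normal := by
      have h := (Group.isNilpotent_of_finite_tfae (G := CF)).out 0 3
      exact h.mp hCFnil r inferInstance S
    have := H1.pCore_characteristic r CF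
    have hQR : (Q : Subgroup G) ≤ R := by
      intro x hx
      have h1 : (⟨x, hQC hx⟩ : CF) ∈ Cfsg.pCore r CF := H1.le_pCore S.isPGroup' (hS hx)
      have h2 : x ∈ (Cfsg.pCore r CF).map CF.subtype := ⟨_, h1, rfl⟩
      rw [H1.pCore_subgroup_map_eq] at h2
      exact h2.1
    have hQn : (Q : Subgroup G).Normal := le_antisymm hRQ hQR ▸ hRn
    exact hR0 (le_bot_iff.mp (hno r Q hQn ▸ hRQ))
  have hfit : Cfsg.fittingSubgroup G = F := by
    rw [H1.fittingSubgroup_eq_iSup_pCore]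
    refine le_antisymm (iSup_le fun r => ?_) (le_iSup_of_le ⟨p, hp⟩ le_rfl)
    rcases eq_or_ne (r : ℕ) p with h | h
    · rw [h]
    · rw [hcores r r.2 h]; exact bot_le
  have hCF : CF ≤ F := by
    have h := H1.centralizer_fitting_le_of_isSolvable (G := G) inferInstance
    rwa [hfit] at h
  -- `p'`-elements act without fixed points on `F`
  have hfpf : ∀ e : G, e ≠ 1 → ¬ p ∣ orderOf e → F ⊓ centralizer ({e} : Set G) = ⊥ := by
    intro e he hpe
    rw [Subgroup.eq_bot_iff_forall]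
    rintro v ⟨hv, hve⟩
    by_contra hv1
    have h := cn_centralizes_pGroup hCN hFp hv hv1 (mem_centralizer_singleton_iff.mp hve).symm hpe
    obtain ⟨k, hk⟩ := orderOf_eq_pow_of_mem hFp (hCF fun x hx => (h x hx).symm : e ∈ F)
    rcases k with _ | k
    · exact he (orderOf_eq_one_iff.mp (by simpa using hk))
    · exact hpe (hk ▸ dvd_pow_self p (Nat.succ_ne_zero k))
  -- the quotient by `F`
  have : Group.IsSolvable F := inferInstance
  have hCNq : Cfsg.IsCNGroup (G ⧸ F) := isCN_quotient hCN F this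
  have hcore0 : Cfsg.pCore p (G ⧸ F) = ⊥ := H1.pCore_quotient_pCore p G
  set Ab := Cfsg.pPrimeCore p (G ⧸ F)
  have hAbn : Ab.Normal := H1.pPrimeCore_normal' p _
  have hAbcop : (Nat.card Ab).Coprime p := H1.card_pPrimeCore_coprime p _
  have hCAb : centralizer (Ab : Set (G ⧸ F)) ≤ Ab := by
    have h := H1.centralizer_fitting_le_of_isSolvable (G := G ⧸ F) inferInstance
    have hle : Cfsg.fittingSubgroup (G ⧸ F) ≤ Ab := by
      rw [H1.fittingSubgroup_eq_iSup_pCore]
      refine iSup_le fun r => ?_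
      rcases eq_or_ne (r : ℕ) p with h | h
      · rw [h, hcore0]; exact bot_le
      · have := Fact.mk r.2
        have := H1.pCore_normal' (r : ℕ) (G ⧸ F)
        refine H1.le_pPrimeCore ?_
        rw [H1.card_pCore_eq_pow (r : ℕ) (G ⧸ F) |>.choose_spec]
        exact Nat.Coprime.pow_left _ ((Nat.coprime_primes r.2 hp).mpr h)
    exact ((Subgroup.centralizer_le hle).trans h).trans hle
  -- `p` divides `|G/F|`
  have hpq : p ∣ Nat.card (G ⧸ F) := by
    by_contra hnd
    obtain ⟨P⟩ : Nonempty (Sylow p G) := inferInstance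
    have hPF : (P : Subgroup G) = F := by
      refine (Subgroup.eq_of_le_of_card_ge (H1.pCore_le_sylow P) ?_).symm
      rw [Sylow.card_eq_multiplicity, Subgroup.card_eq_card_quotient_mul_card_subgroup F,
        Nat.factorization_mul Nat.card_pos.ne' Nat.card_pos.ne', Finsupp.add_apply,
        Nat.factorization_eq_zero_of_not_dvd hnd, zero_add]
      exact Nat.le_of_dvd Nat.card_pos (Nat.ordProj_dvd _ _)
    exact hF0 (hPF ▸ hno p P (hPF ▸ hFn))
  obtain ⟨xb, hxb⟩ := exists_prime_orderOf_dvd_card' (G := G ⧸ F) p hpq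
  -- a complement of `F` in the preimage of `Ab`
  set K := Ab.comap (QuotientGroup.mk' F)
  have hFK : F ≤ K := fun f hf => by
    rw [mem_comap, QuotientGroup.mk'_apply, (QuotientGroup.eq_one_iff f).mpr hf]; exact one_mem _
  have hKn : K.Normal := hAbn.comap _
  have hFcard : Nat.card (F.subgroupOf K) = Nat.card F :=
    Nat.card_congr (Subgroup.subgroupOfEquivOfLe hFK).toEquiv
  have hmapK : K.map (QuotientGroup.mk' F) = Ab :=
    map_comap_eq_self_of_surjective (QuotientGroup.mk'_surjective F) _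
  have hidx : (F.subgroupOf K).index = Nat.card Ab := by
    have h := Subgroup.relIndex_ker (K := K) (QuotientGroup.mk' F)
    rw [QuotientGroup.ker_mk', hmapK] at h
    exact h
  have hcopFK : (Nat.card (F.subgroupOf K)).Coprime (F.subgroupOf K).index := by
    rw [hFcard, hidx]
    obtain ⟨k, hk⟩ := IsPGroup.iff_card.mp hFp
    rw [hk]
    exact hAbcop.symm.pow_left k
  have : (F.subgroupOf K).Normal := H1.subgroupOf_normal F K
  obtain ⟨A₀, hA₀⟩ := Subgroup.exists_right_complement'_of_coprime hcopFK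
  set A := A₀.map K.subtype
  have hAK : A ≤ K := map_subtype_le _
  have hAcard : Nat.card A = Nat.card Ab := by
    rw [← Nat.card_congr (A₀.equivMapOfInjective _ K.subtype_injective).toEquiv, ← hidx,
      hA₀.symm.index_eq_card]
  have hAp : ∀ a ∈ A, ¬ p ∣ orderOf a := fun a ha hd => hp.not_dvd_one
    (hAbcop ▸ Nat.dvd_gcd (hd.trans (hAcard ▸ Subgroup.orderOf_dvd_natCard A ha)) dvd_rfl)
  have hFA : F ⊔ A = K := by
    refine le_antisymm (sup_le hFK hAK) fun k hk => ?_
    obtain ⟨⟨f, a⟩, hfa⟩ := hA₀.2 ⟨k, hk⟩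
    rw [← show ((f : K) : G) * ((a : K) : G) = k from congrArg Subtype.val hfa]
    exact mul_mem_sup f.2 ⟨a, a.2, rfl⟩
  set π := (QuotientGroup.mk' F).comp A.subtype
  have hπinj : Function.Injective π := by
    rw [injective_iff_map_eq_one]
    intro a ha
    have haF : (a : G) ∈ F := (QuotientGroup.eq_one_iff (a : G)).mp ha
    obtain ⟨k, hk⟩ := orderOf_eq_pow_of_mem hFp haF
    rcases k with _ | k
    · exact Subtype.ext (orderOf_eq_one_iff.mp (by simpa using hk))
    · exact absurd (hk ▸ dvd_pow_self p (Nat.succ_ne_zero k)) (hAp a a.2)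
  have hπrange : A.map (QuotientGroup.mk' F) = Ab := by
    rw [← hmapK, ← hFA, Subgroup.map_sup, (Subgroup.map_eq_bot_iff _).mpr (QuotientGroup.ker_mk' F).ge,
      bot_sup_eq]
  -- the centre of `F`
  have : Nontrivial F := F.nontrivial_iff_ne_bot.2 hF0
  set V := (Subgroup.center F).map F.subtype
  have hV0 : V ≠ ⊥ := by
    rw [ne_eq, Subgroup.map_eq_bot_iff_of_injective _ F.subtype_injective]
    exact ((Subgroup.center F).nontrivial_iff_ne_bot).mp hFp.center_nontrivial
  have hVn : V.Normal := ConjAct.normal_of_characteristic_of_normal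
  have hAV : A ≤ normalizer (V : Set G) := by rw [normalizer_eq_top]; exact le_top
  have hAfpf : ∀ a ∈ A, a ≠ 1 → V ⊓ centralizer ({a} : Set G) = ⊥ := fun a ha ha1 =>
    le_bot_iff.mp ((inf_le_inf_right _ (map_subtype_le _)).trans (hfpf a ha1 (hAp a ha)).le)
  have hAnil := fpf_isNilpotent hCN hAV hV0 hAfpf
  have hAbnil : Group.IsNilpotent Ab := hπrange ▸ H1.isNilpotent_map hAnil _
  -- `p`-elements of the quotient act without fixed points on `Ab`
  have hxfix : ∀ y : G ⧸ F, p ∣ orderOf y → ∀ a ∈ Ab, a ≠ 1 → y * a ≠ a * y := by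
    intro y hy a ha ha1 hc
    obtain ⟨k, hk⟩ := exists_pow_orderOf_eq hy
    have hcent := cn_centralizes_nilpotent hCNq hAbnil ha ha1 (Commute.pow_left hc k).eq
      (hk ▸ hAbcop.symm)
    have hyA : y ^ k ∈ Ab := hCAb fun b hb => mem_centralizer_singleton_iff.mp (hcent hb)
    exact hp.not_dvd_one (hAbcop ▸ Nat.dvd_gcd (hk ▸ Subgroup.orderOf_dvd_natCard Ab hyA) dvd_rfl)
  have hAb0 : Ab ≠ ⊥ := by
    intro h
    have h1 : xb ∈ Ab := hCAb fun b hb => by
      rw [h, SetLike.mem_coe, mem_bot] at hb; rw [hb, one_mul, mul_one]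
    rw [h, mem_bot] at h1
    rw [h1, orderOf_one] at hxb
    exact hp.ne_one hxb.symm
  have hA0 : A ≠ ⊥ := fun h => hAb0 (by rw [← hπrange, h, Subgroup.map_bot])
  have hAodd : Odd (Nat.card A) := by
    rw [← Nat.not_even_iff_odd, even_iff_two_dvd]
    intro h2
    obtain ⟨⟨t, ht⟩, ht2⟩ := exists_prime_orderOf_dvd_card' (G := A) 2 h2
    rw [Subgroup.orderOf_mk] at ht2
    have ht' : π ⟨t, ht⟩ ∈ Ab := hπrange ▸ ⟨t, ht, rfl⟩
    refine hxfix xb (hxb.symm.dvd) _ ht' (fun h => ?_) ?_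
    · rw [show t = 1 from congrArg Subtype.val (hπinj (h.trans (map_one π).symm)), orderOf_one] at ht2
      omega
    · have hconj : xb * π ⟨t, ht⟩ * xb⁻¹ ∈ Ab := hAbn.conj_mem _ ht' xb
      obtain ⟨s, hs, hse⟩ := hπrange.ge hconj
      have hs2 : orderOf s = 2 := by
        have h1 := orderOf_injective π hπinj ⟨s, hs⟩
        rw [Subgroup.orderOf_mk] at h1
        rw [← h1, show π ⟨s, hs⟩ = xb * π ⟨t, ht⟩ * xb⁻¹ from hse]
        refine (orderOf_injective (MulAut.conj xb).toMonoidHom (MulAut.conj xb).injective _).trans ?_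
        rw [orderOf_injective π hπinj, Subgroup.orderOf_mk, ht2]
      obtain rfl := fpf_involution_unique hAV hV0 hAfpf hs ht hs2 ht2
      exact mul_inv_eq_iff_eq_mul.mp (hse.symm)
  have hAcyc : IsCyclic A := by
    refine (fpf_nilpotent_structure hAV hV0 hAfpf hAnil).resolve_right ?_
    rintro ⟨C, Q, hCQ, -, -, -, n, ⟨e⟩⟩
    have hQ : Nat.card Q = 4 * 2 ^ n := by
      rw [Nat.card_congr e.toEquiv, Nat.card_eq_fintype_card, QuaternionGroup.card]
    exact (Nat.not_even_iff_odd.mpr (hAodd.of_dvd_nat (Subgroup.card_dvd_of_le (hCQ ▸ le_sup_right : Q ≤ A))))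
      (hQ ▸ ⟨2 * 2 ^ n, by ring⟩)
  -- the top factor is a `p`-group
  have hAbc : IsCyclic Ab := hπrange ▸ ((A.map (QuotientGroup.mk' F)).isCyclic_iff_exists_zpowers_eq_top).mpr (by
    obtain ⟨g, hg⟩ := (A.isCyclic_iff_exists_zpowers_eq_top).mp hAcyc
    exact ⟨QuotientGroup.mk' F g, by rw [← MonoidHom.map_zpowers, hg]⟩)
  have hcomm : commutator (G ⧸ F) ≤ Ab := by
    rw [commutator_def, Subgroup.commutator_le]
    intro a _ b _
    refine hCAb fun c hc => ?_
    let := IsCyclic.commGroup (α := Ab)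
    have hfix : MulAut.conjNormal (H := Ab) ⁅a, b⁆ = 1 := by
      rw [map_commutatorElement, commutatorElement_eq_one_iff_mul_comm]
      exact (IsCyclic.mulAutMulEquiv Ab).injective (by rw [map_mul, map_mul, mul_comm])
    have h1 := congrArg Subtype.val (congrArg (fun f : MulAut Ab => f ⟨c, hc⟩) hfix)
    simp only [MulAut.conjNormal_apply, MulAut.one_apply] at h1
    exact (mul_inv_eq_iff_eq_mul.mp h1).symm
  have hqidx : ∀ q : ℕ, q.Prime → q ∣ Ab.index → q = p := by
    intro q hq hqi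
    by_contra hqp
    have := Fact.mk hq
    obtain ⟨Q⟩ : Nonempty (Sylow q (G ⧸ F)) := inferInstance
    have hNn : (Ab ⊔ (Q : Subgroup _)).Normal :=
      Subgroup.Normal.of_commutator_le _ (hcomm.trans le_sup_left)
    have hle : Ab ⊔ (Q : Subgroup _) ≤ Ab := by
      have hd : Nat.card (Ab ⊔ (Q : Subgroup (G ⧸ F)) : Subgroup (G ⧸ F)) ∣
          Nat.card (Q : Subgroup (G ⧸ F)) * Nat.card Ab := by
        rw [sup_comm]; exact H1.card_sup_dvd_mul _ _
      refine H1.le_pPrimeCore (Nat.Coprime.coprime_dvd_left hd ?_)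
      refine Nat.Coprime.mul_left ?_ hAbcop
      obtain ⟨k, hk⟩ := IsPGroup.iff_card.mp Q.isPGroup'
      rw [hk]
      exact Nat.Coprime.pow_left k ((Nat.coprime_primes hq hp).mpr hqp)
    exact Q.not_dvd_index (hqi.trans (Subgroup.index_dvd_of_le (sup_le_iff.mp hle).2))
  refine ⟨p, hp, hF0, A, hA0, hAcyc, hAodd, hAcard ▸ hAbcop, hFA.symm ▸ hKn, ?_, ?_, ?_, ?_⟩
  · rw [hFA]
    intro h
    have h1 : xb ∈ Ab := by
      obtain ⟨g, rfl⟩ := QuotientGroup.mk'_surjective F xb
      exact (h.symm ▸ mem_top g : g ∈ K)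
    exact hp.not_dvd_one (hAbcop ▸ Nat.dvd_gcd (hxb ▸ Subgroup.orderOf_dvd_natCard Ab h1) dvd_rfl)
  · rw [hFA, show K.index = Ab.index from Ab.index_comap_of_surjective (QuotientGroup.mk'_surjective F)]
    exact ⟨_, Nat.eq_prime_pow_of_unique_prime_dvd Subgroup.index_ne_zero_of_finite (fun {d} hd hdi => hqidx d hd hdi)⟩
  · intro a ha ha1
    exact hfpf a ha1 (hAp a ha)
  · intro x hx a ha ha1 hxa
    rw [hFA] at hx
    have hxA : QuotientGroup.mk' F x ∉ Ab := hx
    have hcm : QuotientGroup.mk' F x * π ⟨a, ha⟩ = π ⟨a, ha⟩ * QuotientGroup.mk' F x := by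
      rw [← commutatorElement_eq_one_iff_mul_comm]
      have h1 : QuotientGroup.mk' F (x * a * x⁻¹ * a⁻¹) = 1 := (QuotientGroup.eq_one_iff _).mpr hxa
      simpa [π, commutatorElement_def] using h1
    refine hxfix _ ?_ _ (hπrange ▸ ⟨a, ha, rfl⟩ : π ⟨a, ha⟩ ∈ Ab) (fun h => ha1 ?_) hcm
    · by_contra hnd
      refine hxA ?_
      rw [← QuotientGroup.eq_one_iff, ← orderOf_eq_one_iff]
      set o := orderOf ((QuotientGroup.mk' F x : G ⧸ F) : (G ⧸ F) ⧸ Ab)
      have h1 : o ∣ Ab.index := _root_.orderOf_dvd_natCard _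
      have h2 : o ∣ orderOf (QuotientGroup.mk' F x) := orderOf_map_dvd (QuotientGroup.mk' Ab) _
      by_contra ho
      obtain ⟨r, hr, hro⟩ := Nat.exists_prime_and_dvd ho
      exact hnd ((hqidx r hr (hro.trans h1)) ▸ hro.trans h2)
    · exact congrArg Subtype.val (hπinj (h.trans (map_one π).symm))

/-- The trichotomy for solvable CN-groups. -/
theorem cn_solvable_trichotomy [Group.IsSolvable G] (hCN : Cfsg.IsCNGroup G) :
    Group.IsNilpotent G ∨
      (∃ E : Subgroup G, IsComplement' (Cfsg.fittingHall G) E ∧ Cfsg.IsFrobeniusComplement E ∧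
        (∀ e ∈ E, e ≠ 1 → Cfsg.fittingHall G ⊓ centralizer ({e} : Set G) = ⊥) ∧ Group.IsNilpotent E ∧
        (IsCyclic E ∨ ∃ C Q : Subgroup G, C ⊔ Q = E ∧ (∀ a ∈ C, ∀ b ∈ Q, a * b = b * a) ∧ IsCyclic C ∧
          Odd (Nat.card C) ∧ ∃ n : ℕ, Nonempty (↥Q ≃* QuaternionGroup (2 ^ n)))) ∨
      ∃ p : ℕ, p.Prime ∧ Cfsg.IsThreeStepGroup p G := by
  by_cases hnn : Group.IsNilpotent G
  · exact Or.inl hnn
  right
  by_cases h : ∃ (q : ℕ) (_ : Fact q.Prime) (Q : Sylow q G), (Q : Subgroup G).Normal ∧ (Q : Subgroup G) ≠ ⊥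
  · obtain ⟨q, _, Q, hQn, hQ⟩ := h
    exact Or.inl (cn_frobenius hCN hnn Q hQ hQn).2.2
  · have : Nontrivial G := not_subsingleton_iff_nontrivial.mp fun _ => hnn inferInstance
    exact Or.inr (cn_three_step hCN fun q hq Q hQn => by_contra fun hb => h ⟨q, hq, Q, hQn, hb⟩)

end H84
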