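import Mathlib
import Cfsg.Agent.H84.Puig
import Cfsg.Agent.H84.BaerTrick
import Cfsg.Agent.H11.ZJ
import Cfsg.Agent.H6.Basic
import Cfsg.Agent.H1.ThompsonTools

/-!
The `ZJ`-theorem for the Thompson subgroup generated by the elementary abelian subgroups of largest
order, with the whole centre.
-/

set_option autoImplicit false

namespace H84

open scoped commutatorElement

variable {G : Type*} [Group G] [Finite G] {p : ℕ}

/-- The elementary abelian subgroups of largest order of `D`. -/
abbrev famElem (p : ℕ) (D : Subgroup G) : Set (Subgroup G) :=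
  H11.maxFam (fun A : Subgroup G => Cfsg.IsElementaryAbelian p A) D

theorem thompsonOf_le (D : Subgroup G) : Cfsg.thompsonSubgroupOf p D ≤ D := Subgroup.map_subtype_le _

theorem normalizer_le_normalizer_thompsonOf (D : Subgroup G) :
    Subgroup.normalizer (D : Set G) ≤ Subgroup.normalizer (Cfsg.thompsonSubgroupOf p D : Set G) := by
  refine le_normalizer_of_conj fun g hg x hx => ?_
  have hD : D.map (MulAut.conj g).toMonoidHom = D := Subgroup.mem_normalizer_iff_map_conj_eq.mp hg
  rw [H11.thompsonSubgroupOf_eq] at hx ⊢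
  have h : (sSup (famElem p D)).map (MulAut.conj g).toMonoidHom ≤ sSup (famElem p D) := by
    rw [(Subgroup.gc_map_comap _).l_sSup]
    refine iSup₂_le fun A hA => le_sSup ?_
    have := H11.map_mem_maxFam (H11.replProp_elem p) (MulAut.conj g) hA
    rwa [hD] at this
  exact h ⟨x, hx, rfl⟩

theorem normalizer_le_normalizer_zj (D : Subgroup G) :
    Subgroup.normalizer (D : Set G) ≤ Subgroup.normalizer (Cfsg.centerThompsonOf p D : Set G) :=
  (le_inf (normalizer_le_normalizer_thompsonOf D)
    ((normalizer_le_normalizer_thompsonOf D).trans (normalizer_le_normalizer_centralizer _))).trans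
      Subgroup.inf_normalizer_le_normalizer_inf

theorem centerThompsonOf_comm (D : Subgroup G) {x y : G} (hx : x ∈ Cfsg.centerThompsonOf p D)
    (hy : y ∈ Cfsg.centerThompsonOf p D) : x * y = y * x :=
  (hx.2 y hy.1).symm

variable [Fact p.Prime]

theorem pow_conj_mem_centralizer {x y c : G} (h : x * y = c * (y * x)) (hcx : Commute c x) (n : ℕ) :
    x ^ n * y = c ^ n * (y * x ^ n) := by
  induction n with
  | zero => simp
  | succ n ih =>
    calc x ^ (n + 1) * y = x * (x ^ n * y) := by rw [pow_succ']; group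
      _ = (x * c ^ n) * (y * x ^ n) := by rw [ih]; group
      _ = c ^ n * (x * y) * x ^ n := by rw [← (hcx.pow_left n).eq]; group
      _ = c ^ (n + 1) * (y * (x * x ^ n)) := by rw [h, pow_succ]; group
      _ = _ := by rw [← pow_succ']

/-- A subgroup of the normal `p`-subgroup `B` is normal as soon as the normaliser of `S ∩ L` normalises it,
where `L/C(B)` is the `p`-core of `G/C(B)`. -/
theorem normal_of_normalizer_le (S : Sylow p G) (B X : Subgroup G) [B.Normal] (hXB : X ≤ B)
    (h : Subgroup.normalizer (((S : Subgroup G) ⊓ (Cfsg.pCore p (G ⧸ Subgroup.centralizer (B : Set G))).comap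
      (QuotientGroup.mk' (Subgroup.centralizer (B : Set G))) : Subgroup G) : Set G) ≤
        Subgroup.normalizer (X : Set G)) : X.Normal := by
  set C := Subgroup.centralizer (B : Set G)
  set L := (Cfsg.pCore p (G ⧸ C)).comap (QuotientGroup.mk' C)
  have : L.Normal := (H1.pCore_normal' p (G ⧸ C)).comap _
  refine Subgroup.normalizer_eq_top_iff.mp (top_le_iff.mp ?_)
  rw [← H11.normalizer_inf_sup_eq_top S L]
  refine sup_le h ((comap_pCore_le_inf_sup S C).trans (sup_le (Subgroup.le_normalizer.trans h) ?_))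
  exact le_normalizer_of_conj fun c hc x hx => by rwa [← hc x (hXB hx), mul_inv_cancel_right]

/-- The `ZJ`-theorem for elementary abelian subgroups, whole centre. -/
theorem zj_elem_normal (hp : p ≠ 2)
    (hc : Subgroup.centralizer (Cfsg.pCore p G : Set G) ≤ Cfsg.pCore p G)
    (hst : ∀ (N : Subgroup G) [N.Normal], IsPGroup p N → ∀ A : Subgroup G, ⁅⁅N, A⁆, A⁆ = ⊥ →
      A.map (QuotientGroup.mk' (Subgroup.centralizer (N : Set G))) ≤
        Cfsg.pCore p (G ⧸ Subgroup.centralizer (N : Set G)))
    (S : Sylow p G) : (Cfsg.centerThompsonOf p (S : Subgroup G)).Normal := by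
  set D : Subgroup G := (S : Subgroup G)
  set J := Cfsg.thompsonSubgroupOf p D
  set Z := Cfsg.centerThompsonOf p D
  have hJD : J ≤ D := thompsonOf_le D
  have hZD : Z ≤ D := inf_le_left.trans hJD
  have hDZ : D ≤ Subgroup.normalizer (Z : Set G) :=
    Subgroup.le_normalizer.trans (normalizer_le_normalizer_zj D)
  have hmemU : ∀ U ∈ famElem p D, ∀ x ∈ Z, x ^ p = 1 → x ∈ U := fun U hU x hx hxp =>
    H11.mem_of_commute_maxFam_elem hU (hZD hx) hxp fun a ha => hx.2 a (by
      show a ∈ Cfsg.thompsonSubgroupOf p D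
      rw [H11.thompsonSubgroupOf_eq]; exact le_sSup (α := Subgroup G) hU ha)
  have hZc : ⁅Z, Z⁆ = ⊥ :=
    Subgroup.commutator_eq_bot_iff_le_centralizer.mpr fun x hx y hy => (centerThompsonOf_comm D hy hx)
  -- `Z ≤ O_p(G)`
  have hQn := H1.pCore_normal' p G
  have hQp := H1.isPGroup_pCore p G
  have hQD : Cfsg.pCore p G ≤ D := H1.pCore_le_sylow S
  have hZQ : Z ≤ Cfsg.pCore p G := by
    have hq : ⁅⁅Cfsg.pCore p G, Z⁆, Z⁆ = ⊥ := by
      rw [eq_bot_iff]
      refine (Subgroup.commutator_mono ?_ le_rfl).trans hZc.le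
      exact Subgroup.commutator_le.mpr fun q hq z hz =>
        mul_mem (conj_mem_of_le_normalizer hDZ (hQD hq) hz) (inv_mem hz)
    set C := Subgroup.centralizer (Cfsg.pCore p G : Set G)
    have : (Cfsg.pCore p (G ⧸ C)).Normal := H1.pCore_normal' p _
    exact (Subgroup.map_le_iff_le_comap.mp (hst _ hQp Z hq)).trans
      (H1.le_pCore ((H1.isPGroup_pCore p (G ⧸ C)).comap_of_ker_isPGroup _
        (by rw [QuotientGroup.ker_mk']; exact hQp.to_le hc)))
  suffices H : ∀ n : ℕ, ∀ B : Subgroup G, B.Normal → IsPGroup p B → Nat.card B ≤ n → (B ⊓ Z).Normal by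
    have := H _ _ hQn hQp le_rfl
    rwa [inf_eq_right.mpr hZQ] at this
  intro n
  induction n with
  | zero => intro B _ _ h; exact absurd h (not_le.mpr Nat.card_pos)
  | succ n ih =>
    intro B hBn hBp hBc
    by_cases hBbot : B = ⊥
    · rw [hBbot, bot_inf_eq]; infer_instance
    have hsmall : ∀ B' : Subgroup G, B'.Normal → B' < B → (B' ⊓ Z).Normal := fun B' hn' hlt => by
      refine ih B' hn' (hBp.to_le hlt.le) ?_
      have : Nat.card B' < Nat.card B := lt_of_le_of_ne
        (Nat.le_of_dvd Nat.card_pos (Subgroup.card_dvd_of_le hlt.le))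
        fun e => hlt.ne (Subgroup.eq_of_le_of_card_ge hlt.le e.ge)
      omega
    have hcl : ∀ X : Subgroup G, X.Normal → X ≤ B → B ⊓ Z ≤ X →
        X = B ∨ (B ⊓ Z).Normal := fun X hXn hXB hX => by
      rcases eq_or_lt_of_le hXB with h | h
      · exact Or.inl h
      · have := hsmall X hXn h
        rw [show X ⊓ Z = B ⊓ Z from le_antisymm (inf_le_inf_right Z hXB) (le_inf hX inf_le_right)] at this
        exact Or.inr this
    by_contra hgoal
    have hclB : ∀ X : Subgroup G, X.Normal → B ⊓ Z ≤ X → B ≤ X := fun X hXn hX =>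
      inf_eq_left.mp (((hcl (B ⊓ X) inferInstance inf_le_left (le_inf inf_le_left hX)).resolve_right hgoal))
    have hBD : B ≤ D := hBp.le_sylow_of_normal S
    have : Nontrivial B := (Subgroup.nontrivial_iff_ne_bot B).mpr hBbot
    have : Group.IsNilpotent B := hBp.isNilpotent
    have hB'lt : ⁅B, B⁆ < B := by
      have h := Group.IsSolvable.commutator_lt_top_of_nontrivial (G := B)
      have h2 := (Subgroup.map_lt_map_iff_of_injective B.subtype_injective).mpr h
      rwa [commutator_def, Subgroup.map_commutator, ← MonoidHom.range_eq_map, Subgroup.range_subtype] at h2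
    have hTn := hsmall _ (Subgroup.commutator_normal B B) hB'lt
    -- `[B, B] ≤ Z`
    have hB'Z : ⁅B, B⁆ ≤ Z := by
      set T := ⁅B, B⁆ ⊓ Z
      set f := QuotientGroup.mk' T
      have : (B.map f).Normal := hBn.map _ (QuotientGroup.mk'_surjective T)
      have hle : B ≤ (Subgroup.centralizer (B.map f : Set (G ⧸ T))).comap f := by
        refine hclB _ inferInstance ?_
        rintro x hx _ ⟨y, hy, rfl⟩
        rw [← commutatorElement_eq_one_iff_mul_comm, ← map_commutatorElement, QuotientGroup.mk'_apply,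
          QuotientGroup.eq_one_iff]
        exact ⟨Subgroup.commutator_mem_commutator hy hx.1,
          Subgroup.mul_mem Z (conj_mem_of_le_normalizer hDZ (hBD hy) hx.2) (Subgroup.inv_mem Z hx.2)⟩
      refine (Subgroup.commutator_le.mpr fun x hx y hy => ?_ : ⁅B, B⁆ ≤ T).trans inf_le_right
      rw [← QuotientGroup.eq_one_iff, ← QuotientGroup.mk'_apply, map_commutatorElement,
        commutatorElement_eq_one_iff_mul_comm]
      exact hle hy _ ⟨x, hx, rfl⟩
    have hB'n : (⁅B, B⁆).Normal := Subgroup.commutator_normal B B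
    -- `B` has class two
    have hcent : ∀ u ∈ B, ∀ v ∈ ⁅B, B⁆, Commute v u := fun u hu v hv =>
      hclB (Subgroup.centralizer ((⁅B, B⁆ : Subgroup G) : Set G)) inferInstance
        (fun z hz w hw => centerThompsonOf_comm D (hB'Z hw) hz.2) hu v hv
    have hmemB' : ∀ u ∈ B, ∀ v ∈ B, ⁅u, v⁆ ∈ ⁅B, B⁆ := fun u hu v hv =>
      Subgroup.commutator_mem_commutator hu hv
    have hswap : ∀ u v : G, u * v = ⁅u, v⁆ * (v * u) := fun u v => by rw [commutatorElement_def]; group
    -- `p`-th powers are central in `B`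
    let M : Subgroup G :=
      { carrier := {x | x ∈ B ∧ x ^ p ∈ Subgroup.centralizer (B : Set G)}
        one_mem' := ⟨one_mem _, by rw [one_pow]; exact one_mem _⟩
        mul_mem' := by
          rintro a b ⟨ha, ha'⟩ ⟨hb, hb'⟩
          refine ⟨mul_mem ha hb, ?_⟩
          rw [H11.mul_pow_of_commutator_central (hswap b a) (hcent a ha _ (hmemB' b hb a ha))
            (hcent b hb _ (hmemB' b hb a ha))]
          have hc' : ⁅b, a⁆ ∈ Subgroup.centralizer (B : Set G) := fun y hy =>
            ((hcent y hy _ (hmemB' b hb a ha)).eq).symm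
          exact mul_mem (mul_mem ha' hb') (Subgroup.pow_mem _ hc' _)
        inv_mem' := by
          rintro a ⟨ha, ha'⟩
          exact ⟨inv_mem ha, by rw [inv_pow]; exact inv_mem ha'⟩ }
    have hMn : M.Normal := ⟨fun x hx g => ⟨hBn.conj_mem x hx.1 g, by
      rw [conj_pow]; exact (inferInstance : (Subgroup.centralizer (B : Set G)).Normal).conj_mem _ hx.2 g⟩⟩
    set B2 := Subgroup.normalClosure ((fun x => x ^ p) '' ((B ⊓ Z : Subgroup G) : Set G))
    have hB2 : B2 ≤ (frattini B).map B.subtype := by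
      refine (Subgroup.closure_le _).mpr ?_
      intro y hy
      obtain ⟨_, ⟨x, hx, rfl⟩, hconj⟩ := Group.mem_conjugatesOfSet_iff.mp hy
      obtain ⟨g, rfl⟩ := isConj_iff.mp hconj
      refine ⟨(⟨g * x * g⁻¹, hBn.conj_mem x hx.1 g⟩ : B) ^ p, H6.pow_prime_mem_frattini hBp _, ?_⟩
      simp [conj_pow]
    have hB2lt : B2 < B := by
      refine lt_of_le_of_lt hB2 ?_
      have h2 := (Subgroup.map_lt_map_iff_of_injective B.subtype_injective).mpr
        (show frattini B < ⊤ from ?_)
      · rwa [← MonoidHom.range_eq_map, Subgroup.range_subtype] at h2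
      · rcases IsCoatomic.eq_top_or_exists_le_coatom (⊥ : Subgroup B) with h | ⟨K, hK, -⟩
        · exact absurd h bot_ne_top
        · exact lt_of_le_of_lt (frattini_le_coatom hK) hK.lt_top
    have hB2Z : B2 ≤ Z := by
      have hn2 := hsmall B2 Subgroup.normalClosure_normal hB2lt
      have h : B2 ≤ B2 ⊓ Z := Subgroup.normalClosure_le_normal (N := B2 ⊓ Z) (by
        rintro _ ⟨x, hx, rfl⟩
        exact ⟨Subgroup.subset_normalClosure ⟨x, hx, rfl⟩, Subgroup.pow_mem _ hx.2 p⟩)
      exact h.trans inf_le_right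
    have hpc : ∀ x ∈ B, ∀ y ∈ B, y * x ^ p = x ^ p * y := fun x hx => by
      refine (hclB M hMn ?_ hx).2
      intro z hz
      refine ⟨hz.1, fun y hy => ?_⟩
      exact (hclB (Subgroup.centralizer (B2 : Set G)) inferInstance
        (fun w hw u hu => centerThompsonOf_comm D (hB2Z hu) hw.2) hy (z ^ p)
          (Subgroup.subset_normalClosure ⟨z, hz, rfl⟩)).symm
    have hexp : ∀ x ∈ B, ∀ y ∈ B, ⁅x, y⁆ ^ p = 1 := fun x hx y hy => by
      have h := pow_conj_mem_centralizer (hswap x y) (hcent x hx _ (hmemB' x hx y hy)) p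
      rw [hpc x hx y hy, right_eq_mul] at h
      exact h
    -- the elements of order dividing `p`
    let W : Subgroup G :=
      { carrier := {x | x ∈ B ∧ x ^ p = 1}
        one_mem' := ⟨one_mem _, one_pow _⟩
        mul_mem' := by
          rintro a b ⟨ha, ha'⟩ ⟨hb, hb'⟩
          refine ⟨mul_mem ha hb, ?_⟩
          rw [H11.mul_pow_of_commutator_central (hswap b a) (hcent a ha _ (hmemB' b hb a ha))
            (hcent b hb _ (hmemB' b hb a ha)), ha', hb', one_mul, one_mul]
          obtain ⟨k, hk⟩ := (Fact.out : p.Prime).dvd_choose_self (k := 2) (by omega)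
            (lt_of_le_of_ne (Fact.out : p.Prime).two_le (Ne.symm hp))
          rw [hk, pow_mul, hexp b hb a ha, one_pow]
        inv_mem' := by
          rintro a ⟨ha, ha'⟩
          exact ⟨inv_mem ha, by rw [inv_pow, ha', inv_one]⟩ }
    have hWB : W ≤ B := fun x hx => hx.1
    have hWn : W.Normal := ⟨fun x hx g => ⟨hBn.conj_mem x hx.1 g, by
      rw [conj_pow, hx.2, mul_one, mul_inv_cancel]⟩⟩
    have hW' : ∀ U ∈ famElem p D, ⁅W, W⁆ ≤ U := fun U hU => Subgroup.commutator_le.mpr fun x hx y hy =>
      hmemU U hU _ (hB'Z (hmemB' x hx.1 y hy.1)) (hexp x hx.1 y hy.1)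
    set C := Subgroup.centralizer (B : Set G)
    set L := (Cfsg.pCore p (G ⧸ C)).comap (QuotientGroup.mk' C)
    have hLn : L.Normal := (H1.pCore_normal' p (G ⧸ C)).comap _
    have hWL : Subgroup.centralizer (W : Set G) ≤ L := by
      refine Subgroup.map_le_iff_le_comap.mp ?_
      have : ((Subgroup.centralizer (W : Set G)).map (QuotientGroup.mk' C)).Normal :=
        (inferInstance : (Subgroup.centralizer (W : Set G)).Normal).map _ (QuotientGroup.mk'_surjective C)
      refine H1.le_pCore ?_
      rintro ⟨_, g, hg, rfl⟩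
      obtain ⟨v, m, hm, hgo⟩ := Nat.exists_eq_pow_mul_and_not_dvd (orderOf_pos g).ne' p
        (Fact.out : p.Prime).ne_one
      refine ⟨v, Subtype.ext ?_⟩
      change (QuotientGroup.mk' C g) ^ p ^ v = 1
      rw [← map_pow, QuotientGroup.mk'_apply, QuotientGroup.eq_one_iff]
      have hord : orderOf (g ^ p ^ v) = m := by
        rw [orderOf_pow, hgo, Nat.gcd_eq_right (Dvd.intro _ rfl),
          Nat.mul_div_cancel_left _ (pow_pos (Fact.out : p.Prime).pos v)]
      refine le_centralizer_of_omega_one hp hBp (Q := Subgroup.zpowers (g ^ p ^ v))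
        (by rw [Nat.card_zpowers, hord]; exact hm)
        (by rw [Subgroup.normalizer_eq_top]; exact le_top) ?_ (Subgroup.mem_zpowers _)
      intro q hq x hx hxp
      have hqW : q ∈ Subgroup.centralizer (W : Set G) :=
        Subgroup.zpowers_le.mpr (Subgroup.pow_mem _ hg _) hq
      exact hqW x ⟨hx, hxp⟩
    have hcentW : ∀ U ∈ famElem p D, W ≤ U → U ≤ Subgroup.centralizer (W : Set G) := fun U hU hWU u hu w hw =>
      (H11.comm_of_mulCommutative hU.2.1.1 (hWU hw) hu).eq
    by_cases hall : ∀ U ∈ famElem p D, W ≤ U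
    · -- `J ≤ L`
      have hJL : J ≤ L := by
        show Cfsg.thompsonSubgroupOf p D ≤ L
        rw [H11.thompsonSubgroupOf_eq]
        exact sSup_le fun U hU => (hcentW U hU (hall U hU)).trans hWL
      have hDL : Subgroup.normalizer ((D ⊓ L : Subgroup G) : Set G) ≤ Subgroup.normalizer (J : Set G) := by
        suffices hJ : J = Cfsg.thompsonSubgroupOf p (D ⊓ L) by
          rw [hJ]; exact normalizer_le_normalizer_thompsonOf _
        have hfam : famElem p (D ⊓ L) = famElem p D := by
          obtain ⟨A, hA⟩ := H11.maxFam_nonempty (H11.replProp_elem (G := G) p).bot D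
          have hAL : A ≤ L := (hcentW A hA (hall A hA)).trans hWL
          refine le_antisymm (H11.maxFam_subset_of_mem inf_le_left hA (le_inf hA.1 hAL)) fun U hU => ?_
          exact H11.mem_maxFam_of_mem inf_le_left hU (le_inf hU.1 ((hcentW U hU (hall U hU)).trans hWL))
        show Cfsg.thompsonSubgroupOf p D = _
        rw [H11.thompsonSubgroupOf_eq, H11.thompsonSubgroupOf_eq]
        exact congrArg sSup hfam.symm
      have hX : (B ⊓ Subgroup.centralizer (J : Set G)).Normal := normal_of_normalizer_le S B _ inf_le_left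
        ((le_inf ((Subgroup.normalizer_eq_top_iff.mpr hBn).ge.trans' le_top)
          (hDL.trans (normalizer_le_normalizer_centralizer J))).trans
            Subgroup.inf_normalizer_le_normalizer_inf)
      have hBJ : B ≤ Subgroup.centralizer (J : Set G) :=
        (hclB _ hX fun z hz => ⟨hz.1, hz.2.2⟩).trans inf_le_right
      have hBZ : B ⊓ Z = B ⊓ J := le_antisymm (inf_le_inf_left B inf_le_left)
        fun z hz => ⟨hz.1, hz.2, hBJ hz.1⟩
      apply hgoal
      rw [hBZ]
      exact normal_of_normalizer_le S B _ inf_le_left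
        ((le_inf ((Subgroup.normalizer_eq_top_iff.mpr hBn).ge.trans' le_top) hDL).trans
          Subgroup.inf_normalizer_le_normalizer_inf)
    push Not at hall
    obtain ⟨U, hU, hUW⟩ := hall
    obtain ⟨A, hA, -, hAW, hAn⟩ := H11.exists_normalized_of_not_le (H11.replProp_elem p) hp D
      S.isPGroup' D W le_rfl (hWB.trans hBD) Subgroup.le_normalizer
      (by rw [Subgroup.normalizer_eq_top]; exact le_top) ⟨U, hU, hW' U hU, hUW⟩
    apply hAW
    -- `A` acts quadratically on `W`
    have hquad : ⁅⁅W, A⁆, A⁆ = ⊥ := by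
      rw [eq_bot_iff]
      refine (Subgroup.commutator_mono (Subgroup.commutator_le.mpr fun w hw a ha =>
        mul_mem (conj_mem_of_le_normalizer hAn hw ha) (inv_mem ha) : ⁅W, A⁆ ≤ A) le_rfl).trans ?_
      exact (Subgroup.commutator_eq_bot_iff_le_centralizer.mpr fun x hx y hy =>
        (H11.comm_of_mulCommutative hA.2.1.1 hy hx).eq).le
    have hAL : A ≤ L := by
      set CW := Subgroup.centralizer (W : Set G)
      refine (Subgroup.map_le_iff_le_comap.mp (hst W (hBp.to_le hWB) A hquad)).trans ?_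
      refine Subgroup.map_le_iff_le_comap.mp ?_
      have : (Cfsg.pCore p (G ⧸ CW)).Normal := H1.pCore_normal' p _
      have : (((Cfsg.pCore p (G ⧸ CW)).comap (QuotientGroup.mk' CW)).map (QuotientGroup.mk' C)).Normal :=
        (inferInstance : ((Cfsg.pCore p (G ⧸ CW)).comap (QuotientGroup.mk' CW)).Normal).map _
          (QuotientGroup.mk'_surjective C)
      refine H1.le_pCore ?_
      rintro ⟨_, g, hg, rfl⟩
      obtain ⟨k, hk⟩ := (H1.isPGroup_pCore p (G ⧸ CW)) ⟨_, hg⟩
      have hgk : g ^ p ^ k ∈ CW := by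
        rw [← QuotientGroup.eq_one_iff]
        simpa using congrArg Subtype.val hk
      obtain ⟨l, hl⟩ := (H1.isPGroup_pCore p (G ⧸ C)) ⟨_, hWL hgk⟩
      refine ⟨k + l, Subtype.ext ?_⟩
      have hl' := congrArg Subtype.val hl
      simp only [SubgroupClass.coe_pow, Subgroup.coe_one, ← map_pow] at hl' ⊢
      rwa [← pow_mul, ← pow_add] at hl'
    have hX : (B ⊓ Subgroup.centralizer (Cfsg.thompsonSubgroupOf p (D ⊓ L) : Set G)).Normal :=
      normal_of_normalizer_le S B _ inf_le_left
        ((le_inf ((Subgroup.normalizer_eq_top_iff.mpr hBn).ge.trans' le_top)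
          ((normalizer_le_normalizer_thompsonOf _).trans (normalizer_le_normalizer_centralizer _))).trans
            Subgroup.inf_normalizer_le_normalizer_inf)
    have hAfam : A ∈ famElem p (D ⊓ L) := H11.mem_maxFam_of_mem inf_le_left hA (le_inf hA.1 hAL)
    have hBA : B ≤ Subgroup.centralizer (Cfsg.thompsonSubgroupOf p (D ⊓ L) : Set G) := by
      refine (hclB _ hX fun z hz => ⟨hz.1, Subgroup.centralizer_le ?_ hz.2.2⟩).trans inf_le_right
      rw [H11.thompsonSubgroupOf_eq, H11.thompsonSubgroupOf_eq]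
      exact sSup_le_sSup (H11.maxFam_subset_of_mem inf_le_left hA (le_inf hA.1 hAL))
    intro w hw
    refine H11.mem_of_commute_maxFam_elem hA (hBD hw.1) hw.2 fun a ha => hBA hw.1 a ?_
    show a ∈ Cfsg.thompsonSubgroupOf p (D ⊓ L)
    rw [H11.thompsonSubgroupOf_eq]
    exact le_sSup (α := Subgroup G) hAfam ha

/-- `Z(J(S)) O_{p'}(G)` is normal in a solvable group of odd order. -/
theorem zj_elem_sup_pPrimeCore_normal [Group.IsSolvable G] (hodd : Odd (Nat.card G)) (hp : p ≠ 2)
    (S : Sylow p G) :
    (Cfsg.centerThompsonOf p (S : Subgroup G) ⊔ Cfsg.pPrimeCore p G).Normal := by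
  have : (Cfsg.pPrimeCore p G).Normal := H1.pPrimeCore_normal' p G
  set N := Cfsg.pPrimeCore p G
  set f := QuotientGroup.mk' N
  have hN : ¬ p ∣ Nat.card N :=
    (Fact.out : p.Prime).coprime_iff_not_dvd.mp (H1.card_pPrimeCore_coprime p G).symm
  have hinj : Set.InjOn f (S : Subgroup G) := injOn_mk'_of_isPGroup hN S.isPGroup'
  have hf : Function.Surjective f := QuotientGroup.mk'_surjective N
  have hodd' : Odd (Nat.card (G ⧸ N)) := hodd.of_dvd_nat (Subgroup.card_quotient_dvd_card N)
  have h := zj_elem_normal hp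
    (H10.centralizer_pCore_le H10.isPSolvable_of_isSolvable H10.pPrimeCore_quotient_pPrimeCore)
    (fun M _ hM A hq => quad_map_le_pCore_of_normal hodd' hp hM hq) (S.mapSurjective hf)
  have hmap : (Cfsg.centerThompsonOf p (S : Subgroup G)).map f =
      Cfsg.centerThompsonOf p ((S.mapSurjective hf : Sylow p (G ⧸ N)) : Subgroup (G ⧸ N)) := by
    rw [Cfsg.centerThompsonOf, map_inf_centralizer f (thompsonOf_le _) hinj,
      H1.map_thompsonSubgroupOf p f _ (Subgroup.disjoint_def.mpr fun {x} hx hxk =>
        hinj hx (one_mem _) (by rw [MonoidHom.mem_ker.mp hxk, map_one]))]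
    rfl
  have h' := h.comap f
  rwa [← hmap, Subgroup.comap_map_eq, QuotientGroup.ker_mk'] at h'

end H84
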