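import Cfsg.Prelude.Def_Local
import Cfsg.Prelude.Def_OddOrderLocal
import Cfsg.Agent.H1.Cores
import Cfsg.Agent.H84.Invariant
import Cfsg.Agent.H84.NoncyclicFixed
import Cfsg.Agent.H84.Constrained

/-!
The transitivity theorem for a group with `p`-constrained `p`-local subgroups.
-/

set_option autoImplicit false

namespace H84

variable {G : Type*} [Group G] [Finite G]

theorem isPGroup_of_mem_invSubgroups {q : ℕ} [Fact q.Prime] {Q : Subgroup G}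
    (h : ∀ r : ℕ, r.Prime → r ∣ Nat.card Q → r ∈ ({q} : Set ℕ)) : IsPGroup q Q :=
  IsPGroup.of_card (Nat.eq_prime_pow_of_unique_prime_dvd Nat.card_pos.ne'
    fun hd hdvd => Set.mem_singleton_iff.mp (h _ hd hdvd))

theorem mem_prime_of_isPGroup {q : ℕ} [Fact q.Prime] {Q : Subgroup G} (hQ : IsPGroup q Q)
    (r : ℕ) (hr : r.Prime) (hd : r ∣ Nat.card Q) : r ∈ ({q} : Set ℕ) := by
  obtain ⟨n, hn⟩ := IsPGroup.iff_card.mp hQ
  rw [hn] at hd
  exact Set.mem_singleton_iff.mpr ((Nat.prime_dvd_prime_iff_eq hr Fact.out).mp (hr.dvd_of_dvd_pow hd))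

theorem cmap_mem_maxInvSubgroups {E Q : Subgroup G} {π : Set ℕ} {r : G}
    (hr : r ∈ Subgroup.centralizer (E : Set G)) (hQ : Q ∈ Cfsg.maxInvSubgroups ⊤ E π) :
    cmap r Q ∈ Cfsg.maxInvSubgroups ⊤ E π := by
  have key : ∀ s ∈ Subgroup.centralizer (E : Set G), ∀ R : Subgroup G,
      R ∈ Cfsg.invSubgroups ⊤ E π → cmap s R ∈ Cfsg.invSubgroups ⊤ E π := by
    rintro s hs R ⟨-, hR1, hR2⟩
    refine ⟨le_top, fun t ht hd => hR1 t ht (card_cmap s R ▸ hd), fun e he => ?_⟩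
    rw [← cmap_eq_iff_mem_normalizer, cmap_mul, Subgroup.mem_centralizer_iff.mp hs e he, ← cmap_mul,
      cmap_eq_iff_mem_normalizer.mpr (hR2 he)]
  refine ⟨key r hr Q hQ.1, fun R hR hle => ?_⟩
  have h1 := hQ.2 _ (key r⁻¹ (Subgroup.inv_mem _ hr) R hR)
    (by rw [← cmap_cancel r Q]; exact cmap_mono _ hle)
  rw [← h1, cmap_mul, mul_inv_cancel, cmap_one]

/-- Transitivity of `O_{p'}(C(E))` on the maximal `E`-invariant `q`-subgroups. -/
theorem transitivity {p : ℕ} [Fact p.Prime]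
    (hloc : ∀ T : Subgroup G, IsPGroup p T → T ≠ ⊥ →
      Cfsg.IsPConstrained p ↥(Subgroup.normalizer (T : Set G)))
    (h2 : p = 2 → ∀ S : Subgroup G, IsPGroup p S → ⁅⁅S, S⁆, S⁆ = ⊥)
    (E : Subgroup G) (hEp : IsPGroup p E) (hEc : ∀ a ∈ E, ∀ b ∈ E, a * b = b * a)
    (E₀ : Subgroup G) (hE₀ : E₀ ≤ E) (hE₀p : ∀ a ∈ E₀, a ^ p = 1) (hE₀c : p ^ 2 < Nat.card E₀)
    (hEfull : ∀ x ∈ Subgroup.centralizer (E : Set G), IsPGroup p (Subgroup.zpowers x) → x ∈ E)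
    (q : ℕ) [Fact q.Prime] (hqp : q ≠ p) :
    ∀ Q₁ ∈ Cfsg.maxInvSubgroups ⊤ E {q}, ∀ Q₂ ∈ Cfsg.maxInvSubgroups ⊤ E {q},
      ∃ k ∈ Cfsg.piCoreOf (Cfsg.primesNotDvd p) (Subgroup.centralizer (E : Set G)),
        Q₂ = cmap k Q₁ := by
  have hp := (Fact.out : p.Prime)
  have hq := (Fact.out : q.Prime)
  set D := Cfsg.piCoreOf (Cfsg.primesNotDvd p) (Subgroup.centralizer (E : Set G)) with hD
  have hnd : ∀ Q : Subgroup G, IsPGroup q Q → ¬ p ∣ Nat.card Q := by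
    intro Q hQ h
    exact hqp (Set.mem_singleton_iff.mp (mem_prime_of_isPGroup hQ p hp h)).symm
  -- the `p'`-core of the centraliser of an element of order `p` of `E`
  have hkey : ∀ b ∈ E, b ≠ 1 → b ^ p = 1 → ∃ K : Subgroup G,
      ¬ p ∣ Nat.card K ∧ Subgroup.centralizer ({b} : Set G) ≤ Subgroup.normalizer (K : Set G) ∧
      ∀ Q : Subgroup G, Q ≤ Subgroup.centralizer ({b} : Set G) → ¬ p ∣ Nat.card Q →
        E ≤ Subgroup.normalizer (Q : Set G) → Q ≤ K := by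
    intro b hbE hb1 hbp
    set L := Subgroup.normalizer ((Subgroup.zpowers b : Subgroup G) : Set G) with hL
    have hCL : Subgroup.centralizer ({b} : Set G) ≤ L := by
      intro x hx
      refine Subgroup.centralizer_le_normalizer _ ?_
      rw [Subgroup.zpowers_eq_closure, Subgroup.centralizer_closure]
      exact hx
    have hEC : E ≤ Subgroup.centralizer ({b} : Set G) := fun e he =>
      Subgroup.mem_centralizer_singleton_iff.mpr (hEc e he b hbE)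
    have hEL : E ≤ L := hEC.trans hCL
    have hcons : Cfsg.IsPConstrained p ↥L := hloc (Subgroup.zpowers b) (hEp.to_le (Subgroup.zpowers_le.mpr hbE))
      (by rwa [Subgroup.zpowers_ne_bot])
    have := H1.pPrimeCore_normal' p L
    refine ⟨(Cfsg.pPrimeCore p L).map L.subtype, ?_, ?_, ?_⟩
    · rw [Subgroup.card_map_of_injective L.subtype_injective]
      exact not_dvd_card_pPrimeCore p
    · refine le_normalizer_of_conj ?_
      rintro a ha _ ⟨k, hk, rfl⟩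
      exact ⟨⟨a, hCL ha⟩ * k * ⟨a, hCL ha⟩⁻¹, this.conj_mem k hk _, rfl⟩
    · intro Q hQC hQp hEQ
      have hQL : Q ≤ L := hQC.trans hCL
      rw [← Subgroup.map_subgroupOf_eq_of_le hQL]
      refine Subgroup.map_mono (inv_le_pPrimeCore hcons (E := E.subgroupOf L) hEp.comap_subtype ?_ ?_
        (fun h => hQp (h.trans (Subgroup.card_comap_dvd_of_injective _ _ Subtype.coe_injective))) ?_)
      · intro x hx hxp
        refine Subgroup.mem_subgroupOf.mpr (hEfull x ?_ ?_)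
        · exact Subgroup.mem_centralizer_iff.mpr fun e he => congrArg Subtype.val
            (Subgroup.mem_centralizer_iff.mp hx ⟨e, hEL he⟩ (Subgroup.mem_subgroupOf.mpr he))
        · have := hxp.map L.subtype
          rwa [MonoidHom.map_zpowers] at this
      · intro hp2 S hS
        rw [← Subgroup.map_eq_bot_iff_of_injective _ L.subtype_injective, Subgroup.map_commutator,
          Subgroup.map_commutator]
        exact h2 hp2 _ (hS.map _)
      · exact le_normalizer_of_conj fun a ha x hx => Subgroup.mem_subgroupOf.mpr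
          (conj_mem_of_le_normalizer hEQ (Subgroup.mem_subgroupOf.mp ha) (Subgroup.mem_subgroupOf.mp hx))
  -- an element of order `p`
  obtain ⟨b₀, hb₀E, hb₀1, hb₀p⟩ : ∃ b ∈ E, b ≠ 1 ∧ b ^ p = 1 := by
    obtain ⟨b, hb, hb1⟩ := (E₀.bot_or_exists_ne_one).resolve_left (fun h => by
      rw [h, Subgroup.card_bot] at hE₀c
      have : 1 ≤ p ^ 2 := Nat.one_le_pow _ _ hp.pos
      omega)
    exact ⟨b, hE₀ hb, hb1, hE₀p b hb⟩
  -- `p'`-elements centralising `E` lie in `D`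
  have hmemD : ∀ k ∈ Subgroup.centralizer (E : Set G), ¬ p ∣ orderOf k → k ∈ D := by
    intro k hk hkp
    obtain ⟨K, hKp, hKn, hKQ⟩ := hkey b₀ hb₀E hb₀1 hb₀p
    have hCE : Subgroup.centralizer (E : Set G) ≤ Subgroup.centralizer ({b₀} : Set G) :=
      Subgroup.centralizer_le (Set.singleton_subset_iff.mpr hb₀E)
    have hkK : k ∈ K := hKQ (Subgroup.zpowers k) ((Subgroup.zpowers_le.mpr hk).trans hCE)
      (by rw [Nat.card_zpowers]; exact hkp)
      (by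
        intro e he
        refine Subgroup.centralizer_le_normalizer _ ?_
        rw [Subgroup.zpowers_eq_closure, Subgroup.centralizer_closure]
        exact Subgroup.mem_centralizer_singleton_iff.mpr (Subgroup.mem_centralizer_iff.mp hk e he))
      (Subgroup.mem_zpowers k)
    set C := Subgroup.centralizer (E : Set G)
    have hN : (K.subgroupOf C).Normal :=
      ⟨fun x hx a => Subgroup.mem_subgroupOf.mpr
        (conj_mem_of_le_normalizer (hCE.trans hKn) a.2 (Subgroup.mem_subgroupOf.mp hx))⟩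
    refine ⟨⟨k, hk⟩, ?_, rfl⟩
    refine le_sSup (show K.subgroupOf C ∈ {N : Subgroup C | N.Normal ∧ ∀ r : ℕ, r.Prime →
      r ∣ Nat.card N → r ∈ Cfsg.primesNotDvd p} from ⟨hN, fun r hr hd => ⟨hr, fun hrp => ?_⟩⟩) hkK
    have : r = p := (Nat.prime_dvd_prime_iff_eq hr hp).mp hrp
    exact hKp (this ▸ hd.trans (Subgroup.card_comap_dvd_of_injective _ _ Subtype.coe_injective))
  intro Q₁
  suffices key : ∀ m : ℕ, ∀ Q₁ ∈ Cfsg.maxInvSubgroups ⊤ E {q},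
      ∀ Q₂ ∈ Cfsg.maxInvSubgroups ⊤ E {q}, Nat.card G - Nat.card ↥(Q₁ ⊓ Q₂) ≤ m →
      ∃ k ∈ D, Q₂ = cmap k Q₁ from fun h1 Q₂ h2 => key _ Q₁ h1 Q₂ h2 le_rfl
  clear Q₁
  intro m
  induction m using Nat.strong_induction_on with
  | _ m ih =>
  intro Q₁ hQ₁ Q₂ hQ₂ hm
  by_cases heq : Q₁ = Q₂
  · exact ⟨1, D.one_mem, by rw [cmap_one, heq]⟩
  have hq1 := isPGroup_of_mem_invSubgroups hQ₁.1.2.1
  have hq2 := isPGroup_of_mem_invSubgroups hQ₂.1.2.1
  set Q₀ := Q₁ ⊓ Q₂ with hQ₀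
  have hlt1 : Q₀ < Q₁ := lt_of_le_of_ne inf_le_left fun h =>
    heq (hQ₁.2 Q₂ hQ₂.1 (inf_eq_left.mp h)).symm
  have hlt2 : Q₀ < Q₂ := lt_of_le_of_ne inf_le_right fun h =>
    heq (hQ₂.2 Q₁ hQ₁.1 (inf_eq_right.mp h))
  have hEQ₀ : E ≤ Subgroup.normalizer (Q₀ : Set G) := le_normalizer_of_conj fun a ha x hx =>
    ⟨conj_mem_of_le_normalizer hQ₁.1.2.2 ha hx.1, conj_mem_of_le_normalizer hQ₂.1.2.2 ha hx.2⟩
  set N := Subgroup.normalizer (Q₀ : Set G) with hNdef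
  set K₀ := Q₀.subgroupOf N with hK₀
  have hK₀n : K₀.Normal := Subgroup.normal_subgroupOf_of_le_normalizer le_rfl
  set f := QuotientGroup.mk' K₀ with hf
  have hQ₀p : ¬ p ∣ Nat.card Q₀ := hnd _ (hq1.to_le hlt1.le)
  -- the two images in `N(Q₀)/Q₀`
  have himage : ∀ Q : Subgroup G, IsPGroup q Q → E ≤ Subgroup.normalizer (Q : Set G) → Q₀ < Q →
      IsPGroup q ((Q.subgroupOf N).map f) ∧ (Q.subgroupOf N).map f ≠ ⊥ ∧
      (E₀.subgroupOf N).map f ≤ Subgroup.normalizer (((Q.subgroupOf N).map f : Subgroup (N ⧸ K₀)) : Set (N ⧸ K₀)) := by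
    intro Q hQ hEQ hlt
    refine ⟨hQ.comap_subtype.map f, ?_, le_normalizer_map f ?_⟩
    · intro h
      rw [Subgroup.map_eq_bot_iff, hf, QuotientGroup.ker_mk', hK₀] at h
      have := hQ.isNilpotent
      have hlt' : Q₀.subgroupOf Q < ⊤ := lt_top_iff_ne_top.mpr fun htop =>
        (not_le_of_gt hlt) (Subgroup.subgroupOf_eq_top.mp htop)
      obtain ⟨x, hx, hx'⟩ := SetLike.exists_of_lt
        ((Group.normalizerCondition_of_isNilpotent (G := Q)) _ hlt')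
      have hxN : (x : G) ∈ N := by
        rw [← Subgroup.subgroupOf_normalizer_eq hlt.le] at hx
        exact hx
      exact hx' (Subgroup.mem_subgroupOf.mpr
        (Subgroup.mem_subgroupOf.mp (h (show (⟨x, hxN⟩ : N) ∈ Q.subgroupOf N from x.2))))
    · exact le_normalizer_of_conj fun a ha x hx => Subgroup.mem_subgroupOf.mpr
        (conj_mem_of_le_normalizer hEQ (hE₀ (Subgroup.mem_subgroupOf.mp ha))
          (Subgroup.mem_subgroupOf.mp hx))
  obtain ⟨hi1, hi1', hi1''⟩ := himage Q₁ hq1 hQ₁.1.2.2 hlt1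
  obtain ⟨hi2, hi2', hi2''⟩ := himage Q₂ hq2 hQ₂.1.2.2 hlt2
  have hE₀N : E₀ ≤ N := hE₀.trans hEQ₀
  have hEN0c : Nat.card (E₀.subgroupOf N) = Nat.card E₀ :=
    Nat.card_congr (Subgroup.subgroupOfEquivOfLe hE₀N).toEquiv
  obtain ⟨B, hBle, hBcard, hB⟩ := exists_large_fixed f (p := p) hqp
    (A := E₀.subgroupOf N) (fun a ha => Subtype.ext (hE₀p _ ha))
    (fun a ha b hb => Subtype.ext (hEc _ (hE₀ ha) _ (hE₀ hb))) hi1 hi1' hi1''
  obtain ⟨B', hB'le, hB'card, hB'⟩ := exists_large_fixed f (p := p) hqp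
    (A := B) (fun a ha => Subtype.ext (hE₀p _ (hBle ha)))
    (fun a ha b hb => Subtype.ext (hEc _ (hE₀ (hBle ha)) _ (hE₀ (hBle hb)))) hi2 hi2'
    ((Subgroup.map_mono hBle).trans hi2'')
  obtain ⟨b, hbB', hb1⟩ := (B'.bot_or_exists_ne_one).resolve_left (fun h => by
    rw [h, Subgroup.card_bot, mul_one] at hB'card
    rw [hEN0c] at hBcard
    have : p * Nat.card B ≤ p ^ 2 := by rw [sq]; exact Nat.mul_le_mul_left _ hB'card
    omega)
  have hbB : b ∈ B := hB'le hbB'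
  have hbE : (b : G) ∈ E := hE₀ (Subgroup.mem_subgroupOf.mp (hBle hbB))
  have hbp : (b : G) ^ p = 1 := hE₀p _ (Subgroup.mem_subgroupOf.mp (hBle hbB))
  have hb1' : (b : G) ≠ 1 := fun h => hb1 (Subtype.ext h)
  -- fixed points of `b` outside `Q₀`
  have hlift : ∀ (Q : Subgroup G) (C : Subgroup N), Q₀ ≤ Q → b ∈ C →
      (Q.subgroupOf N).map f ⊓ Subgroup.centralizer ((C.map f : Subgroup (N ⧸ K₀)) : Set (N ⧸ K₀)) ≠ ⊥ →
      ∃ y ∈ Q, y ∈ N ∧ y ∉ Q₀ ∧ y ∈ Subgroup.centralizer ({(b : G)} : Set G) := by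
    intro Q C hle hbC hne
    obtain ⟨z, ⟨hzQ, hzC⟩, hz1⟩ := (Subgroup.bot_or_exists_ne_one _).resolve_left hne
    obtain ⟨x, hx, rfl⟩ := hzQ
    have hcomm : f b * f x = f x * f b :=
      Subgroup.mem_centralizer_iff.mp hzC _ (Subgroup.mem_map_of_mem f hbC)
    have hxe : ∀ e ∈ Subgroup.zpowers b, x⁻¹ * (e * x * e⁻¹) ∈ K₀ := by
      intro e he
      rw [← QuotientGroup.ker_mk' K₀, MonoidHom.mem_ker]
      obtain ⟨i, rfl⟩ := Subgroup.mem_zpowers_iff.mp he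
      have h1 : Commute ((f b) ^ i) (f x) := Commute.zpow_left hcomm i
      simp only [map_mul, map_inv, map_zpow, ← hf, h1.eq, mul_inv_cancel_right, inv_mul_cancel]
    obtain ⟨k, hk, hxk⟩ := exists_fixed_in_coset (p := p) (E := Subgroup.zpowers b) (K := K₀)
      (IsPGroup.of_card_dvd_pow (n := 1) (by
        rw [Nat.card_zpowers, pow_one]; exact orderOf_dvd_of_pow_eq_one (Subtype.ext hbp)))
      (fun h => hQ₀p (h.trans (Subgroup.card_comap_dvd_of_injective _ _ Subtype.coe_injective)))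
      (by rw [Subgroup.normalizer_eq_top_iff.mpr hK₀n]; exact le_top) x hxe
    refine ⟨(x * k : N), Q.mul_mem (Subgroup.mem_subgroupOf.mp hx) (hle (Subgroup.mem_subgroupOf.mp hk)),
      (x * k).2, fun h => hz1 ?_, ?_⟩
    · have hxk0 : x * k ∈ K₀ := Subgroup.mem_subgroupOf.mpr h
      have : x ∈ K₀ := by simpa using K₀.mul_mem hxk0 (K₀.inv_mem hk)
      exact (QuotientGroup.eq_one_iff x).mpr this
    · exact Subgroup.mem_centralizer_singleton_iff.mpr (congrArg Subtype.val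
        (Subgroup.mem_centralizer_iff.mp hxk b (Subgroup.mem_zpowers b))).symm
  obtain ⟨y₁, hy₁Q, hy₁N, hy₁n, hy₁b⟩ := hlift Q₁ B hlt1.le hbB hB
  obtain ⟨y₂, hy₂Q, hy₂N, hy₂n, hy₂b⟩ := hlift Q₂ B' hlt2.le hbB' hB'
  obtain ⟨K, hKp, hKn, hKQ⟩ := hkey b hbE hb1' hbp
  have hEC : E ≤ Subgroup.centralizer ({(b : G)} : Set G) := fun e he =>
    Subgroup.mem_centralizer_singleton_iff.mpr (hEc e he b hbE)
  have hinfnorm : ∀ A B : Subgroup G, E ≤ Subgroup.normalizer (A : Set G) →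
      E ≤ Subgroup.normalizer (B : Set G) → E ≤ Subgroup.normalizer ((A ⊓ B : Subgroup G) : Set G) :=
    fun A B hA hB => le_normalizer_of_conj fun a ha x hx =>
      ⟨conj_mem_of_le_normalizer hA ha hx.1, conj_mem_of_le_normalizer hB ha hx.2⟩
  set X := K ⊓ N with hX
  set C := Subgroup.centralizer ({(b : G)} : Set G) with hC
  have hEX : E ≤ Subgroup.normalizer (X : Set G) :=
    hinfnorm K N (hEC.trans hKn) (hEQ₀.trans Subgroup.le_normalizer)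
  set R := X ⊔ Q₀ with hR
  have hRp : ¬ p ∣ Nat.card R := by
    intro h
    have hXn : X ≤ Subgroup.normalizer (Q₀ : Set G) := inf_le_right
    have h1 : Nat.card ↥(X ⊔ Q₀) ∣ Nat.card X * Nat.card Q₀ := by
      have := H1.card_sup_dvd_mul (X.subgroupOf N) K₀
      rw [← Subgroup.card_map_of_injective N.subtype_injective, Subgroup.map_sup,
        Subgroup.map_subgroupOf_eq_of_le hXn,
        Subgroup.map_subgroupOf_eq_of_le (Subgroup.le_normalizer : Q₀ ≤ N)] at this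
      rwa [Nat.card_congr (Subgroup.subgroupOfEquivOfLe hXn).toEquiv,
        Nat.card_congr (Subgroup.subgroupOfEquivOfLe (Subgroup.le_normalizer : Q₀ ≤ N)).toEquiv] at this
    rcases hp.dvd_mul.mp (h.trans h1) with h' | h'
    · exact hKp (h'.trans (Subgroup.card_dvd_of_le inf_le_left))
    · exact hQ₀p h'
  have hER : E ≤ Subgroup.normalizer (R : Set G) := by
    intro e he
    rw [← cmap_eq_iff_mem_normalizer, cmap, Subgroup.map_sup]
    exact congrArg₂ (· ⊔ ·) (cmap_eq_iff_mem_normalizer.mpr (hEX he))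
      (cmap_eq_iff_mem_normalizer.mpr (hEQ₀ he))
  -- invariant Sylow subgroups of `R` meeting `Q₁` and `Q₂` beyond `Q₀`
  have hS : ∀ Q : Subgroup G, IsPGroup q Q → E ≤ Subgroup.normalizer (Q : Set G) → Q₀ ≤ Q →
      ∀ y ∈ Q, y ∈ N → y ∈ C → ∃ S, IsSylIn q S R ∧ E ≤ Subgroup.normalizer (S : Set G) ∧
        Q₀ ≤ S ∧ y ∈ S ∧ y ∈ R := by
    intro Q hQ hEQ hle y hyQ hyN hyC
    have hW : Q ⊓ N ⊓ C ≤ K := hKQ _ inf_le_right (hnd _ (hQ.to_inf_left.to_inf_left))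
      (hinfnorm _ _ (hinfnorm _ _ hEQ (hEQ₀.trans Subgroup.le_normalizer))
        (hEC.trans Subgroup.le_normalizer))
    have hyR : y ∈ R := Subgroup.mem_sup_left ⟨hW ⟨⟨hyQ, hyN⟩, hyC⟩, hyN⟩
    obtain ⟨S, hS1, hS2, hS3⟩ := exists_inv_sylow_ge (q := q) hEp hRp hER
      (inf_le_right : Q ⊓ R ≤ R) hQ.to_inf_left (hinfnorm _ _ hEQ hER)
    exact ⟨S, hS1, hS2, fun x hx => hS3 ⟨hle hx, Subgroup.mem_sup_right hx⟩, hS3 ⟨hyQ, hyR⟩, hyR⟩
  obtain ⟨S₁, hS₁, hES₁, hS₁0, hS₁y, -⟩ := hS Q₁ hq1 hQ₁.1.2.2 hlt1.le y₁ hy₁Q hy₁N hy₁b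
  obtain ⟨S₂, hS₂, hES₂, hS₂0, hS₂y, -⟩ := hS Q₂ hq2 hQ₂.1.2.2 hlt2.le y₂ hy₂Q hy₂N hy₂b
  obtain ⟨r, hrR, hrC, hrS⟩ := exists_conj_inv_sylow hEp hRp hER hS₁ hES₁ hS₂ hES₂
  have hrD : r ∈ D := hmemD r hrC fun h => hRp (h.trans (by
    rw [← Nat.card_zpowers]; exact Subgroup.card_dvd_of_le (Subgroup.zpowers_le.mpr hrR)))
  obtain ⟨Q₃, hle3, hQ₃⟩ := Set.Finite.exists_le_maximal
    (s := Cfsg.invSubgroups (⊤ : Subgroup G) E {q}) (Set.toFinite _) (a := S₁)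
    ⟨le_top, fun t ht hd => mem_prime_of_isPGroup hS₁.2.1 t ht hd, hES₁⟩
  have hQ₃m : Q₃ ∈ Cfsg.maxInvSubgroups ⊤ E {q} :=
    ⟨hQ₃.prop, fun R hR hle => le_antisymm (hQ₃.2 hR hle) hle⟩
  have hQ₄m : cmap r Q₃ ∈ Cfsg.maxInvSubgroups ⊤ E {q} := cmap_mem_maxInvSubgroups hrC hQ₃m
  have hcG : ∀ H : Subgroup G, Nat.card H ≤ Nat.card G := fun H =>
    Nat.le_of_dvd Nat.card_pos H.card_subgroup_dvd_card
  have hbig : ∀ (Q S : Subgroup G) (y : G), Q₀ ≤ Q → Q₀ ≤ S → y ∈ Q → y ∈ S → y ∉ Q₀ →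
      Nat.card G - Nat.card ↥(Q ⊓ S) < m := by
    intro Q S y h1 h2 h3 h4 h5
    have hlt : Q₀ < Q ⊓ S := lt_of_le_of_ne (le_inf h1 h2) fun h => h5 (h ▸ ⟨h3, h4⟩)
    have h6 : Nat.card Q₀ < Nat.card ↥(Q ⊓ S) :=
      lt_of_le_of_ne (Subgroup.card_le_of_le hlt.le)
        fun h => hlt.ne (Subgroup.eq_of_le_of_card_ge hlt.le h.ge)
    have h7 := hcG (Q ⊓ S)
    omega
  obtain ⟨k, hk, hk'⟩ := ih _ (hbig Q₁ Q₃ y₁ hlt1.le (hS₁0.trans hle3) hy₁Q (hle3 hS₁y) hy₁n)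
    Q₁ hQ₁ Q₃ hQ₃m le_rfl
  have hle4 : S₂ ≤ cmap r Q₃ := hrS ▸ cmap_mono r hle3
  obtain ⟨l, hl, hl'⟩ := ih _ (hbig (cmap r Q₃) Q₂ y₂ (hS₂0.trans hle4) hlt2.le (hle4 hS₂y) hy₂Q hy₂n)
    (cmap r Q₃) hQ₄m Q₂ hQ₂ le_rfl
  exact ⟨l * r * k, D.mul_mem (D.mul_mem hl hrD) hk, by rw [hl', hk', cmap_mul, cmap_mul]⟩

end H84
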